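import Groth.Agent.HilbPoly.Stab
import Groth.Agent.QCoh.SubCompare
import Mathlib.Data.DFinsupp.WellFounded

/-!
# Saturations, and the quotient characterisations of semistability
-/

set_option linter.style.haveILetI false
set_option linter.unusedSectionVars false
set_option backward.isDefEq.respectTransparency false
set_option backward.isDefEq.respectTransparency.types false

universe u

open CategoryTheory CategoryTheory.Limits AlgebraicGeometry Polynomial StabCat TopologicalSpace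

noncomputable section

namespace Groth.Agent.HilbPoly

open Groth.Agent

/-- Coherent submodules satisfy the maximum condition. -/
theorem exists_maximal_coh {X : Scheme.{u}} [IsNoetherian X] {M : X.Modules} (hM : Coh.IsCoh M)
    (P : Subobject M → Prop) (hP : ∀ S, P S → Coh.IsCoh (S : X.Modules)) (h : ∃ S, P S) :
    ∃ S, P S ∧ ∀ T, P T → S ≤ T → T = S := by
  classical
  choose U hU hxU using fun x : X => QCoh.exists_affine_mem x
  obtain ⟨t, ht⟩ := isCompact_univ.elim_finite_subcover (fun x : X => (U x : Set X))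
    (fun x => (U x).2) (fun x _ => Set.mem_iUnion.2 ⟨x, hxU x⟩)
  let Φ : {S // P S} → ((i : t) → Submodule Γ(X, U i.1) Γ(M, U i.1)) :=
    fun S i => LinearMap.range (QCoh.appLin S.1.arrow (U i.1))
  have hcov : ∀ x : X, ∃ i : t, x ∈ U i.1 := fun x => by
    obtain ⟨y, hy, hx⟩ := Set.mem_iUnion₂.1 (ht (Set.mem_univ x))
    exact ⟨⟨y, hy⟩, hx⟩
  haveI : ∀ i : t, WellFoundedGT (Submodule Γ(X, U i.1) Γ(M, U i.1)) := fun i => by
    haveI := QCoh.finite_sections hM (hU i.1)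
    haveI : IsNoetherianRing Γ(X, U i.1) := IsLocallyNoetherian.component_noetherian ⟨U i.1, hU i.1⟩
    infer_instance
  haveI : WellFoundedGT ((i : t) → Submodule Γ(X, U i.1) Γ(M, U i.1)) :=
    ⟨(Pi.wellFoundedLT (α := fun i : t => (Submodule Γ(X, U i.1) Γ(M, U i.1))ᵒᵈ)).wf⟩
  have hwf : WellFounded (fun a b : (i : t) → Submodule Γ(X, U i.1) Γ(M, U i.1) => b < a) := wellFounded_gt
  obtain ⟨_, ⟨S, rfl⟩, hS⟩ := hwf.has_min (Set.range Φ) ⟨_, ⟨⟨h.choose, h.choose_spec⟩, rfl⟩⟩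
  refine ⟨S.1, S.2, fun T hT hle => ?_⟩
  have hle' : Φ S ≤ Φ ⟨T, hT⟩ := fun i => by
    show LinearMap.range (QCoh.appLin S.1.arrow (U i.1)) ≤ LinearMap.range (QCoh.appLin T.arrow (U i.1))
    rw [← Subobject.ofLE_arrow hle, QCoh.appLin_comp]
    exact LinearMap.range_comp_le_range _ _
  have heq : Φ ⟨T, hT⟩ = Φ S := by
    by_contra hne
    exact hS _ ⟨_, rfl⟩ (lt_of_le_of_ne hle' (Ne.symm hne))
  rw [← Subobject.mk_arrow T, ← Subobject.mk_arrow S.1]
  exact QCoh.subobject_eq_of_cover (hP _ hT).1 (hP _ S.2).1 hM.1 _ _ (fun i : t => U i.1)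
    (fun i => hU i.1) hcov fun i => congrFun heq i

lemma isCoh_of_iso {X : Scheme.{u}} {M N : X.Modules} (e : M ≅ N) (h : Coh.IsCoh M) : Coh.IsCoh N :=
  QCoh.isCoh_of_epi e.hom h ((QCoh.isQCoh_iff_iso e).1 h.1)

variable {X : Scheme.{u}} {k : Type u} [Field k] [X.Over (Spec (CommRingCat.of k))]
  [IsProper (X ↘ Spec (CommRingCat.of k))] {L : X.Modules} {d : ℕ}

/-- Hilbert polynomials are non-negative at large arguments. -/
lemma hilb_nonneg (hL : CohB1.IsAmple L) {F : X.Modules} (hF : Coh.IsCoh F)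
    (hd : topologicalKrullDim ↥(CohB1.support F) ≤ (d : WithBot ℕ∞)) {P : ℚ[X]}
    (hP : ShStab.IsHilbPoly k X L F P) : PolyLE 0 P := by
  by_cases h0 : IsZero F
  · rw [isHilbPoly_unique hP (hilb_isZero h0)]
    exact ⟨0, fun m _ => le_rfl⟩
  · obtain ⟨N, hN⟩ := hilb_eventually_pos hL hF h0 hd hP
    exact ⟨N, fun m hm => by rw [Polynomial.eval_zero]; exact (hN m hm).le⟩

lemma alpha_add (j : ℕ) (P Q : ℚ[X]) : alpha j (P + Q) = alpha j P + alpha j Q := by
  simp only [alpha, Polynomial.coeff_add]; ring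

/-- A short exact sequence from a monomorphism, with the Hilbert polynomial of the cokernel. -/
lemma cokernel_data (hL : CohB1.IsAmple L) {F G : X.Modules} (hF : Coh.IsCoh F) (hG : Coh.IsCoh G)
    (hd : topologicalKrullDim ↥(CohB1.support G) ≤ (d : WithBot ℕ∞)) (f : F ⟶ G) [Mono f] {pF pG : ℚ[X]}
    (hpF : ShStab.IsHilbPoly k X L F pF) (hpG : ShStab.IsHilbPoly k X L G pG) :
    Coh.IsCoh (cokernel f) ∧ topologicalKrullDim ↥(CohB1.support (cokernel f)) ≤ (d : WithBot ℕ∞) ∧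
      ShStab.IsHilbPoly k X L (cokernel f) (pG - pF) := by
  haveI : IsNoetherian X := CurveCohLib.isNoetherian_of_proper (k := k)
  have hQ := QCoh.isCoh_cokernel hF.1 hG f
  have hdQ := dim_epi hG hQ (cokernel.π f) hd
  obtain ⟨pQ, hpQ, -, -⟩ := exists_hilb (k := k) hL.1 hQ hdQ
  have hS : (ShortComplex.mk f (cokernel.π f) (cokernel.condition f)).ShortExact :=
    .mk' (ShortComplex.exact_of_g_is_cokernel _ (cokernelIsCokernel f)) inferInstance inferInstance
  have : pG = pF + pQ := isHilbPoly_unique hpG (hilb_add hL.1 hS hF hG hQ hpF hpQ)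
  exact ⟨hQ, hdQ, by rw [this, add_sub_cancel_left]; exact hpQ⟩

lemma kernel_data (hL : CohB1.IsAmple L) {E G : X.Modules} (hE : Coh.IsCoh E) (hG : Coh.IsCoh G)
    (hd : topologicalKrullDim ↥(CohB1.support E) ≤ (d : WithBot ℕ∞)) (π : E ⟶ G) [Epi π] {pE pG : ℚ[X]}
    (hpE : ShStab.IsHilbPoly k X L E pE) (hpG : ShStab.IsHilbPoly k X L G pG) :
    Coh.IsCoh (kernel π) ∧ topologicalKrullDim ↥(CohB1.support (kernel π)) ≤ (d : WithBot ℕ∞) ∧
      ShStab.IsHilbPoly k X L (kernel π) (pE - pG) := by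
  haveI : IsNoetherian X := CurveCohLib.isNoetherian_of_proper (k := k)
  have hK := QCoh.isCoh_kernel hE hG π
  have hdK := dim_mono hK hE (kernel.ι π) hd
  obtain ⟨pK, hpK, -, -⟩ := exists_hilb (k := k) hL.1 hK hdK
  have hS : (ShortComplex.mk (kernel.ι π) π (kernel.condition π)).ShortExact :=
    .mk' (ShortComplex.exact_kernel π) inferInstance inferInstance
  have : pE = pK + pG := isHilbPoly_unique hpE (hilb_add hL.1 hS hK hE hG hpK hpG)
  exact ⟨hK, hdK, by rw [this, add_sub_cancel_right]; exact hpK⟩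

/-- The saturation of a submodule: same multiplicity, larger polynomial, pure quotient. -/
theorem exists_saturation (hL : CohB1.IsAmple L) {E : X.Modules} (hE : Coh.IsCoh E)
    (hdE : topologicalKrullDim ↥(CohB1.support E) ≤ (d : WithBot ℕ∞)) {F : X.Modules} (ι : F ⟶ E) [Mono ι]
    (hF : Coh.IsCoh F) {pF : ℚ[X]} (hpF : ShStab.IsHilbPoly k X L F pF) :
    ∃ (F' : X.Modules) (ι' : F' ⟶ E) (l : F ⟶ F'), Mono ι' ∧ l ≫ ι' = ι ∧ Coh.IsCoh F' ∧
      ShStab.IsPure X (cokernel ι') d ∧ ∀ p : ℚ[X], ShStab.IsHilbPoly k X L F' p →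
        alpha d p = alpha d pF ∧ PolyLE pF p ∧ (IsIso l ∨ PolyLT pF p) := by
  haveI : IsNoetherian X := CurveCohLib.isNoetherian_of_proper (k := k)
  let P : Subobject E → Prop := fun S => Subobject.mk ι ≤ S ∧ Coh.IsCoh (S : X.Modules) ∧
    ∀ p : ℚ[X], ShStab.IsHilbPoly k X L (S : X.Modules) p → alpha d p = alpha d pF
  have hex : ∃ S, P S := by
    refine ⟨Subobject.mk ι, le_rfl, ?_, fun p hp => ?_⟩
    · exact isCoh_of_iso (Subobject.underlyingIso ι).symm hF
    · rw [isHilbPoly_unique (hilb_iso (Subobject.underlyingIso ι) hp) hpF]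
  obtain ⟨S, ⟨hle, hSc, hSa⟩, hmax⟩ := exists_maximal_coh hE P (fun _ h => h.2.1) hex
  let l : F ⟶ (S : X.Modules) := (Subobject.underlyingIso ι).inv ≫ Subobject.ofLE _ _ hle
  have hl : l ≫ S.arrow = ι := by simp [l]
  haveI : Mono l := by
    haveI : Mono (l ≫ S.arrow) := by rw [hl]; infer_instance
    exact mono_of_mono l S.arrow
  have hdS := dim_mono hSc hE S.arrow hdE
  obtain ⟨pS, hpS, -, -⟩ := exists_hilb (k := k) hL.1 hSc hdS
  obtain ⟨pE, hpE, -, -⟩ := exists_hilb (k := k) hL.1 hE hdE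
  obtain ⟨hQ, hdQ, hpQ⟩ := cokernel_data hL hSc hE hdE S.arrow hpS hpE
  refine ⟨(S : X.Modules), S.arrow, l, inferInstance, hl, hSc, ?_, fun p hp => ⟨hSa p hp, ?_⟩⟩
  · intro G g hg hG hG0
    haveI := hg
    refine le_antisymm (dim_mono hG hQ g hdQ) (le_of_not_gt fun hlt => hG0 ?_)
    have hdG := dim_mono hG hQ g hdQ
    obtain ⟨pG, hpG, -, hαG⟩ := exists_hilb (k := k) hL.1 hG hdG
    have hα0 : alpha d pG = 0 := by
      rw [hαG]
      exact_mod_cast iterD_eq_zero d (additive_euler k) _ List.length_replicate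
        (fun N hN => (List.eq_of_mem_replicate hN) ▸ hL.1) G hG hlt
    obtain ⟨hR, hdR, hpR⟩ := cokernel_data hL hG hQ hdQ g hpG hpQ
    let π : E ⟶ cokernel g := cokernel.π S.arrow ≫ cokernel.π g
    haveI : Epi π := epi_comp _ _
    obtain ⟨hK, hdK, hpK⟩ := kernel_data hL hE hR hdE π hpE hpR
    have hSK : S ≤ Subobject.mk (kernel.ι π) :=
      Subobject.le_mk_of_comm (kernel.lift π S.arrow (by simp [π])) (kernel.lift_ι _ _ _)
    have hpK' : ShStab.IsHilbPoly k X L (kernel π) (pS + pG) := by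
      rw [show pS + pG = pE - (pE - pS - pG) by abel]; exact hpK
    have hPK : P (Subobject.mk (kernel.ι π)) := by
      refine ⟨hle.trans hSK, isCoh_of_iso (Subobject.underlyingIso _).symm hK, fun p hp => ?_⟩
      rw [isHilbPoly_unique (hilb_iso (Subobject.underlyingIso _) hp) hpK', alpha_add, hα0, add_zero,
        hSa pS hpS]
    have heq := hmax _ hPK hSK
    have e : (kernel π) ≅ (S : X.Modules) := (Subobject.underlyingIso (kernel.ι π)).symm ≪≫ eqToIso (by rw [heq])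
    have : pS + pG = pS := isHilbPoly_unique (hilb_iso e hpK') hpS
    exact isZero_of_hilb_zero hL hG hdG (by rwa [add_eq_left.1 this] at hpG)
  · rw [isHilbPoly_unique hp hpS]
    obtain ⟨hC, hdC, hpC⟩ := cokernel_data hL hF hSc hdS l hpF hpS
    refine ⟨?_, ?_⟩
    · obtain ⟨N, hN⟩ := hilb_nonneg hL hC hdC hpC
      exact ⟨N, fun m hm => by have := hN m hm; simp only [eval_zero, eval_sub] at this; linarith⟩
    · by_cases hz : IsZero (cokernel l)
      · haveI : Epi l := Preadditive.epi_of_isZero_cokernel _ hz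
        exact Or.inl (isIso_of_mono_of_epi l)
      · obtain ⟨N, hN⟩ := hilb_eventually_pos hL hC hz hdC hpC
        exact Or.inr ⟨N, fun m hm => by have := hN m hm; simp only [eval_sub] at this; linarith⟩

section Char

/-- A quotient and its kernel, compared with the total module. -/
lemma red_kernel_iff {pE pG : ℚ[X]} :
    (RedLE d (pE - pG) pE ↔ RedLE d pE pG) ∧ (RedLT d (pE - pG) pE ↔ RedLT d pE pG) := by
  have e : ∀ m : ℕ, ((alpha d (pE - pG) • pE).eval (m : ℚ) - (alpha d pE • (pE - pG)).eval (m : ℚ)) =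
      (alpha d pE • pG).eval (m : ℚ) - (alpha d pG • pE).eval (m : ℚ) := fun m => by
    simp only [alpha, Polynomial.coeff_sub, Polynomial.eval_smul, smul_eq_mul, Polynomial.eval_sub]
    ring
  constructor <;> constructor <;> rintro ⟨N, hN⟩ <;> refine ⟨N, fun m hm => ?_⟩ <;>
    linarith [hN m hm, e m]

/-- Saturated submodules suffice. -/
theorem isSS_of_saturated (hL : CohB1.IsAmple L) {E : X.Modules} (hE : Coh.IsCoh E) (hp : ShStab.IsPure X E d)
    (h : ∀ (F : X.Modules) (ι : F ⟶ E), Mono ι → Coh.IsCoh F → ¬ IsZero F → ¬ IsIso ι →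
      ShStab.IsPure X (cokernel ι) d → ∀ (pF pE : ℚ[X]), ShStab.IsHilbPoly k X L F pF →
        ShStab.IsHilbPoly k X L E pE → RedLE d pF pE) :
    IsSS Coh.IsCoh (ShStab.IsHilbPoly k X L) d E ∧
      ((∀ (F : X.Modules) (ι : F ⟶ E), Mono ι → Coh.IsCoh F → ¬ IsZero F → ¬ IsIso ι →
        ShStab.IsPure X (cokernel ι) d → ∀ (pF pE : ℚ[X]), ShStab.IsHilbPoly k X L F pF →
          ShStab.IsHilbPoly k X L E pE → RedLT d pF pE) → IsSt Coh.IsCoh (ShStab.IsHilbPoly k X L) d E) := by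
  constructor
  · intro F ι hι hF h0 hi pF pE hpF hpE
    haveI := hι
    have hdE := dim_le_of_isPure hp hE
    obtain ⟨F', ι', l, hι', hl, hF', hpure, hprop⟩ := exists_saturation hL hE hdE ι hF hpF
    haveI := hι'
    obtain ⟨p', hp', -, -⟩ := exists_hilb (k := k) hL.1 hF' (dim_mono hF' hE ι' hdE)
    obtain ⟨hα, ⟨N, hN⟩, -⟩ := hprop p' hp'
    have hαF := alpha_pos hL hF (hp F ι hι hF h0) hpF
    have hαE : 0 ≤ alpha d pE := alpha_nonneg hL hE hdE hpE
    by_cases hiso : IsIso ι'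
    · obtain rfl : p' = pE := isHilbPoly_unique (hilb_iso (asIso ι') hp') hpE
      refine ⟨N, fun m hm => ?_⟩
      rw [hα, Polynomial.eval_smul, Polynomial.eval_smul]
      exact mul_le_mul_of_nonneg_left (hN m hm) hαF.le
    · have h0' : ¬ IsZero F' := fun hz => h0 ((IsZero.iff_id_eq_zero F).2 (by
        rw [← cancel_mono ι, ← hl, hz.eq_of_tgt l 0]; simp))
      obtain ⟨N', hN'⟩ := h F' ι' hι' hF' h0' hiso hpure p' pE hp' hpE
      refine ⟨max N N', fun m hm => ?_⟩
      have h1 := hN' m (le_trans (le_max_right _ _) hm)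
      have h2 := mul_le_mul_of_nonneg_left (hN m (le_trans (le_max_left _ _) hm)) hαE
      simp only [Polynomial.eval_smul, smul_eq_mul, hα] at h1 ⊢
      linarith
  · intro hst F ι hι hF h0 hi pF pE hpF hpE
    haveI := hι
    have hdE := dim_le_of_isPure hp hE
    obtain ⟨F', ι', l, hι', hl, hF', hpure, hprop⟩ := exists_saturation hL hE hdE ι hF hpF
    haveI := hι'
    obtain ⟨p', hp', -, -⟩ := exists_hilb (k := k) hL.1 hF' (dim_mono hF' hE ι' hdE)
    obtain ⟨hα, ⟨N, hN⟩, hstrict⟩ := hprop p' hp'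
    have hαF := alpha_pos hL hF (hp F ι hι hF h0) hpF
    have hαE : 0 ≤ alpha d pE := alpha_nonneg hL hE hdE hpE
    by_cases hiso : IsIso ι'
    · rcases hstrict with hli | ⟨N', hN'⟩
      · exact absurd (by rw [← hl]; haveI := hli; infer_instance) hi
      obtain rfl : p' = pE := isHilbPoly_unique (hilb_iso (asIso ι') hp') hpE
      refine ⟨N', fun m hm => ?_⟩
      rw [hα, Polynomial.eval_smul, Polynomial.eval_smul]
      exact mul_lt_mul_of_pos_left (hN' m hm) hαF
    · have h0' : ¬ IsZero F' := fun hz => h0 ((IsZero.iff_id_eq_zero F).2 (by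
        rw [← cancel_mono ι, ← hl, hz.eq_of_tgt l 0]; simp))
      obtain ⟨N', hN'⟩ := hst F' ι' hι' hF' h0' hiso hpure p' pE hp' hpE
      refine ⟨max N N', fun m hm => ?_⟩
      have h1 := hN' m (le_trans (le_max_right _ _) hm)
      have h2 := mul_le_mul_of_nonneg_left (hN m (le_trans (le_max_left _ _) hm)) hαE
      simp only [Polynomial.eval_smul, smul_eq_mul, hα] at h1 ⊢
      linarith

/-- The four descriptions of semistability, for any comparison compatible with them. -/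
theorem tfae_aux (hL : CohB1.IsAmple L) {E : X.Modules} (hE : Coh.IsCoh E) (h0 : ¬ IsZero E)
    (hp : ShStab.IsPure X E d) (R : ℚ[X] → ℚ[X] → Prop) (A : Prop)
    (hA : A ↔ ∀ (F : X.Modules) (ι : F ⟶ E), Mono ι → Coh.IsCoh F → ¬ IsZero F → ¬ IsIso ι →
        ∀ (pF pE : ℚ[X]), ShStab.IsHilbPoly k X L F pF → ShStab.IsHilbPoly k X L E pE → R pF pE)
    (hsat : (∀ (F : X.Modules) (ι : F ⟶ E), Mono ι → Coh.IsCoh F → ¬ IsZero F → ¬ IsIso ι →
        ShStab.IsPure X (cokernel ι) d → ∀ (pF pE : ℚ[X]), ShStab.IsHilbPoly k X L F pF →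
          ShStab.IsHilbPoly k X L E pE → R pF pE) → A)
    (hR : ∀ pE pG : ℚ[X], R (pE - pG) pE ↔ R pE pG) :
    [A, ∀ (F : X.Modules) (ι : F ⟶ E), Mono ι → Coh.IsCoh F → ¬ IsZero F → ¬ IsIso ι →
        ShStab.IsPure X (cokernel ι) d →
        ∀ (pF pE : ℚ[X]), ShStab.IsHilbPoly k X L F pF → ShStab.IsHilbPoly k X L E pE → R pF pE,
      ∀ (G : X.Modules) (π : E ⟶ G), Epi π → Coh.IsCoh G → ¬ IsIso π →
        ∀ (pE pG : ℚ[X]), ShStab.IsHilbPoly k X L E pE → ShStab.IsHilbPoly k X L G pG → 0 < alpha d pG →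
          R pE pG,
      ∀ (G : X.Modules) (π : E ⟶ G), Epi π → Coh.IsCoh G → ¬ IsZero G → ¬ IsIso π →
        ShStab.IsPure X G d →
        ∀ (pE pG : ℚ[X]), ShStab.IsHilbPoly k X L E pE → ShStab.IsHilbPoly k X L G pG → R pE pG].TFAE := by
  have hdE := dim_le_of_isPure hp hE
  tfae_have 1 → 3 := by
    intro h G π hπ hG hi pE pG hpE hpG hα
    haveI := hπ
    obtain ⟨hK, hdK, hpK⟩ := kernel_data hL hE hG hdE π hpE hpG
    refine (hR pE pG).1 ((hA.1 h) (kernel π) (kernel.ι π) inferInstance hK (fun hz => hi ?_) (fun hh => ?_)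
      _ pE hpK hpE)
    · haveI : Mono π := Preadditive.mono_of_kernel_zero (hz.eq_of_src _ _)
      exact isIso_of_mono_of_epi π
    · haveI := hh
      have hπ0 : π = 0 := by rw [← cancel_epi (kernel.ι π), kernel.condition, Limits.comp_zero]
      have hz : IsZero G := (IsZero.iff_id_eq_zero G).2 (by rw [← cancel_epi π]; simp [hπ0])
      rw [isHilbPoly_unique hpG (hilb_isZero hz)] at hα
      simp [alpha] at hα
  tfae_have 3 → 4 := by
    intro h G π hπ hG hG0 hi hGp pE pG hpE hpG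
    exact h G π hπ hG hi pE pG hpE hpG (alpha_pos hL hG (dim_of_isPure hGp hG hG0) hpG)
  tfae_have 4 → 2 := by
    intro h F ι hι hF hF0 hi hpure pF pE hpF hpE
    haveI := hι
    obtain ⟨hQ, hdQ, hpQ⟩ := cokernel_data hL hF hE hdE ι hpF hpE
    have h' := h (cokernel ι) (cokernel.π ι) inferInstance hQ
      (fun hz => hi (by haveI : Epi ι := Preadditive.epi_of_isZero_cokernel _ hz; exact isIso_of_mono_of_epi ι))
      (fun hh => hF0 ((IsZero.iff_id_eq_zero F).2 (by
        haveI := hh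
        have hι0 : ι = 0 := by rw [← cancel_mono (cokernel.π ι), cokernel.condition, Limits.zero_comp]
        rw [← cancel_mono ι]; simp [hι0]))) hpure pE (pE - pF) hpE hpQ
    have := (hR pE (pE - pF)).2 h'
    rwa [sub_sub_cancel] at this
  tfae_have 2 → 1 := hsat
  tfae_finish

theorem tfae_semistable (hL : CohB1.IsAmple L) {E : X.Modules} (hE : Coh.IsCoh E) (h0 : ¬ IsZero E)
    (hp : ShStab.IsPure X E d) :
    [ShStab.IsSemistable k X L E d,
      ∀ (F : X.Modules) (ι : F ⟶ E), Mono ι → Coh.IsCoh F → ¬ IsZero F → ¬ IsIso ι →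
        ShStab.IsPure X (cokernel ι) d →
        ∀ (pF pE : ℚ[X]), ShStab.IsHilbPoly k X L F pF → ShStab.IsHilbPoly k X L E pE → RedLE d pF pE,
      ∀ (G : X.Modules) (π : E ⟶ G), Epi π → Coh.IsCoh G → ¬ IsIso π →
        ∀ (pE pG : ℚ[X]), ShStab.IsHilbPoly k X L E pE → ShStab.IsHilbPoly k X L G pG → 0 < alpha d pG →
          RedLE d pE pG,
      ∀ (G : X.Modules) (π : E ⟶ G), Epi π → Coh.IsCoh G → ¬ IsZero G → ¬ IsIso π →
        ShStab.IsPure X G d →
        ∀ (pE pG : ℚ[X]), ShStab.IsHilbPoly k X L E pE → ShStab.IsHilbPoly k X L G pG → RedLE d pE pG].TFAE :=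
  tfae_aux hL hE h0 hp (RedLE d) _ ⟨fun h => h.2.2.2, fun h => ⟨hE, h0, hp, h⟩⟩
    (fun h => ⟨hE, h0, hp, (isSS_of_saturated hL hE hp h).1⟩) fun _ _ => red_kernel_iff.1

theorem tfae_stable (hL : CohB1.IsAmple L) {E : X.Modules} (hE : Coh.IsCoh E) (h0 : ¬ IsZero E)
    (hp : ShStab.IsPure X E d) :
    [ShStab.IsStable k X L E d,
      ∀ (F : X.Modules) (ι : F ⟶ E), Mono ι → Coh.IsCoh F → ¬ IsZero F → ¬ IsIso ι →
        ShStab.IsPure X (cokernel ι) d →
        ∀ (pF pE : ℚ[X]), ShStab.IsHilbPoly k X L F pF → ShStab.IsHilbPoly k X L E pE → RedLT d pF pE,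
      ∀ (G : X.Modules) (π : E ⟶ G), Epi π → Coh.IsCoh G → ¬ IsIso π →
        ∀ (pE pG : ℚ[X]), ShStab.IsHilbPoly k X L E pE → ShStab.IsHilbPoly k X L G pG → 0 < alpha d pG →
          RedLT d pE pG,
      ∀ (G : X.Modules) (π : E ⟶ G), Epi π → Coh.IsCoh G → ¬ IsZero G → ¬ IsIso π →
        ShStab.IsPure X G d →
        ∀ (pE pG : ℚ[X]), ShStab.IsHilbPoly k X L E pE → ShStab.IsHilbPoly k X L G pG → RedLT d pE pG].TFAE :=
  tfae_aux hL hE h0 hp (RedLT d) _ ⟨fun h => h.2.2.2, fun h => ⟨hE, h0, hp, h⟩⟩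
    (fun h => ⟨hE, h0, hp, (isSS_of_saturated hL hE hp fun F ι a b c e f pF pE g i =>
      let ⟨N, hN⟩ := h F ι a b c e f pF pE g i; ⟨N, fun m hm => (hN m hm).le⟩).2 h⟩)
    fun _ _ => red_kernel_iff.2

end Char

end Groth.Agent.HilbPoly
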