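import Groth.Agent.HilbPoly.Stab
import Mathlib.AlgebraicGeometry.AlgClosed.Basic
import Mathlib.RingTheory.LocalRing.Module
import Mathlib.LinearAlgebra.Eigenspace.Triangularizable

/-!
# Endomorphisms of modules all whose nonzero endomorphisms are invertible
-/

set_option linter.style.haveILetI false
set_option linter.unusedSectionVars false
set_option backward.isDefEq.respectTransparency false
set_option backward.isDefEq.respectTransparency.types false

universe u

open CategoryTheory CategoryTheory.Limits AlgebraicGeometry TopologicalSpace Opposite TensorProduct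

noncomputable section

namespace Groth.Agent.HilbPoly

open Groth.Agent

variable {X : Scheme.{u}}

/-- Multiplication by a global section. -/
def smulG (M : X.Modules) (a : Γ(X, ⊤)) : M ⟶ M :=
  ⟨PresheafOfModules.homMk
    { app := fun U => AddCommGrpCat.ofHom (AddMonoidHom.mk'
        (fun (m : Γ(M, U.unop)) => X.presheaf.map (homOfLE (le_top : U.unop ≤ ⊤)).op a • m) (fun m n => smul_add _ m n))
      naturality := fun U V i => by
        ext m
        show X.presheaf.map (homOfLE (le_top : V.unop ≤ ⊤)).op a • (show Γ(M, V.unop) from M.presheaf.map i m) =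
          M.presheaf.map i (X.presheaf.map (homOfLE (le_top : U.unop ≤ ⊤)).op a • (show Γ(M, U.unop) from m))
        erw [PresheafOfModules.map_smul M.val]
        congr 1
        exact (congrArg (fun φ => φ a) (X.presheaf.map_comp (homOfLE (le_top : U.unop ≤ ⊤)).op i)) }
    (fun U (r : Γ(X, U.unop)) (m : Γ(M, U.unop)) =>
      smul_comm (X.presheaf.map (homOfLE (le_top : U.unop ≤ ⊤)).op a) r m)⟩

lemma smulG_app (M : X.Modules) (a : Γ(X, ⊤)) (U : X.Opens) (m : Γ(M, U)) :
    (smulG M a).app U m = X.presheaf.map (homOfLE (le_top : U ≤ ⊤)).op a • m := rfl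

lemma stalk_smulG (M : X.Modules) (a : Γ(X, ⊤)) (x : X) (z : (DerSch.stalkFunctor X x).obj M) :
    (DerSch.stalkFunctor X x).map (smulG M a) z = X.presheaf.germ ⊤ x trivial a • z := by
  obtain ⟨U, hxU, m, rfl⟩ := M.presheaf.germ_exist z
  refine (DerSch.stalkFunctor_map_germ x (smulG M a) U hxU m).trans ?_
  erw [smulG_app, PresheafOfModules.germ_smul, X.presheaf.germ_res_apply]
  rfl

variable {k : Type u} [Field k] (f : X ⟶ Spec (CommRingCat.of k))

lemma residue_toGlobal (x : X) (c : k) :
    IsLocalRing.residue (X.presheaf.stalk x) (X.presheaf.germ ⊤ x trivial (Coh.toGlobal f c)) =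
      (Spec.preimage (X.fromSpecResidueField x ≫ f)) c := by
  have h := congrArg Scheme.Hom.appTop (Spec.map_preimage (X.fromSpecResidueField x ≫ f))
  rw [Scheme.fromSpecResidueField, Category.assoc, Scheme.Hom.comp_appTop, Scheme.Hom.comp_appTop,
    Scheme.fromSpecStalk_appTop] at h
  have h2 := congrArg (fun φ => (Scheme.ΓSpecIso (CommRingCat.of k)).inv ≫ φ ≫
    (Scheme.ΓSpecIso (X.residueField x)).hom) h
  simp only [Scheme.Hom.appTop, Category.assoc] at h2
  have hnat := Scheme.ΓSpecIso_naturality (Spec.preimage (X.fromSpecResidueField x ≫ f))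
  simp only [Scheme.Hom.appTop] at hnat
  erw [hnat, Iso.inv_hom_id_assoc] at h2
  simp at h2
  exact (congrArg (fun φ => φ c) h2).symm

variable [IsAlgClosed k] [LocallyOfFiniteType f]

lemma exists_residue_eq {x : X} (hx : IsClosed ({x} : Set X)) (b : IsLocalRing.ResidueField (X.presheaf.stalk x)) :
    ∃ c : k, IsLocalRing.residue (X.presheaf.stalk x) (X.presheaf.germ ⊤ x trivial (Coh.toGlobal f c)) = b := by
  refine ⟨(residueFieldIsoBase f x hx).hom b, ?_⟩
  rw [residue_toGlobal]
  exact (residueFieldIsoBase f x hx).hom_inv_id_apply b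

include f in
lemma isAlgClosed_residue {x : X} (hx : IsClosed ({x} : Set X)) :
    IsAlgClosed (IsLocalRing.ResidueField (X.presheaf.stalk x)) :=
  IsAlgClosed.of_ringEquiv k _ (residueFieldIsoBase f x hx).symm.commRingCatIsoToRingEquiv

/-- If every nonzero endomorphism is invertible, every endomorphism is a scalar. -/
theorem exists_scalar [QuasiCompact f] {E : X.Modules} (hE : Coh.IsCoh E) (h0 : ¬ IsZero E)
    (hiso : ∀ ψ : E ⟶ E, ψ ≠ 0 → IsIso ψ) (φ : E ⟶ E) :
    ∃ c : k, φ = smulG E (Coh.toGlobal f c) := by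
  haveI : CompactSpace X := HasAffineProperty.iff_of_isAffine.1 ‹QuasiCompact f›
  have hne : (CohB1.support E).Nonempty := by
    rw [Set.nonempty_iff_ne_empty]
    exact fun hs => h0 (CurveCohLib.isZero_of_subsingleton_stalks fun x => not_not.1
      fun hx => Set.eq_empty_iff_forall_notMem.1 hs x hx)
  obtain ⟨x, hxS, hx⟩ := IsClosed.exists_closed_singleton (QCoh.isClosed_support_of_isFT hE.1 hE.2) hne
  haveI := isAlgClosed_residue f hx
  let A := X.presheaf.stalk x
  let κ := IsLocalRing.ResidueField A
  let Φ := DerSch.stalkFunctor X x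
  haveI : Module.Finite A (Φ.obj E) := by
    haveI : SheafOfModules.IsFiniteType (R := X.ringCatSheaf) E := hE.2
    exact FDescent.finite_stalk E x
  haveI : Nontrivial (κ ⊗[A] Φ.obj E) := not_subsingleton_iff_nontrivial.1 fun h =>
    hxS ((IsLocalRing.subsingleton_tensorProduct (R := A) (M := Φ.obj E)).1 h)
  obtain ⟨lam, hlam⟩ := Module.End.exists_eigenvalue ((Φ.map φ).hom.baseChange κ)
  obtain ⟨v, hv⟩ := hlam.exists_hasEigenvector
  obtain ⟨c, hc⟩ := exists_residue_eq f hx lam
  refine ⟨c, sub_eq_zero.1 (by_contra fun hψ => ?_)⟩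
  haveI := hiso _ hψ
  have hinj : Function.Injective ((Φ.map (φ - smulG E (Coh.toGlobal f c))).hom.baseChange κ) := by
    let e := (asIso (Φ.map (φ - smulG E (Coh.toGlobal f c)))).toLinearEquiv
    exact (e.baseChange A κ _ _).injective
  refine hv.2 (hinj ?_)
  rw [map_zero]
  have h1 : (Φ.map (φ - smulG E (Coh.toGlobal f c))).hom =
      (Φ.map φ).hom - X.presheaf.germ ⊤ x trivial (Coh.toGlobal f c) • LinearMap.id := by
    haveI : Φ.Additive := DerSch.additive_stalkFunctor x
    rw [Functor.map_sub]
    exact LinearMap.ext fun z => by simp [Φ, stalk_smulG]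
  rw [h1, LinearMap.baseChange_sub, LinearMap.baseChange_smul, LinearMap.baseChange_id, LinearMap.sub_apply,
    hv.apply_eq_smul, LinearMap.smul_apply, LinearMap.id_apply, ← IsScalarTower.algebraMap_smul κ, ← hc]
  exact sub_self _

end Groth.Agent.HilbPoly
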