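import Groth.Agent.HilbPoly.Misc
import Groth.Agent.HilbPoly.Sat
import Groth.Agent.HilbPoly.Simple
import Groth.Agent.AmpleX.Proj
import Groth.Agent.AmpleVan.Pull
import Groth.Agent.PnCoh.Finite.TwistInv
import Groth.Agent.PnCoh.Finite.ProjSpace
import Groth.Agent.PicClLib.Basic
import Groth.Agent.H23.PicMul
import Groth.Prelude.Def_Pic13

/-!
# Hilbert polynomials of twists by a projective embedding; lexicographic stability
-/

set_option linter.style.haveILetI false
set_option linter.unusedSectionVars false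
set_option backward.isDefEq.respectTransparency false
set_option backward.isDefEq.respectTransparency.types false

universe u

open CategoryTheory CategoryTheory.Limits AlgebraicGeometry Polynomial StabCat TopologicalSpace

noncomputable section

namespace Groth.Agent.HilbPoly

open Groth.Agent

variable {k : Type u} [Field k]

/-- The coordinates of projective space. -/
def pnCoords (k : Type u) [Field k] (N : ℕ) : ULift.{u} (Fin (N + 1)) → MvPolynomial (Fin (N + 1)) k :=
  fun j => MvPolynomial.X j.down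

lemma pnCoords_cover (N : ℕ) :
    ⨆ j, PnCoh.Finite.D (CohB1.polyGrading N k) (pnCoords k N j) = ⊤ := by
  refine top_le_iff.1 ?_
  refine le_trans (PnCoh.iSup_mOpen_single (ι := Fin (N + 1)) (R := k)).ge ?_
  exact iSup_le fun j => le_iSup_of_le (ULift.up j) le_rfl

lemma isAmple_twist_one_pn (N : ℕ) : CohB1.IsAmple (Twist.twistProjSpace N k 1) := by
  classical
  refine AmpleX.isAmple_twist_one _ (Finset.univ.image MvPolynomial.X) (fun g hg => ?_) ?_
  · obtain ⟨i, -, rfl⟩ := Finset.mem_image.1 hg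
    exact MvPolynomial.isHomogeneous_X k i
  · refine top_le_iff.1 ((PnCoh.iSup_mOpen_single (ι := Fin (N + 1)) (R := k)).ge.trans (iSup_le fun j => ?_))
    exact le_iSup_of_le ⟨_, Finset.mem_image.2 ⟨j, Finset.mem_univ _, rfl⟩⟩ le_rfl

lemma twist_tensorPow_pn (N m : ℕ) :
    Nonempty (Twist.twistProjSpace N k (m : ℤ) ≅ CohB1.tensorPow (Twist.twistProjSpace N k 1) m) :=
  PnCoh.Finite.twist_tensorPow_iso (pnCoords k N) (fun j => MvPolynomial.isHomogeneous_X k j.down)
    (pnCoords_cover N) m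

variable {X : Scheme.{u}}

lemma pull_tensorPow {Y : Scheme.{u}} (f : X ⟶ Y) (M : Y.Modules) (m : ℕ) :
    Nonempty ((Scheme.Modules.pullback f).obj (CohB1.tensorPow M m) ≅
      CohB1.tensorPow ((Scheme.Modules.pullback f).obj M) m) := by
  induction m with
  | zero => obtain ⟨e⟩ := PicClLib.nonempty_pullback_structureModule f; exact ⟨e⟩
  | succ m ih =>
    obtain ⟨e⟩ := ih
    obtain ⟨e'⟩ := H23.PicMul.pull f (CohB1.tensorPow M m) M
    exact ⟨e' ≪≫ (DCoh.tensorBi.mapIso e).app ((Scheme.Modules.pullback f).obj M)⟩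

variable [X.Over (Spec (CommRingCat.of k))] [IsProper (X ↘ Spec (CommRingCat.of k))]

/-- Twisting along an embedding gives the Hilbert polynomial of the pulled back `O(1)`. -/
lemma isHilbPoly_twistOn {N : ℕ} (ι : X ⟶ CohB1.ProjSpace N k) {E : X.Modules} {P : ℚ[X]}
    (hP : ∀ m : ℤ, (Curv2.euler k X (Pic13.twistOn k ι E m) : ℚ) = P.eval (m : ℚ)) :
    ShStab.IsHilbPoly k X ((Scheme.Modules.pullback ι).obj (Twist.twistProjSpace N k 1)) E P := by
  intro m
  obtain ⟨e₁⟩ := twist_tensorPow_pn (k := k) N m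
  obtain ⟨e₂⟩ := pull_tensorPow ι (Twist.twistProjSpace N k 1) m
  have h : Curv2.euler k X (ShStab.twist X ((Scheme.Modules.pullback ι).obj (Twist.twistProjSpace N k 1)) E m) =
      Curv2.euler k X (Pic13.twistOn k ι E (m : ℤ)) :=
    (additive_euler k).iso _ _
      ⟨(DCoh.tensorBi.obj E).mapIso (e₂.symm ≪≫ (Scheme.Modules.pullback ι).mapIso e₁.symm)⟩
  rw [h]
  exact_mod_cast hP m

lemma twistOn_of_isHilbPoly {N : ℕ} (ι : X ⟶ CohB1.ProjSpace N k) {E : X.Modules} {P : ℚ[X]}
    (hP : ShStab.IsHilbPoly k X ((Scheme.Modules.pullback ι).obj (Twist.twistProjSpace N k 1)) E P) (m : ℕ) :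
    (Curv2.euler k X (Pic13.twistOn k ι E (m : ℤ)) : ℚ) = P.eval (m : ℚ) := by
  obtain ⟨e₁⟩ := twist_tensorPow_pn (k := k) N m
  obtain ⟨e₂⟩ := pull_tensorPow ι (Twist.twistProjSpace N k 1) m
  have h : Curv2.euler k X (ShStab.twist X ((Scheme.Modules.pullback ι).obj (Twist.twistProjSpace N k 1)) E m) =
      Curv2.euler k X (Pic13.twistOn k ι E (m : ℤ)) :=
    (additive_euler k).iso _ _
      ⟨(DCoh.tensorBi.obj E).mapIso (e₂.symm ≪≫ (Scheme.Modules.pullback ι).mapIso e₁.symm)⟩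
  rw [← h]
  exact hP m

lemma isAmple_pullback_pn {N : ℕ} (ι : X ⟶ CohB1.ProjSpace N k) [IsClosedImmersion ι] :
    CohB1.IsAmple ((Scheme.Modules.pullback ι).obj (Twist.twistProjSpace N k 1)) := by
  haveI : IsNoetherian X := CurveCohLib.isNoetherian_of_proper (k := k)
  exact AmpleVan.isAmple_pullback_of_isEmbedding ι ι.isClosedEmbedding.isEmbedding (isAmple_twist_one_pn N)

/-- Hilbert polynomials describe all twists, the negative ones too. -/
lemma twistOn_poly {N : ℕ} (ι : X ⟶ CohB1.ProjSpace N k) [IsClosedImmersion ι] {F : X.Modules}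
    (hF : Coh.IsCoh F) {d : ℕ} (hd : topologicalKrullDim ↥(CohB1.support F) ≤ (d : WithBot ℕ∞)) {Q : ℚ[X]}
    (hQ : ShStab.IsHilbPoly k X ((Scheme.Modules.pullback ι).obj (Twist.twistProjSpace N k 1)) F Q) (m : ℤ) :
    (Curv2.euler k X (Pic13.twistOn k ι F m) : ℚ) = Q.eval (m : ℚ) := by
  haveI : IsNoetherian X := CurveCohLib.isNoetherian_of_proper (k := k)
  have hL : CohB1.IsAmple ((Scheme.Modules.pullback ι).obj (Twist.twistProjSpace N k 1)) := isAmple_pullback_pn ι
  let O : ℤ → X.Modules := fun a => (Scheme.Modules.pullback ι).obj (Twist.twistProjSpace N k a)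
  have hadd : ∀ a b : ℤ, Nonempty (CohB1.tensorMod (O a) (O b) ≅ O (a + b)) := fun a b => by
    obtain ⟨e⟩ := PnCoh.Finite.twist_tensor_iso (pnCoords k N)
      (fun j => MvPolynomial.isHomogeneous_X k j.down) (pnCoords_cover N) a b
    obtain ⟨e'⟩ := H23.PicMul.pull ι (Twist.twistProjSpace N k a) (Twist.twistProjSpace N k b)
    exact ⟨e'.symm ≪≫ (Scheme.Modules.pullback ι).mapIso e⟩
  have hinv : ∀ a : ℤ, PicF.IsInvertible (O a) := fun a =>
    PicClLib.isInvertible_pullback ι (PnCoh.Finite.isInvertible_twist (pnCoords k N)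
      (fun j => MvPolynomial.isHomogeneous_X k j.down) (pnCoords_cover N) a)
  have hcomp : ∀ a b : ℤ, Nonempty (Pic13.twistOn k ι (Pic13.twistOn k ι F a) b ≅ Pic13.twistOn k ι F (a + b)) := by
    intro a b
    obtain ⟨e⟩ := hadd a b
    obtain ⟨e'⟩ := H23.PicMul.assoc F (O a) (O b)
    exact ⟨e' ≪≫ (DCoh.tensorBi.obj F).mapIso e⟩
  obtain ⟨M, hM⟩ : ∃ M : ℕ, -(M : ℤ) ≤ m := ⟨m.natAbs, by omega⟩
  let G := Pic13.twistOn k ι F (-(M : ℤ))
  have hG : Coh.IsCoh G := AmpleVan.isCoh_tensor hF (AmpleVan.isCoh_invertible (hinv _))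
  have hdG : topologicalKrullDim ↥(CohB1.support G) ≤ (d : WithBot ℕ∞) :=
    (H23.TopDim.dim_le_dim_of_subset (support_tensor_subset _ _)).trans hd
  obtain ⟨R, hR, -, -⟩ := exists_hilb (k := k) hL.1 hG hdG
  have hG' : ∀ j : ℕ, (Curv2.euler k X (Pic13.twistOn k ι F (-(M : ℤ) + j)) : ℚ) = R.eval (j : ℚ) := fun j => by
    obtain ⟨e⟩ := hcomp (-(M : ℤ)) j
    rw [← twistOn_of_isHilbPoly ι hR j, (additive_euler k).iso _ _ ⟨e⟩]
  have heq : Q = R.comp (Polynomial.X + Polynomial.C (M : ℚ)) := poly_ext 0 fun j _ => by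
    rw [Polynomial.eval_comp, Polynomial.eval_add, Polynomial.eval_X, Polynomial.eval_C, ← twistOn_of_isHilbPoly ι hQ j]
    have h := hG' (j + M)
    rw [show (-(M : ℤ) + ((j + M : ℕ) : ℤ)) = (j : ℤ) by push_cast; ring] at h
    rw [h]
    push_cast
    rfl
  obtain ⟨j, hj⟩ : ∃ j : ℕ, m = -(M : ℤ) + j := ⟨(m + M).toNat, by omega⟩
  subst hj
  rw [hG' j, heq, Polynomial.eval_comp, Polynomial.eval_add, Polynomial.eval_X, Polynomial.eval_C]
  push_cast
  ring_nf

theorem ell_stable_isIso {N : ℕ} (ι : X ⟶ CohB1.ProjSpace N k) [IsClosedImmersion ι] {d ℓ : ℕ}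
    {E : X.Modules} (hE : Coh.IsCoh E) {P : ℚ[X]}
    (hP : ∀ m : ℤ, (Curv2.euler k X (Pic13.twistOn k ι E m) : ℚ) = P.eval (m : ℚ))
    (hpure : ShStab.IsPure X E d)
    (hst : ∀ (F : X.Modules) (j : F ⟶ E), Mono j → Coh.IsCoh F → ∀ Q : ℚ[X],
      (∀ m : ℤ, (Curv2.euler k X (Pic13.twistOn k ι F m) : ℚ) = Q.eval (m : ℚ)) →
        0 < Q.coeff d → Q.coeff d < P.coeff d →
          toLex (fun j : Fin ℓ => ((Q).coeff (d - 1 - (j : ℕ)) * (Nat.factorial (d - 1 - (j : ℕ)) : ℚ)) / ((Q).coeff d * (Nat.factorial d : ℚ))) < toLex (fun j : Fin ℓ => ((P).coeff (d - 1 - (j : ℕ)) * (Nat.factorial (d - 1 - (j : ℕ)) : ℚ)) / ((P).coeff d * (Nat.factorial d : ℚ))))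
    {φ : E ⟶ E} (hφ : φ ≠ 0) : IsIso φ := by
  haveI : IsNoetherian X := CurveCohLib.isNoetherian_of_proper (k := k)
  have hL : CohB1.IsAmple ((Scheme.Modules.pullback ι).obj (Twist.twistProjSpace N k 1)) := isAmple_pullback_pn ι
  have hpE := isHilbPoly_twistOn ι hP
  have hd := dim_le_of_isPure hpure hE
  obtain ⟨K, I, a, p, b, w, hfac, ha, hb, hp, hS, hKc, hIc⟩ := exists_factor (k := k) hE hE φ
  haveI := ha; haveI := hb; haveI := hp
  have hI0 : ¬ IsZero I := fun h => hφ (by rw [← hfac, h.eq_of_tgt p 0, Limits.zero_comp])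
  obtain ⟨pK, hpK, -, -⟩ := exists_hilb (k := k) hL.1 hKc (dim_mono hKc hE a hd)
  obtain ⟨pI, hpI, -, -⟩ := exists_hilb (k := k) hL.1 hIc (dim_mono hIc hE b hd)
  have hsum : P = pK + pI := isHilbPoly_unique hpE (hilb_add hL.1 hS hKc hE hIc hpK hpI)
  have hposI : 0 < pI.coeff d := by
    have := alpha_pos hL hIc (hpure I b hb hIc hI0) hpI
    unfold StabCat.alpha at this
    exact pos_of_mul_pos_right this (by positivity)
  have hK0 : IsZero K := by
    by_contra hK0
    have hposK : 0 < pK.coeff d := by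
      have := alpha_pos hL hKc (hpure K a ha hKc hK0) hpK
      unfold StabCat.alpha at this
      exact pos_of_mul_pos_right this (by positivity)
    obtain ⟨i, hi, hi'⟩ := hst K a ha hKc pK (twistOn_poly ι hKc (dim_mono hKc hE a hd) hpK) hposK
      (by rw [hsum, Polynomial.coeff_add]; linarith)
    obtain ⟨j, hj, hj'⟩ := hst I b hb hIc pI (twistOn_poly ι hIc (dim_mono hIc hE b hd) hpI) hposI
      (by rw [hsum, Polynomial.coeff_add]; linarith)
    have hD : (0 : ℚ) < (d.factorial : ℚ) := by positivity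
    let v : ℚ[X] → Fin ℓ → ℚ := fun Q j =>
      Q.coeff (d - 1 - (j : ℕ)) * (Nat.factorial (d - 1 - (j : ℕ)) : ℚ) / (Q.coeff d * (Nat.factorial d : ℚ))
    change ∀ r, r < i → v pK r = v P r at hi
    change v pK i < v P i at hi'
    change ∀ r, r < j → v pI r = v P r at hj
    change v pI j < v P j at hj'
    have key : ∀ r, (pK.coeff d + pI.coeff d) * v P r = pK.coeff d * v pK r + pI.coeff d * v pI r := fun r => by
      simp only [v, hsum, Polynomial.coeff_add]
      field_simp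
    have e1 : ∀ r, pI.coeff d * (v pI r - v P r) = - (pK.coeff d * (v pK r - v P r)) := fun r => by
      linear_combination -(key r)
    have h1 := e1 (min i j)
    rcases lt_trichotomy i j with h | h | h
    · rw [min_eq_left h.le, hj i h] at h1; nlinarith
    · subst h; rw [min_self] at h1; nlinarith
    · rw [min_eq_right h.le, hi j h] at h1; nlinarith
  haveI : Mono p := (ShortComplex.exact_iff_mono _ (hK0.eq_of_src a 0)).1 hS.exact
  haveI : Mono φ := by rw [← hfac]; exact mono_comp p b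
  obtain ⟨hQ, hdQ, hpQ⟩ := cokernel_data (k := k) hL hE hE hd φ hpE hpE
  rw [sub_self] at hpQ
  haveI : Epi φ := Preadditive.epi_of_isZero_cokernel _ (isZero_of_hilb_zero hL hQ hdQ hpQ)
  exact isIso_of_mono_of_epi φ

end Groth.Agent.HilbPoly
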