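import Groth.Agent.HilbPoly.Poly

/-!
# Positivity of multiplicities for an ample polarisation
-/

set_option linter.style.haveILetI false
set_option backward.isDefEq.respectTransparency false
set_option backward.isDefEq.respectTransparency.types false

universe u

open CategoryTheory CategoryTheory.Limits AlgebraicGeometry TopologicalSpace Opposite MonoidalCategory

attribute [local instance] HasDerivedCategory.standard

noncomputable section

namespace Groth.Agent.HilbPoly

open Groth.Agent

variable {X : Scheme.{u}}

/-- `M → M ⊗ N` given by a morphism `O → N`. -/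
def mulHom {N : X.Modules} (s : Coh.structureModule X ⟶ N) (M : X.Modules) :
    M ⟶ CohB1.tensorMod M N :=
  AmpleVan.twUnit.inv.app M ≫ ((DCoh.tensorBi (X := X)).obj M).map s

lemma isIso_restrict_mulHom {N : X.Modules} (s : Coh.structureModule X ⟶ N) (M : X.Modules) {U : X.Opens}
    [IsIso ((Scheme.Modules.restrictFunctor U.ι).map s)] :
    IsIso ((Scheme.Modules.restrictFunctor U.ι).map (mulHom s M)) := by
  have h : IsIso ((Scheme.Modules.restrictFunctor U.ι).map (((DCoh.tensorBi (X := X)).obj M).map s)) :=
    (NatIso.isIso_map_iff ((KFlatLib.restrictTensorBiIso U.ι).app M) s).2 (by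
      simp only [Functor.comp_map, Functor.whiskeringLeft_obj_obj, Functor.comp_obj]
      infer_instance)
  rw [mulHom, Functor.map_comp]
  haveI := h
  infer_instance

lemma mem_smul_top_of_tensor {R : Type u} [CommRing R] (I : Ideal R) {M P : ModuleCat.{u} R}
    {N : ModuleCat.{u} R} (f : P ⟶ N) (hf : ∀ p, f p ∈ I • (⊤ : Submodule R N)) (z : (M ⊗ P : ModuleCat.{u} R)) :
    (M ◁ f) z ∈ I • (⊤ : Submodule R (M ⊗ N : ModuleCat.{u} R)) := by
  induction z using TensorProduct.induction_on with
  | zero => rw [map_zero]; exact Submodule.zero_mem _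
  | tmul a p =>
    have h : (TensorProduct.mk R M N a) (f p) ∈ I • (⊤ : Submodule R (TensorProduct R M N)) := by
      have h' : (TensorProduct.mk R M N a) (f p) ∈ (I • (⊤ : Submodule R N)).map (TensorProduct.mk R M N a) :=
        Submodule.mem_map_of_mem (hf p)
      rw [Submodule.map_smul''] at h'
      exact Submodule.smul_mono le_rfl le_top h'
    exact h
  | add a b ha hb => rw [map_add]; exact Submodule.add_mem _ ha hb

/-- A point outside the generating locus stays in the support of the cokernel. -/
lemma mem_support_cokernel_mulHom [IsLocallyNoetherian X] {M N : X.Modules} (hM : Coh.IsCoh M)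
    (hN : PicF.IsInvertible N) (s : Coh.structureModule X ⟶ N) {x : X} (hxM : x ∈ CohB1.support M)
    (hxs : x ∉ CohB1.genLocus N s) : x ∈ CohB1.support (cokernel (mulHom s M)) := by
  let Φ := DerSch.stalkFunctor X x
  let 𝔪 := IsLocalRing.maximalIdeal (X.presheaf.stalk x)
  obtain ⟨W, hxW, e, he⟩ := InvX.exists_frame hN x
  obtain ⟨g, hg⟩ := he.exists_coord le_rfl (AModX.res N (le_top : W ≤ ⊤) (InvX.one s))
  rw [AModX.res_self] at hg
  have hgm : X.presheaf.germ W x hxW g ∈ 𝔪 := by
    refine (IsLocalRing.mem_maximalIdeal _).2 fun hu => hxs ?_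
    have := (InvX.genLocus_inf s he hg).ge ((X.mem_basicOpen g x hxW).2 hu)
    exact this.1
  have hs : ∀ p, Φ.map s p ∈ 𝔪 • (⊤ : Submodule (X.presheaf.stalk x) (Φ.obj N)) := by
    intro p
    obtain ⟨V, hxV, r, rfl⟩ := (Coh.structureModule X).presheaf.germ_exist p
    let W' := V ⊓ W
    have hxW' : x ∈ W' := ⟨hxV, hxW⟩
    rw [← (Coh.structureModule X).presheaf.germ_res_apply (homOfLE (inf_le_left : W' ≤ V)) x hxW' r]
    generalize (Coh.structureModule X).presheaf.map (homOfLE (inf_le_left : W' ≤ V)).op r = r'
    erw [DerSch.stalkFunctor_map_germ, InvX.app_eq_smul s (show Γ(X, W') from r')]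
    have h2 : AModX.res N (le_top : W' ≤ ⊤) (InvX.one s) =
        X.presheaf.map (homOfLE (inf_le_right : W' ≤ W)).op g • AModX.res N (inf_le_right : W' ≤ W) e := by
      have h3 := congrArg (AModX.res N (inf_le_right : W' ≤ W)) hg
      rw [AModX.res_res, AModX.res_smul] at h3
      exact h3
    rw [h2]
    erw [PresheafOfModules.germ_smul, PresheafOfModules.germ_smul]
    refine Submodule.smul_mem _ _ (Submodule.smul_mem_smul ?_ Submodule.mem_top)
    erw [X.presheaf.germ_res_apply]
    exact hgm
  intro hC
  let P := CohB1.tensorMod M N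
  have hP : Coh.IsCoh P := AmpleVan.isCoh_tensor hM (AmpleVan.isCoh_invertible hN)
  -- the stalk map is surjective
  have hex := (KFlatLib.exact_iff_stalk _).1
    (ShortComplex.exact_of_g_is_cokernel (ShortComplex.mk (mulHom s M) (cokernel.π (mulHom s M))
      (cokernel.condition _)) (cokernelIsCokernel _)) x
  haveI : Module.Finite (X.presheaf.stalk x) (Φ.obj P) := by
    haveI : SheafOfModules.IsFiniteType (R := X.ringCatSheaf) P := hP.2
    exact FDescent.finite_stalk P x
  have hsub : Subsingleton (Φ.obj P) := by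
    let e₁ : Φ.obj P ≅ (Φ.obj M ⊗ Φ.obj N : ModuleCat _) := (KFlatLib.stalkTensorLeftIso M x).app N
    have htop : (⊤ : Submodule (X.presheaf.stalk x) (Φ.obj M ⊗ Φ.obj N : ModuleCat _)) ≤
        𝔪 • (⊤ : Submodule (X.presheaf.stalk x) (Φ.obj M ⊗ Φ.obj N : ModuleCat _)) := by
      intro w _
      obtain ⟨y, hy⟩ := (ShortComplex.moduleCat_exact_iff _).1 hex (e₁.inv w)
        ((hC : Subsingleton ((cokernel (mulHom s M)).presheaf.stalk x)).elim _ _)
      change Φ.map (mulHom s M) y = e₁.inv w at hy
      have hnat := (KFlatLib.stalkTensorLeftIso M x).hom.naturality s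
      have h2 : w = (Φ.obj M ◁ Φ.map s)
          (((KFlatLib.stalkTensorLeftIso M x).app (Coh.structureModule X)).hom
            (Φ.map (AmpleVan.twUnit.inv.app M) y)) := by
        rw [← e₁.inv_hom_id_apply w, ← hy, mulHom, Functor.map_comp]
        exact ConcreteCategory.congr_hom hnat _
      rw [h2]
      exact mem_smul_top_of_tensor 𝔪 _ hs _
    haveI : Module.Finite (X.presheaf.stalk x) (Φ.obj M ⊗ Φ.obj N : ModuleCat _) :=
      Module.Finite.equiv e₁.toLinearEquiv
    have hbot : (⊤ : Submodule (X.presheaf.stalk x) (Φ.obj M ⊗ Φ.obj N : ModuleCat _)) = ⊥ :=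
      Submodule.eq_bot_of_le_smul_of_le_jacobson_bot 𝔪 _ Module.Finite.fg_top htop
        (IsLocalRing.maximalIdeal_le_jacobson _)
    haveI : Subsingleton (Φ.obj M ⊗ Φ.obj N : ModuleCat _) := (Submodule.subsingleton_iff _).1
      (subsingleton_of_bot_eq_top hbot.symm)
    exact e₁.toLinearEquiv.toEquiv.subsingleton
  obtain ⟨D, hD, ⟨u⟩⟩ := H23.PicInv.exists_inverse hN
  let i : CohB1.tensorMod P D ≅ M :=
    (AmpleVan.twComp N D).app M ≪≫ ((DCoh.tensorBi (X := X)).obj M).mapIso u ≪≫ AmpleVan.twUnit.app M
  refine hxM ?_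
  haveI : Subsingleton ((CohB1.tensorMod P D).presheaf.stalk x) :=
    ModuleCat.subsingleton_of_isZero (KFlatLib.isZero_stalk_tensor_left x P D
      (@ModuleCat.isZero_of_subsingleton _ _ (Φ.obj P) hsub))
  let e₂ : Φ.obj (CohB1.tensorMod P D) ≅ Φ.obj M := Φ.mapIso i
  haveI : Subsingleton (Φ.obj (CohB1.tensorMod P D)) := ‹Subsingleton ((CohB1.tensorMod P D).presheaf.stalk x)›
  exact e₂.toLinearEquiv.toEquiv.symm.subsingleton

/-- A point whose closure has one dimension less. -/
lemma exists_point_closure_dim {ξ : X} {d : ℕ}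
    (h : topologicalKrullDim ↥(closure ({ξ} : Set X)) = ((d + 1 : ℕ) : WithBot ℕ∞)) :
    ∃ η ∈ closure ({ξ} : Set X), ξ ∉ closure ({η} : Set X) ∧
      topologicalKrullDim ↥(closure ({η} : Set X)) = (d : WithBot ℕ∞) := by
  set T : Set X := closure {ξ} with hT
  haveI : Nonempty (IrreducibleCloseds ↥T) :=
    ⟨⟨closure {⟨ξ, subset_closure rfl⟩}, isIrreducible_singleton.closure, isClosed_closure⟩⟩
  haveI : FiniteDimensionalOrder (IrreducibleCloseds ↥T) := by
    rcases finiteDimensionalOrder_or_infiniteDimensionalOrder (IrreducibleCloseds ↥T) with h' | h'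
    · exact h'
    · have h2 : topologicalKrullDim ↥T = ⊤ := Order.krullDim_eq_top
      rw [h2] at h
      exact absurd h.le (not_le_of_gt (WithBot.coe_lt_coe.2 (ENat.coe_lt_top (d + 1))))
  obtain ⟨p, hp⟩ : ∃ p : LTSeries (IrreducibleCloseds ↥T), p.length = d + 1 := by
    refine ⟨LTSeries.longestOf _, ?_⟩
    have h' := Order.krullDim_eq_length_of_finiteDimensionalOrder (α := IrreducibleCloseds ↥T)
    rw [show Order.krullDim (IrreducibleCloseds ↥T) = topologicalKrullDim ↥T from rfl, h] at h'
    exact_mod_cast h'.symm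
  let q : LTSeries (IrreducibleCloseds X) :=
    p.map _ (IrreducibleCloseds.map_strictMono_of_isInducing
      (Topology.IsInducing.subtypeVal : Topology.IsInducing (Subtype.val : T → X)))
  have hq : q.length = d + 1 := hp
  let j : Fin (q.length + 1) := ⟨d, by omega⟩
  have hj : q j < q.last := q.strictMono (show j < Fin.last _ from Fin.mk_lt_mk.2 (by omega))
  obtain ⟨η, hη⟩ := QuasiSober.sober (q j).isIrreducible (q j).isClosed
  have hlast : (q.last : Set X) ⊆ T := by
    intro x hx
    rw [LTSeries.last_map] at hx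
    exact closure_minimal (Subtype.coe_image_subset T _) isClosed_closure hx
  have hηT : η ∈ T := hlast (hj.le hη.mem)
  have hξη : ξ ∉ closure ({η} : Set X) := fun hh => by
    have h1 : (q.last : Set X) ⊆ (q j : Set X) := by
      rw [← hη.def]
      exact hlast.trans ((isClosed_closure).closure_subset_iff.2 (Set.singleton_subset_iff.2 hh))
    exact hj.not_ge h1
  refine ⟨η, hηT, hξη, le_antisymm (le_of_lt_succ (dim_lt_closure h.le isClosed_closure
    (isClosed_closure.closure_subset_iff.2 (Set.singleton_subset_iff.2 hηT)) hξη)) ?_⟩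
  refine le_of_eq_of_le ?_ (H23.TopDim.length_le_dim_subset (q.take j) ?_)
  · rfl
  · rw [RelSeries.last_take]
    exact hη.def.ge

variable (k : Type u) [Field k] [X.Over (Spec (CommRingCat.of k))] [IsProper (X ↘ Spec (CommRingCat.of k))]
  {L : X.Modules}

/-- The multiplicity of an integral closed subscheme is positive. -/
theorem mult_integral_pos (hL : CohB1.IsAmple L) :
    ∀ (d : ℕ) {Z : Scheme.{u}} (i : Z ⟶ X) [IsClosedImmersion i] [IsIntegral Z] {ξ : X},
      Set.range i = closure {ξ} → topologicalKrullDim ↥(closure ({ξ} : Set X)) = (d : WithBot ℕ∞) →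
      (∀ C : X.Modules, Coh.IsCoh C → ∀ e < d, topologicalKrullDim ↥(CohB1.support C) = (e : WithBot ℕ∞) →
        0 < mult k L e C) →
      0 < mult k L d ((Coh.push i).obj (Coh.structureModule Z)) := by
  intro d Z i _ _ ξ hr hd ih
  haveI : IsNoetherian X := CurveCohLib.isNoetherian_of_proper (k := k)
  have hLi := hL.1
  let M := (Coh.push i).obj (Coh.structureModule Z)
  have hM : Coh.IsCoh M := QCoh.isCoh_push_structure i
  have hMs : CohB1.support M = closure {ξ} := by
    refine (hr ▸ QCoh.support_push_subset i QCoh.isQCoh_structureModule).antisymm ?_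
    refine (QCoh.isClosed_support_of_isFT hM.1 hM.2).closure_subset_iff.2 (Set.singleton_subset_iff.2 ?_)
    have hξ : i (genericPoint Z) = ξ :=
      ((show Specializes (i (genericPoint Z)) ξ from specializes_iff_mem_closure.2
        ((QCoh.range_eq_closure i).le (hr.ge (subset_closure rfl)))).antisymm
      (specializes_iff_mem_closure.2 (hr.le ⟨_, rfl⟩))).eq
    rw [← hξ]
    refine (QCoh.mem_support_push_ideal i (𝟙 _) QCoh.isQCoh_structureModule fun h => ?_).1
    have h1 : Scheme.Modules.Hom.app (𝟙 (Coh.structureModule Z)) ⊤ (1 : Γ(Z, ⊤)) =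
        Scheme.Modules.Hom.app (0 : Coh.structureModule Z ⟶ Coh.structureModule Z) ⊤ (1 : Γ(Z, ⊤)) := by
      rw [h.eq_of_src (𝟙 _) 0]
    exact one_ne_zero (α := Γ(Z, ⊤)) h1
  match d with
  | 0 =>
    have hcl : ∀ x ∈ CohB1.support M, IsClosed ({x} : Set X) := by
      intro x hx
      rw [hMs] at hx
      have hone : ∀ y ∈ closure ({ξ} : Set X), y = ξ := fun y hy => by
        by_contra hne
        have h1 := dim_lt_closure (n := 0) hd.le isClosed_closure
          (isClosed_closure.closure_subset_iff.2 (Set.singleton_subset_iff.2 hy))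
          (fun hh => hne ((specializes_iff_mem_closure.2 hh).antisymm (specializes_iff_mem_closure.2 hy)).eq)
        haveI : Nonempty (IrreducibleCloseds ↥(closure ({y} : Set X))) :=
          ⟨⟨closure {⟨y, subset_closure rfl⟩}, isIrreducible_singleton.closure, isClosed_closure⟩⟩
        exact absurd (Order.krullDim_nonneg (α := IrreducibleCloseds ↥(closure ({y} : Set X)))) (not_le_of_gt h1)
      rw [hone x hx]
      have : closure ({ξ} : Set X) = {ξ} := Set.Subset.antisymm (fun y hy => hone y hy) subset_closure
      rw [← this]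
      exact isClosed_closure
    refine lt_of_le_of_ne ?_ fun h0 => ?_
    · change 0 ≤ Curv2.euler k X M
      rw [CurveCohLib.euler_eq_finrank_zero hM hcl]
      positivity
    · have hz := CurveCohLib.isZero_of_euler_eq_zero (k := k) hM hcl h0.symm
      have := QCoh.support_eq_empty_of_isZero hz hM.1
      rw [hMs] at this
      exact (Set.eq_empty_iff_forall_notMem.1 this) ξ (subset_closure rfl)
  | d + 1 =>
    obtain ⟨η, hηξ, hξη, hη⟩ := exists_point_closure_dim hd
    haveI : X.IsSeparated := ⟨by
      have h : terminal.from X = (X ↘ Spec (CommRingCat.of k)) ≫ terminal.from _ := Subsingleton.elim _ _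
      rw [h]
      infer_instance⟩
    obtain ⟨m, hm, s, hξs, hsU, -⟩ := AmpleX.exists_genLocus_le hL
      (U := ⟨(closure {η})ᶜ, isClosed_closure.isOpen_compl⟩) (show ξ ∈ (closure ({η} : Set X))ᶜ from hξη)
    have hN := InvX.isInvertible_tensorPow hLi m
    obtain ⟨U, hU, hξU⟩ : ∃ U : X.Opens, IsIso ((Scheme.Modules.restrictFunctor U.ι).map s) ∧ ξ ∈ U :=
      Opens.mem_sSup.1 hξs
    haveI : IsIso ((Scheme.Modules.restrictFunctor U.ι).map s) := hU
    have hξ : i (genericPoint Z) = ξ :=
      ((show Specializes (i (genericPoint Z)) ξ from specializes_iff_mem_closure.2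
        ((QCoh.range_eq_closure i).le (hr.ge (subset_closure rfl)))).antisymm
      (specializes_iff_mem_closure.2 (hr.le ⟨_, rfl⟩))).eq
    haveI := isIso_restrict_mulHom s M (U := U)
    haveI : Mono (resUnit U M) := mono_resUnit_push i (hξ ▸ hξU)
    haveI : Mono (mulHom s M) := by
      haveI : Mono (mulHom s M ≫ resUnit U (CohB1.tensorMod M (CohB1.tensorPow L m))) := by
        have hn : mulHom s M ≫ resUnit U (CohB1.tensorMod M (CohB1.tensorPow L m)) = resUnit U M ≫
            (Scheme.Modules.pushforward U.ι).map ((Scheme.Modules.restrictFunctor U.ι).map (mulHom s M)) :=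
          (Scheme.Modules.restrictAdjunction U.ι).unit.naturality (mulHom s M)
        rw [hn]
        exact mono_comp _ _
      exact mono_of_mono _ (resUnit U (CohB1.tensorMod M (CohB1.tensorPow L m)))
    let P := CohB1.tensorMod M (CohB1.tensorPow L m)
    let C := cokernel (mulHom s M)
    have hP : Coh.IsCoh P := isCoh_pw hLi hM m
    have hC : Coh.IsCoh C := QCoh.isCoh_cokernel hM.1 hP _
    have hCs : CohB1.support C ⊆ closure {ξ} :=
      ((QCoh.support_of_epi hP.1 hC.1 (cokernel.π _)).trans (support_tensor_subset M _)).trans hMs.le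
    have hξC : ξ ∉ CohB1.support C := notMem_support_of_isZero_restrict (isZero_restrict_cokernel U _) hξU
    have hCcl := QCoh.isClosed_support_of_isFT hC.1 hC.2
    have hηC : η ∈ CohB1.support C := mem_support_cokernel_mulHom hM hN s (hMs ▸ hηξ)
      fun hh => hsU hh (subset_closure rfl)
    have hdimC : topologicalKrullDim ↥(CohB1.support C) = (d : WithBot ℕ∞) :=
      le_antisymm (le_of_lt_succ (dim_lt_closure hd.le hCcl hCs hξC))
        (hη.ge.trans (H23.TopDim.dim_le_dim_of_subset (hCcl.closure_subset_iff.2 (Set.singleton_subset_iff.2 hηC))))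
    have hpos := ih C hC d (Nat.lt_succ_self d) hdimC
    have hadd := (additive_lead (additive_euler k) hLi d).add
      (ShortComplex.mk (mulHom s M) (cokernel.π _) (cokernel.condition _))
      (.mk' (ShortComplex.exact_of_g_is_cokernel _ (cokernelIsCokernel _)) inferInstance inferInstance) hM hP hC
    have hlin : ∀ j : ℕ, lead L (Curv2.euler k X) d (pw L M j) =
        lead L (Curv2.euler k X) d M + (j : ℤ) * mult k L (d + 1) M := by
      have hA := additive_lead (additive_euler k) hLi d
      have hstep : ∀ j, lead L (Curv2.euler k X) (d + 1) (pw L M (j + 1)) =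
          lead L (Curv2.euler k X) (d + 1) (pw L M j) := fun j => by
        have h0 := iterD_eq_zero (d + 2) (additive_euler k) (List.replicate (d + 2) L) List.length_replicate
          (fun N hN => (List.eq_of_mem_replicate hN) ▸ hLi) (pw L M j) (isCoh_pw hLi hM j)
          (dimLT_of_subset ((support_tensor_subset _ _).trans hMs.le) (lt_succ_of_le hd.le))
        rw [List.replicate_succ, iterD, sub_eq_zero] at h0
        refine Eq.trans ?_ h0
        exact ((additive_lead (additive_euler k) hLi (d + 1)).iso _ _
          ⟨(AmpleVan.twComp (CohB1.tensorPow L j) L).app M⟩).symm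
      have h0' : ∀ φ : X.Modules → ℤ, Additive φ → φ (pw L M 0) = φ M := fun φ hφ =>
        hφ.iso _ _ ⟨AmpleVan.twUnit.app M⟩
      intro j
      induction j with
      | zero => rw [h0' _ hA]; simp
      | succ j ihj =>
        have hc : lead L (Curv2.euler k X) (d + 1) (pw L M j) = mult k L (d + 1) M := by
          clear ihj
          induction j with
          | zero => exact h0' _ (additive_lead (additive_euler k) hLi (d + 1))
          | succ j ih' => rw [hstep, ih']
        have hdef : lead L (Curv2.euler k X) (d + 1) (pw L M j) =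
            lead L (Curv2.euler k X) d (pw L M (j + 1)) - lead L (Curv2.euler k X) d (pw L M j) := by
          simp only [lead, List.replicate_succ, iterD]
          refine congrArg (· - _) ?_
          exact hA.iso _ _ ⟨(AmpleVan.twComp (CohB1.tensorPow L j) L).app M⟩
        push_cast
        linarith
    have hP' := hlin m
    change lead L (Curv2.euler k X) d P = lead L (Curv2.euler k X) d M + lead L (Curv2.euler k X) d C at hadd
    change 0 < lead L (Curv2.euler k X) d C at hpos
    change lead L (Curv2.euler k X) d P = _ at hP'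
    have : 0 < (m : ℤ) * mult k L (d + 1) M := by omega
    exact pos_of_mul_pos_right this (by positivity)

lemma dim_union_lt {T S₁ S₂ : Set X} (hT : T ⊆ S₁ ∪ S₂) (h₁c : IsClosed S₁) (h₂c : IsClosed S₂) {r : ℕ}
    (h₁ : topologicalKrullDim ↥S₁ ≤ (r : WithBot ℕ∞)) (h₂ : topologicalKrullDim ↥S₂ ≤ (r : WithBot ℕ∞)) :
    topologicalKrullDim ↥T ≤ (r : WithBot ℕ∞) := by
  refine H23.TopDim.dim_le fun p => ?_
  let q : LTSeries (IrreducibleCloseds X) :=
    p.map _ (IrreducibleCloseds.map_strictMono_of_isInducing
      (Topology.IsInducing.subtypeVal : Topology.IsInducing (Subtype.val : T → X)))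
  have hl : (q.last : Set X) ⊆ S₁ ∪ S₂ := by
    intro x hx
    rw [LTSeries.last_map] at hx
    exact closure_minimal ((Subtype.coe_image_subset T _).trans hT) (h₁c.union h₂c) hx
  rcases isPreirreducible_iff_isClosed_union_isClosed.1 q.last.isIrreducible.isPreirreducible S₁ S₂ h₁c h₂c hl
    with h | h
  · exact (H23.TopDim.length_le_dim_subset q h).trans h₁
  · exact (H23.TopDim.length_le_dim_subset q h).trans h₂

/-- Multiplicities are non-negative, and positive exactly in the top dimension. -/
theorem mult_nonneg_and_pos (hL : CohB1.IsAmple L) :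
    ∀ (d : ℕ) (F : X.Modules), Coh.IsCoh F →
      topologicalKrullDim ↥(CohB1.support F) ≤ (d : WithBot ℕ∞) →
      0 ≤ mult k L d F ∧ (topologicalKrullDim ↥(CohB1.support F) = (d : WithBot ℕ∞) → 0 < mult k L d F) := by
  intro d
  induction d using Nat.strong_induction_on with
  | _ d IH =>
    haveI : IsNoetherian X := CurveCohLib.isNoetherian_of_proper (k := k)
    have hLi := hL.1
    have hA := additive_lead (L := L) (additive_euler k) hLi d
    have hsmall : ∀ G : X.Modules, Coh.IsCoh G → DimLT G d → mult k L d G = 0 := fun G hG hdG =>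
      iterD_eq_zero d (additive_euler k) _ List.length_replicate
        (fun N hN => (List.eq_of_mem_replicate hN) ▸ hLi) G hG hdG
    intro F hF hdim
    induction QCoh.filt_of_isCoh hF with
    | @zero N h =>
      rw [show mult k L d N = 0 from hA.zero_of_isZero h]
      refine ⟨le_rfl, fun he => ?_⟩
      rw [QCoh.support_eq_empty_of_isZero h hF.1] at he
      haveI : IsEmpty (IrreducibleCloseds ↥(∅ : Set X)) := ⟨fun s => s.2.1.ne_empty (Set.eq_empty_of_isEmpty s.1)⟩
      rw [topologicalKrullDim, Order.krullDim_eq_bot_iff.2 ‹_›] at he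
      exact absurd he WithBot.bot_ne_coe
    | @step N M' φ _ _ hNc hMc hex ih =>
      obtain ⟨Z, i, hi, hZ, I, ι, hι, hI, hI0, ⟨e⟩⟩ := hex
      haveI := hi; haveI := hZ; haveI := hι
      have hc := QCoh.isCoh_cokernel hNc.1 hMc φ
      have hsN : CohB1.support N ⊆ CohB1.support M' := QCoh.mem_support_of_mono hNc.1 hMc.1 φ
      have hN' := ih hNc ((H23.TopDim.dim_le_dim_of_subset hsN).trans hdim)
      have hIc : Coh.IsCoh ((Coh.push i).obj I) :=
        QCoh.isCoh_of_mono (e.inv) hc (QCoh.isQCoh_pushforward i hI)
      have hS : (ShortComplex.mk φ (cokernel.π φ) (cokernel.condition φ)).ShortExact :=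
        .mk' (ShortComplex.exact_of_g_is_cokernel _ (cokernelIsCokernel φ)) ‹_› inferInstance
      have hadd : mult k L d M' = mult k L d N + mult k L d ((Coh.push i).obj I) := by
        have h2 := hA.add _ hS hNc hMc hc
        change mult k L d M' = mult k L d N + mult k L d (cokernel φ) at h2
        rw [h2, show mult k L d (cokernel φ) = mult k L d ((Coh.push i).obj I) from hA.iso _ _ ⟨e⟩]
      set ξ := i (genericPoint Z) with hξdef
      have hr : Set.range i = closure {ξ} := QCoh.range_eq_closure i
      have hsI : CohB1.support ((Coh.push i).obj I) = closure {ξ} := QCoh.support_push_ideal i ι hI hI0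
      have hξd : topologicalKrullDim ↥(closure ({ξ} : Set X)) ≤ (d : WithBot ℕ∞) := by
        rw [← hsI, ← QCoh.support_iso e hc.1]
        exact (H23.TopDim.dim_le_dim_of_subset (QCoh.support_of_epi hMc.1 hc.1 (cokernel.π φ))).trans hdim
      have hO : Coh.IsCoh ((Coh.push i).obj (Coh.structureModule Z)) := QCoh.isCoh_push_structure i
      haveI : Mono ((Coh.push i).map ι) := Functor.map_mono _ ι
      have hK := QCoh.isCoh_cokernel hIc.1 hO ((Coh.push i).map ι)
      have hKd : DimLT (cokernel ((Coh.push i).map ι)) d :=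
        dim_lt_closure hξd (QCoh.isClosed_support_of_isFT hK.1 hK.2)
          ((QCoh.support_of_epi hO.1 hK.1 (cokernel.π _)).trans
            (hr ▸ QCoh.support_push_subset i QCoh.isQCoh_structureModule))
          (QCoh.mem_support_push_ideal i ι hI hI0).2
      have hI' : mult k L d ((Coh.push i).obj I) = mult k L d ((Coh.push i).obj (Coh.structureModule Z)) := by
        have h1 := hA.add (ShortComplex.mk ((Coh.push i).map ι) (cokernel.π _) (cokernel.condition _))
          (.mk' (ShortComplex.exact_of_g_is_cokernel _ (cokernelIsCokernel _)) ‹_› inferInstance) hIc hO hK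
        change mult k L d ((Coh.push i).obj (Coh.structureModule Z)) = mult k L d ((Coh.push i).obj I) +
          mult k L d (cokernel ((Coh.push i).map ι)) at h1
        rw [hsmall _ hK hKd, add_zero] at h1
        exact h1.symm
      rcases hξd.lt_or_eq with hlt | heq
      · have h0 : mult k L d ((Coh.push i).obj I) = 0 := hsmall _ hIc (by rw [DimLT, hsI]; exact hlt)
        rw [hadd, h0, add_zero]
        refine ⟨hN'.1, fun he => hN'.2 ?_⟩
        refine le_antisymm ((H23.TopDim.dim_le_dim_of_subset hsN).trans hdim) (le_of_not_gt fun hlt' => ?_)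
        rcases d with _ | d'
        · haveI : Nonempty (IrreducibleCloseds ↥(closure ({ξ} : Set X))) :=
            ⟨⟨closure {⟨ξ, subset_closure rfl⟩}, isIrreducible_singleton.closure, isClosed_closure⟩⟩
          exact absurd (Order.krullDim_nonneg (α := IrreducibleCloseds ↥(closure ({ξ} : Set X)))) (not_le_of_gt hlt)
        · have hsub : CohB1.support M' ⊆ CohB1.support N ∪ closure {ξ} := by
            refine (QCoh.support_subset_union hS hNc.1 hMc.1 hc.1).trans ?_
            rw [← hsI, ← QCoh.support_iso e hc.1]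
          have h := dim_union_lt hsub (QCoh.isClosed_support_of_isFT hNc.1 hNc.2) isClosed_closure
            (le_of_lt_succ hlt') (le_of_lt_succ hlt)
          exact (lt_succ_of_le h).ne he
      · have hp : 0 < mult k L d ((Coh.push i).obj (Coh.structureModule Z)) :=
          mult_integral_pos k hL d i hr heq fun C hC e' he' hCd => (IH e' he' C hC hCd.le).2 hCd
        rw [hadd, hI']
        exact ⟨by linarith [hN'.1], fun _ => by linarith [hN'.1]⟩

end Groth.Agent.HilbPoly
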