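import Groth.Agent.HilbPoly.Pos
import Groth.Prelude.Def_ShStab
import Mathlib.Analysis.Polynomial.Basic

/-!
# Formal properties of semistable and slope semistable modules
-/

set_option linter.style.haveILetI false
set_option backward.isDefEq.respectTransparency false
set_option backward.isDefEq.respectTransparency.types false

universe u

open CategoryTheory CategoryTheory.Limits AlgebraicGeometry Polynomial StabCat TopologicalSpace

noncomputable section

namespace Groth.Agent.HilbPoly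

open Groth.Agent

/-- Polynomials equal at large natural numbers are equal. -/
lemma poly_ext {P Q : ℚ[X]} (N : ℕ) (h : ∀ m : ℕ, N ≤ m → P.eval (m : ℚ) = Q.eval (m : ℚ)) : P = Q := by
  refine Polynomial.eq_of_infinite_eval_eq P Q ?_
  have hinj : Function.Injective (fun m : ℕ => ((N + m : ℕ) : ℚ)) := fun a b hab => by
    have h' : N + a = N + b := Nat.cast_injective hab
    omega
  refine (Set.infinite_range_of_injective hinj).mono ?_
  rintro _ ⟨m, rfl⟩
  exact h _ (Nat.le_add_right N m)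

/-- A polynomial with a positive top coefficient is eventually positive. -/
lemma eventually_pos {P : ℚ[X]} {d : ℕ} (hd : P.natDegree ≤ d) (hc : 0 < P.coeff d) :
    ∃ N : ℕ, ∀ m : ℕ, N ≤ m → 0 < P.eval (m : ℚ) := by
  have hP : P ≠ 0 := fun h => by simp [h] at hc
  have hdeg : P.natDegree = d := le_antisymm hd (Polynomial.le_natDegree_of_ne_zero hc.ne')
  have hlc : 0 < P.leadingCoeff := by rwa [Polynomial.leadingCoeff, hdeg]
  by_cases h0 : P.degree ≤ 0
  · rw [Polynomial.eq_C_of_degree_le_zero h0]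
    refine ⟨0, fun m _ => ?_⟩
    rw [Polynomial.eval_C]
    rw [Polynomial.leadingCoeff, Polynomial.natDegree_eq_zero_iff_degree_le_zero.2 h0] at hlc
    exact hlc
  · have h := Polynomial.tendsto_atTop_of_leadingCoeff_nonneg P (not_le.1 h0) hlc.le
    have h' := (h.comp tendsto_natCast_atTop_atTop).eventually_gt_atTop 0
    obtain ⟨N, hN⟩ := Filter.eventually_atTop.1 h'
    exact ⟨N, fun m hm => hN m hm⟩

variable {X : Scheme.{u}} {k : Type u} [Field k] [X.Over (Spec (CommRingCat.of k))]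
  [IsProper (X ↘ Spec (CommRingCat.of k))] {L : X.Modules}

include k in
omit [IsProper (X ↘ Spec (CommRingCat.of k))] in
lemma isHilbPoly_unique {F : X.Modules} {P Q : ℚ[X]} (hP : ShStab.IsHilbPoly k X L F P)
    (hQ : ShStab.IsHilbPoly k X L F Q) : P = Q :=
  poly_ext 0 fun m _ => (hP m).symm.trans (hQ m)

lemma exists_hilb (hL : PicF.IsInvertible L) {F : X.Modules} (hF : Coh.IsCoh F) {d : ℕ}
    (hd : topologicalKrullDim ↥(CohB1.support F) ≤ (d : WithBot ℕ∞)) :
    ∃ P, ShStab.IsHilbPoly k X L F P ∧ P.natDegree ≤ d ∧ alpha d P = (mult k L d F : ℚ) := by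
  haveI : IsNoetherian X := CurveCohLib.isNoetherian_of_proper (k := k)
  obtain ⟨P, h1, h2, h3⟩ := exists_poly (additive_euler k) hL hF hd
  exact ⟨P, h1, h2, h3⟩

lemma hilb_props (hL : PicF.IsInvertible L) {F : X.Modules} (hF : Coh.IsCoh F) {d : ℕ}
    (hd : topologicalKrullDim ↥(CohB1.support F) ≤ (d : WithBot ℕ∞)) {P : ℚ[X]}
    (hP : ShStab.IsHilbPoly k X L F P) : P.natDegree ≤ d ∧ alpha d P = (mult k L d F : ℚ) := by
  obtain ⟨Q, hQ, h⟩ := exists_hilb (k := k) hL hF hd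
  exact (isHilbPoly_unique hP hQ) ▸ h

lemma alpha_nonneg (hL : CohB1.IsAmple L) {F : X.Modules} (hF : Coh.IsCoh F) {d : ℕ}
    (hd : topologicalKrullDim ↥(CohB1.support F) ≤ (d : WithBot ℕ∞)) {P : ℚ[X]}
    (hP : ShStab.IsHilbPoly k X L F P) : 0 ≤ alpha d P := by
  rw [(hilb_props hL.1 hF hd hP).2]
  exact_mod_cast (mult_nonneg_and_pos k hL d F hF hd).1

lemma alpha_pos (hL : CohB1.IsAmple L) {F : X.Modules} (hF : Coh.IsCoh F) {d : ℕ}
    (hd : topologicalKrullDim ↥(CohB1.support F) = (d : WithBot ℕ∞)) {P : ℚ[X]}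
    (hP : ShStab.IsHilbPoly k X L F P) : 0 < alpha d P := by
  rw [(hilb_props hL.1 hF hd.le hP).2]
  exact_mod_cast (mult_nonneg_and_pos k hL d F hF hd.le).2 hd

include k in
omit [IsProper (X ↘ Spec (CommRingCat.of k))] in
lemma exists_dim_eq {F : X.Modules} {d : ℕ} (hd : topologicalKrullDim ↥(CohB1.support F) ≤ (d : WithBot ℕ∞))
    (hF : ¬ IsZero F) : ∃ e ≤ d, topologicalKrullDim ↥(CohB1.support F) = (e : WithBot ℕ∞) := by
  rcases hh : topologicalKrullDim ↥(CohB1.support F) with _ | _ | e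
  · exfalso
    refine hF (CurveCohLib.isZero_of_subsingleton_stalks fun x => not_not.1 fun hx => ?_)
    have h0 : DimLT F 0 := by
      show topologicalKrullDim ↥(CohB1.support F) < _
      rw [hh]
      exact WithBot.bot_lt_coe _
    exact Set.eq_empty_iff_forall_notMem.1 (support_eq_empty_of_dimLT_zero h0) x hx
  · rw [hh] at hd
    exact absurd hd (not_le_of_gt (WithBot.coe_lt_coe.2 (ENat.coe_lt_top d)))
  · rw [hh] at hd
    refine ⟨e, ?_, rfl⟩
    have h' : ((e : ℕ∞) : WithBot ℕ∞) ≤ ((d : ℕ∞) : WithBot ℕ∞) := hd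
    norm_cast at h'

/-- A nonzero module has an eventually positive Hilbert polynomial. -/
lemma hilb_eventually_pos (hL : CohB1.IsAmple L) {F : X.Modules} (hF : Coh.IsCoh F) (h0 : ¬ IsZero F) {d : ℕ}
    (hd : topologicalKrullDim ↥(CohB1.support F) ≤ (d : WithBot ℕ∞)) {P : ℚ[X]}
    (hP : ShStab.IsHilbPoly k X L F P) : ∃ N : ℕ, ∀ m : ℕ, N ≤ m → 0 < P.eval (m : ℚ) := by
  obtain ⟨e, -, he⟩ := exists_dim_eq (k := k) hd h0
  refine eventually_pos (d := e) (hilb_props hL.1 hF he.le hP).1 ?_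
  have := alpha_pos hL hF he hP
  unfold StabCat.alpha at this
  exact pos_of_mul_pos_right this (by positivity)

lemma isZero_of_hilb_zero (hL : CohB1.IsAmple L) {F : X.Modules} (hF : Coh.IsCoh F) {d : ℕ}
    (hd : topologicalKrullDim ↥(CohB1.support F) ≤ (d : WithBot ℕ∞))
    (hP : ShStab.IsHilbPoly k X L F 0) : IsZero F := by
  by_contra h0
  obtain ⟨N, hN⟩ := hilb_eventually_pos hL hF h0 hd hP
  simpa using hN N le_rfl

/-- Additivity. -/
lemma hilb_add (hL : PicF.IsInvertible L) {S : ShortComplex X.Modules} (hS : S.ShortExact)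
    (h₁ : Coh.IsCoh S.X₁) (h₂ : Coh.IsCoh S.X₂) (h₃ : Coh.IsCoh S.X₃) {P₁ P₃ : ℚ[X]}
    (hP₁ : ShStab.IsHilbPoly k X L S.X₁ P₁) (hP₃ : ShStab.IsHilbPoly k X L S.X₃ P₃) :
    ShStab.IsHilbPoly k X L S.X₂ (P₁ + P₃) := by
  haveI : IsNoetherian X := CurveCohLib.isNoetherian_of_proper (k := k)
  intro m
  have h := ((additive_euler k).shift (InvX.isInvertible_tensorPow hL m)).add S hS h₁ h₂ h₃
  rw [Polynomial.eval_add, ← hP₁ m, ← hP₃ m]
  have h' : Curv2.euler k X (ShStab.twist X L S.X₂ m) =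
      Curv2.euler k X (ShStab.twist X L S.X₁ m) + Curv2.euler k X (ShStab.twist X L S.X₃ m) := h
  rw [h']
  push_cast
  rfl

lemma hilb_iso {F G : X.Modules} (e : F ≅ G) {P : ℚ[X]} (hP : ShStab.IsHilbPoly k X L F P) :
    ShStab.IsHilbPoly k X L G P := by
  intro m
  have h : Curv2.euler k X (ShStab.twist X L F m) = Curv2.euler k X (ShStab.twist X L G m) :=
    (additive_euler k).iso _ _ ⟨(AmpleVan.tw (CohB1.tensorPow L m)).mapIso e⟩
  rw [← h]
  exact hP m

lemma hilb_isZero {F : X.Modules} (hF : IsZero F) : ShStab.IsHilbPoly k X L F 0 := by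
  haveI : IsNoetherian X := CurveCohLib.isNoetherian_of_proper (k := k)
  intro m
  have h : Curv2.euler k X (ShStab.twist X L F m) = 0 :=
    (additive_euler k).zero_of_isZero ((AmpleVan.tw (CohB1.tensorPow L m)).map_isZero hF)
  rw [h]
  simp

/-! ### Coherent images, kernels and cokernels -/

lemma dim_mono {A B : X.Modules} (hA : Coh.IsCoh A) (hB : Coh.IsCoh B) (f : A ⟶ B) [Mono f] {d : ℕ}
    (h : topologicalKrullDim ↥(CohB1.support B) ≤ (d : WithBot ℕ∞)) :
    topologicalKrullDim ↥(CohB1.support A) ≤ (d : WithBot ℕ∞) :=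
  (H23.TopDim.dim_le_dim_of_subset (QCoh.mem_support_of_mono hA.1 hB.1 f)).trans h

lemma dim_epi {A B : X.Modules} (hA : Coh.IsCoh A) (hB : Coh.IsCoh B) (f : A ⟶ B) [Epi f] {d : ℕ}
    (h : topologicalKrullDim ↥(CohB1.support A) ≤ (d : WithBot ℕ∞)) :
    topologicalKrullDim ↥(CohB1.support B) ≤ (d : WithBot ℕ∞) :=
  (H23.TopDim.dim_le_dim_of_subset (QCoh.support_of_epi hA.1 hB.1 f)).trans h

omit [X.Over (Spec (CommRingCat.of k))] [IsProper (X ↘ Spec (CommRingCat.of k))] [Field k] in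
lemma dim_of_isPure {F : X.Modules} {d : ℕ} (hp : ShStab.IsPure X F d) (hF : Coh.IsCoh F) (h0 : ¬ IsZero F) :
    topologicalKrullDim ↥(CohB1.support F) = (d : WithBot ℕ∞) :=
  hp F (𝟙 F) inferInstance hF h0

omit [X.Over (Spec (CommRingCat.of k))] [IsProper (X ↘ Spec (CommRingCat.of k))] [Field k] in
lemma dim_le_of_isPure {F : X.Modules} {d : ℕ} (hp : ShStab.IsPure X F d) (hF : Coh.IsCoh F) :
    topologicalKrullDim ↥(CohB1.support F) ≤ (d : WithBot ℕ∞) := by
  by_cases h0 : IsZero F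
  · rw [QCoh.support_eq_empty_of_isZero h0 hF.1]
    haveI hE : IsEmpty (IrreducibleCloseds ↥(∅ : Set X)) :=
      ⟨fun s => s.2.1.ne_empty (Set.eq_empty_of_isEmpty s.1)⟩
    rw [topologicalKrullDim, Order.krullDim_eq_bot_iff.2 hE]
    exact bot_le
  · exact (dim_of_isPure hp hF h0).le

include k in
/-- The standard decomposition of a morphism. -/
lemma exists_factor {F G : X.Modules} (hF : Coh.IsCoh F) (hG : Coh.IsCoh G) (φ : F ⟶ G) :
    ∃ (K I : X.Modules) (a : K ⟶ F) (p : F ⟶ I) (b : I ⟶ G) (w : a ≫ p = 0),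
      p ≫ b = φ ∧ Mono a ∧ Mono b ∧ Epi p ∧ (ShortComplex.mk a p w).ShortExact ∧
      Coh.IsCoh K ∧ Coh.IsCoh I := by
  haveI : IsNoetherian X := CurveCohLib.isNoetherian_of_proper (k := k)
  have hK : Coh.IsCoh (kernel φ) := QCoh.isCoh_kernel hF hG φ
  have hI : Coh.IsCoh (Abelian.coimage φ) := QCoh.isCoh_cokernel hK.1 hF _
  exact ⟨kernel φ, Abelian.coimage φ, kernel.ι φ, Abelian.coimage.π φ, Abelian.factorThruCoimage φ,
    cokernel.condition _, Abelian.coimage.fac φ, inferInstance, inferInstance, inferInstance,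
    .mk' (ShortComplex.exact_of_g_is_cokernel _ (cokernelIsCokernel _)) inferInstance inferInstance, hK, hI⟩

include k in
lemma exists_quot {F G : X.Modules} (hF : Coh.IsCoh F) (hG : Coh.IsCoh G) (f : F ⟶ G) [Mono f] :
    ∃ (Q : X.Modules) (g : G ⟶ Q) (w : f ≫ g = 0), Epi g ∧ (ShortComplex.mk f g w).ShortExact ∧ Coh.IsCoh Q ∧
      (IsZero Q → IsIso f) := by
  haveI : IsNoetherian X := CurveCohLib.isNoetherian_of_proper (k := k)
  refine ⟨cokernel f, cokernel.π f, cokernel.condition f, inferInstance,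
    .mk' (ShortComplex.exact_of_g_is_cokernel _ (cokernelIsCokernel _)) inferInstance inferInstance,
    QCoh.isCoh_cokernel hF.1 hG _, fun hz => ?_⟩
  haveI : Epi f := Preadditive.epi_of_isZero_cokernel _ hz
  exact isIso_of_mono_of_epi f

variable {d : ℕ}

/-- The comparison along a nonzero morphism between semistable modules. -/
theorem eventually_compare (hL : CohB1.IsAmple L) {F G : X.Modules}
    (hF : ShStab.IsSemistable k X L F d) (hG : ShStab.IsSemistable k X L G d) {pF pG : ℚ[X]}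
    (hpF : ShStab.IsHilbPoly k X L F pF) (hpG : ShStab.IsHilbPoly k X L G pG) {φ : F ⟶ G} (hφ : φ ≠ 0) :
    ∃ N : ℕ, ∀ m : ℕ, N ≤ m → alpha d pG * pF.eval (m : ℚ) ≤ alpha d pF * pG.eval (m : ℚ) ∧
      ((ShStab.IsStable k X L F d ∧ ¬ Mono φ) ∨ (ShStab.IsStable k X L G d ∧ ¬ Epi φ) →
        alpha d pG * pF.eval (m : ℚ) < alpha d pF * pG.eval (m : ℚ)) := by
  obtain ⟨hFc, hF0, hFp, hFss⟩ := hF
  obtain ⟨hGc, hG0, hGp, hGss⟩ := hG
  obtain ⟨K, I, a, p, b, w, hfac, ha, hb, hp, hS, hKc, hIc⟩ := exists_factor (k := k) hFc hGc φ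
  haveI := ha; haveI := hb; haveI := hp
  have hI0 : ¬ IsZero I := fun h => hφ (by rw [← hfac, h.eq_of_tgt p 0, Limits.zero_comp])
  have hdF := dim_of_isPure hFp hFc hF0
  have hdI := hGp I b hb hIc hI0
  have hdK := dim_mono hKc hFc a hdF.le
  obtain ⟨pK, hpK, -, -⟩ := exists_hilb (k := k) hL.1 hKc hdK
  obtain ⟨pI, hpI, -, -⟩ := exists_hilb (k := k) hL.1 hIc hdI.le
  have hsum : pF = pK + pI := isHilbPoly_unique hpF (hilb_add hL.1 hS hKc hFc hIc hpK hpI)
  have hα : alpha d pF = alpha d pK + alpha d pI := by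
    simp only [hsum, alpha, Polynomial.coeff_add]; ring
  have hαI := alpha_pos hL hIc hdI hpI
  have hαF := alpha_pos hL hFc hdF hpF
  have hαG := alpha_pos hL hGc (dim_of_isPure hGp hGc hG0) hpG
  -- the quotient
  have hA : ∃ N : ℕ, ∀ m : ℕ, N ≤ m → alpha d pI * pF.eval (m : ℚ) ≤ alpha d pF * pI.eval (m : ℚ) ∧
      (ShStab.IsStable k X L F d ∧ ¬ Mono φ → alpha d pI * pF.eval (m : ℚ) < alpha d pF * pI.eval (m : ℚ)) := by
    by_cases hK0 : IsZero K
    · have : pK = 0 := isHilbPoly_unique hpK (hilb_isZero hK0)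
      refine ⟨0, fun m _ => ⟨by rw [hsum, this, zero_add], fun h => absurd ?_ h.2⟩⟩
      haveI : Mono p := (ShortComplex.exact_iff_mono _ (hK0.eq_of_src a 0)).1 hS.exact
      rw [← hfac]; exact mono_comp p b
    · have hiso : ¬ IsIso a := fun hh => hI0 <| (IsZero.iff_id_eq_zero I).2 <| by
        rw [← cancel_epi p, ← cancel_epi a, ← Category.assoc, w, Limits.zero_comp, Limits.comp_zero, Limits.comp_zero]
      obtain ⟨N, hN⟩ := hFss K a ha hKc hK0 hiso pK pF hpK hpF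
      by_cases hst : ShStab.IsStable k X L F d
      · obtain ⟨N', hN'⟩ := hst.2.2.2 K a ha hKc hK0 hiso pK pF hpK hpF
        refine ⟨max N N', fun m hm => ?_⟩
        have h1 := hN' m (le_trans (le_max_right _ _) hm)
        simp only [Polynomial.eval_smul, smul_eq_mul, hsum, Polynomial.eval_add] at h1 ⊢
        rw [← hsum, hα] at h1 ⊢
        exact ⟨by linarith, fun _ => by linarith⟩
      · refine ⟨N, fun m hm => ⟨?_, fun h => absurd h.1 hst⟩⟩
        have h1 := hN m hm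
        simp only [Polynomial.eval_smul, smul_eq_mul, hsum, Polynomial.eval_add] at h1 ⊢
        rw [← hsum, hα] at h1 ⊢
        linarith
  -- the submodule
  have hB : ∃ N : ℕ, ∀ m : ℕ, N ≤ m → alpha d pG * pI.eval (m : ℚ) ≤ alpha d pI * pG.eval (m : ℚ) ∧
      (ShStab.IsStable k X L G d ∧ ¬ Epi φ → alpha d pG * pI.eval (m : ℚ) < alpha d pI * pG.eval (m : ℚ)) := by
    by_cases hiso : IsIso b
    · have : pI = pG := isHilbPoly_unique (hilb_iso (asIso b) hpI) hpG
      refine ⟨0, fun m _ => ⟨by rw [this], fun h => absurd ?_ h.2⟩⟩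
      rw [← hfac]; exact epi_comp p b
    · obtain ⟨N, hN⟩ := hGss I b hb hIc hI0 hiso pI pG hpI hpG
      by_cases hst : ShStab.IsStable k X L G d
      · obtain ⟨N', hN'⟩ := hst.2.2.2 I b hb hIc hI0 hiso pI pG hpI hpG
        refine ⟨max N N', fun m hm => ?_⟩
        have h1 := hN' m (le_trans (le_max_right _ _) hm)
        simp only [Polynomial.eval_smul, smul_eq_mul] at h1
        exact ⟨h1.le, fun _ => h1⟩
      · refine ⟨N, fun m hm => ⟨?_, fun h => absurd h.1 hst⟩⟩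
        have h1 := hN m hm
        simp only [Polynomial.eval_smul, smul_eq_mul] at h1
        exact h1
  obtain ⟨N₁, h₁⟩ := hA
  obtain ⟨N₂, h₂⟩ := hB
  refine ⟨max N₁ N₂, fun m hm => ?_⟩
  obtain ⟨a1, a1'⟩ := h₁ m (le_trans (le_max_left _ _) hm)
  obtain ⟨a2, a2'⟩ := h₂ m (le_trans (le_max_right _ _) hm)
  have c1 : alpha d pI * (alpha d pG * pF.eval (m : ℚ)) ≤ alpha d pG * (alpha d pF * pI.eval (m : ℚ)) := by
    have := mul_le_mul_of_nonneg_left a1 hαG.le; linarith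
  have c2 : alpha d pG * (alpha d pF * pI.eval (m : ℚ)) ≤ alpha d pI * (alpha d pF * pG.eval (m : ℚ)) := by
    have := mul_le_mul_of_nonneg_left a2 hαF.le; linarith
  refine ⟨le_of_mul_le_mul_left (c1.trans c2) hαI, ?_⟩
  rintro (h | h)
  · refine lt_of_mul_lt_mul_left (lt_of_lt_of_le ?_ c2) hαI.le
    have := mul_lt_mul_of_pos_left (a1' h) hαG; linarith
  · refine lt_of_mul_lt_mul_left (lt_of_le_of_lt c1 ?_) hαI.le
    have := mul_lt_mul_of_pos_left (a2' h) hαF; linarith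

theorem hom_eq_zero (hL : CohB1.IsAmple L) {F G : X.Modules}
    (hF : ShStab.IsSemistable k X L F d) (hG : ShStab.IsSemistable k X L G d) {pF pG : ℚ[X]}
    (hpF : ShStab.IsHilbPoly k X L F pF) (hpG : ShStab.IsHilbPoly k X L G pG)
    (hlt : RedLT d pG pF) (φ : F ⟶ G) : φ = 0 := by
  by_contra hφ
  obtain ⟨N, hN⟩ := eventually_compare hL hF hG hpF hpG hφ
  obtain ⟨N', hN'⟩ := hlt
  have h1 := (hN (max N N') (le_max_left _ _)).1
  have h2 := hN' (max N N') (le_max_right _ _)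
  simp only [Polynomial.eval_smul, smul_eq_mul] at h2
  linarith

omit [X.Over (Spec (CommRingCat.of k))] [IsProper (X ↘ Spec (CommRingCat.of k))] [Field k] in
lemma isSS_of_isSt {C : Type*} [Category C] {ok : C → Prop} {HP : C → ℚ[X] → Prop} {E : C}
    (h : IsSt ok HP d E) : IsSS ok HP d E := fun F ι hι hok h0 hi pF pE h1 h2 => by
  obtain ⟨N, hN⟩ := h F ι hι hok h0 hi pF pE h1 h2
  exact ⟨N, fun m hm => (hN m hm).le⟩

lemma isSemistable_of_isStable {F : X.Modules} (h : ShStab.IsStable k X L F d) :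
    ShStab.IsSemistable k X L F d := ⟨h.1, h.2.1, h.2.2.1, isSS_of_isSt h.2.2.2⟩

theorem mono_and_epi (hL : CohB1.IsAmple L) {F G : X.Modules}
    (hF : ShStab.IsSemistable k X L F d) (hG : ShStab.IsSemistable k X L G d) {pF pG : ℚ[X]}
    (hpF : ShStab.IsHilbPoly k X L F pF) (hpG : ShStab.IsHilbPoly k X L G pG)
    (heq : RedEq d pF pG) {φ : F ⟶ G} (hφ : φ ≠ 0) :
    (ShStab.IsStable k X L F d → Mono φ) ∧ (ShStab.IsStable k X L G d → Epi φ) := by
  obtain ⟨N, hN⟩ := eventually_compare hL hF hG hpF hpG hφ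
  have e := congrArg (Polynomial.eval (N : ℚ)) heq
  simp only [Polynomial.eval_smul, smul_eq_mul] at e
  refine ⟨fun h => ?_, fun h => ?_⟩ <;> by_contra hn
  · exact ((hN N le_rfl).2 (Or.inl ⟨h, hn⟩)).ne e
  · exact ((hN N le_rfl).2 (Or.inr ⟨h, hn⟩)).ne e

theorem isIso_of_same_poly (hL : CohB1.IsAmple L) {F G : X.Modules}
    (hF : ShStab.IsSemistable k X L F d) (hG : ShStab.IsSemistable k X L G d)
    (hst : ShStab.IsStable k X L F d ∨ ShStab.IsStable k X L G d) {P : ℚ[X]}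
    (hpF : ShStab.IsHilbPoly k X L F P) (hpG : ShStab.IsHilbPoly k X L G P)
    {φ : F ⟶ G} (hφ : φ ≠ 0) : IsIso φ := by
  have h := mono_and_epi hL hF hG hpF hpG rfl hφ
  haveI : IsNoetherian X := CurveCohLib.isNoetherian_of_proper (k := k)
  have hdG := dim_le_of_isPure hG.2.2.1 hG.1
  have hdF := dim_le_of_isPure hF.2.2.1 hF.1
  rcases hst with hst | hst
  · haveI := h.1 hst
    obtain ⟨Q, g, w, hg, hS, hQ, hiso⟩ := exists_quot (k := k) hF.1 hG.1 φ
    haveI := hg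
    have hdQ := dim_epi hG.1 hQ g hdG
    obtain ⟨pQ, hpQ, -, -⟩ := exists_hilb (k := k) hL.1 hQ hdQ
    have : P = P + pQ := isHilbPoly_unique hpG (hilb_add hL.1 hS hF.1 hG.1 hQ hpF hpQ)
    have hz : pQ = 0 := by simpa using this
    exact hiso (isZero_of_hilb_zero hL hQ hdQ (hz ▸ hpQ))
  · haveI := h.2 hst
    have hK : Coh.IsCoh (kernel φ) := QCoh.isCoh_kernel hF.1 hG.1 φ
    have hdK := dim_mono hK hF.1 (kernel.ι φ) hdF
    obtain ⟨pK, hpK, -, -⟩ := exists_hilb (k := k) hL.1 hK hdK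
    have hS : (ShortComplex.mk (kernel.ι φ) φ (kernel.condition φ)).ShortExact :=
      .mk' (ShortComplex.exact_kernel φ) inferInstance inferInstance
    have : P = pK + P := isHilbPoly_unique hpF (hilb_add hL.1 hS hK hF.1 hG.1 hpK hpG)
    have hz : pK = 0 := by simpa using this
    haveI : Mono φ := Preadditive.mono_of_kernel_zero
      ((isZero_of_hilb_zero hL hK hdK (hz ▸ hpK)).eq_of_src _ _)
    exact isIso_of_mono_of_epi φ

theorem isIso_end (hL : CohB1.IsAmple L) {E : X.Modules} (hE : ShStab.IsStable k X L E d) {φ : E ⟶ E}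
    (hφ : φ ≠ 0) : IsIso φ := by
  obtain ⟨P, hP, -, -⟩ := exists_hilb (k := k) hL.1 hE.1 (dim_le_of_isPure hE.2.2.1 hE.1)
  exact isIso_of_same_poly hL (isSemistable_of_isStable hE) (isSemistable_of_isStable hE) (Or.inl hE) hP hP hφ

theorem maxDestab_unique (hL : CohB1.IsAmple L) {E : X.Modules} (hE : Coh.IsCoh E)
    (hp : ShStab.IsPure X E d) {F₁ F₂ : X.Modules} {ι₁ : F₁ ⟶ E} {ι₂ : F₂ ⟶ E}
    (h₁ : ShStab.IsMaxDestab k X L E d F₁ ι₁) (h₂ : ShStab.IsMaxDestab k X L E d F₂ ι₂) :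
    ∃ e : F₁ ≅ F₂, e.hom ≫ ι₂ = ι₁ := by
  obtain ⟨m₁, c₁, z₁, t₁⟩ := h₁
  obtain ⟨m₂, c₂, z₂, t₂⟩ := h₂
  haveI := m₁; haveI := m₂
  have hd := dim_le_of_isPure hp hE
  obtain ⟨p₁, hp₁, -, -⟩ := exists_hilb (k := k) hL.1 c₁ (dim_mono c₁ hE ι₁ hd)
  obtain ⟨p₂, hp₂, -, -⟩ := exists_hilb (k := k) hL.1 c₂ (dim_mono c₂ hE ι₂ hd)
  obtain ⟨⟨N₁, l₁⟩, f₁⟩ := t₁ F₂ ι₂ m₂ c₂ z₂ p₁ p₂ hp₁ hp₂
  obtain ⟨⟨N₂, l₂⟩, f₂⟩ := t₂ F₁ ι₁ m₁ c₁ z₁ p₂ p₁ hp₂ hp₁
  have heq : RedEq d p₁ p₂ := poly_ext (max N₁ N₂) fun m hm =>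
    le_antisymm (l₂ m (le_trans (le_max_right _ _) hm)) (l₁ m (le_trans (le_max_left _ _) hm))
  obtain ⟨u, hu⟩ := f₁ heq.symm
  obtain ⟨v, hv⟩ := f₂ heq
  refine ⟨⟨v, u, ?_, ?_⟩, hv⟩
  · rw [← cancel_mono ι₁, Category.assoc, hu, hv, Category.id_comp]
  · rw [← cancel_mono ι₂, Category.assoc, hv, hu, Category.id_comp]

/-! ### Truncations -/

lemma topPart_coeff (ℓ : ℕ) (P : ℚ[X]) (j : ℕ) :
    (topPart ℓ d P).coeff j = if d - ℓ ≤ j ∧ j ≤ d then P.coeff j else 0 := by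
  simp only [topPart, Polynomial.finsetSum_coeff, Polynomial.coeff_monomial, Finset.sum_ite_eq',
    Finset.mem_Icc]

lemma topPart_self {P : ℚ[X]} (h : P.natDegree ≤ d) : topPart d d P = P := by
  refine Polynomial.ext fun j => ?_
  rw [topPart_coeff, Nat.sub_self]
  split_ifs with hj
  · rfl
  · exact (Polynomial.coeff_eq_zero_of_natDegree_lt (by omega)).symm

lemma alpha_topPart (ℓ : ℕ) (P : ℚ[X]) : alpha d (topPart ℓ d P) = alpha d P := by
  rw [alpha, alpha, topPart_coeff, if_pos ⟨by omega, le_rfl⟩]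

/-- Truncation preserves the comparison. -/
lemma redLE_topPart (ℓ : ℕ) {P Q : ℚ[X]} (hP : P.natDegree ≤ d) (hQ : Q.natDegree ≤ d)
    (h : RedLE d P Q) : RedLE d (topPart ℓ d P) (topPart ℓ d Q) := by
  obtain ⟨N, hN⟩ := h
  unfold RedLE PolyLE
  rw [alpha_topPart, alpha_topPart]
  let D := alpha d P • Q - alpha d Q • P
  let T := alpha d P • topPart ℓ d Q - alpha d Q • topPart ℓ d P
  have hT : ∀ j, T.coeff j = if d - ℓ ≤ j ∧ j ≤ d then D.coeff j else 0 := fun j => by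
    simp only [T, D, Polynomial.coeff_sub, Polynomial.coeff_smul, topPart_coeff, smul_eq_mul]
    split_ifs <;> simp
  have hD : D.natDegree ≤ d := (Polynomial.natDegree_sub_le _ _).trans
    (max_le ((Polynomial.natDegree_smul_le _ _).trans hQ) ((Polynomial.natDegree_smul_le _ _).trans hP))
  suffices h' : ∃ N' : ℕ, ∀ m : ℕ, N' ≤ m → 0 ≤ T.eval (m : ℚ) by
    obtain ⟨N', h'⟩ := h'
    refine ⟨N', fun m hm => ?_⟩
    have := h' m hm
    simp only [T, Polynomial.eval_sub] at this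
    linarith
  by_cases hT0 : T = 0
  · exact ⟨0, fun m _ => by simp [hT0]⟩
  have hlc : T.coeff T.natDegree ≠ 0 := by
    rw [← Polynomial.leadingCoeff]; exact Polynomial.leadingCoeff_ne_zero.2 hT0
  have hj := hT T.natDegree
  by_cases hr : d - ℓ ≤ T.natDegree ∧ T.natDegree ≤ d
  swap
  · rw [if_neg hr] at hj; exact absurd hj hlc
  rw [if_pos hr] at hj
  have hDdeg : D.natDegree ≤ T.natDegree := Polynomial.natDegree_le_iff_coeff_eq_zero.2 fun j hj' => by
    by_cases hjd : j ≤ d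
    · have := hT j
      rw [if_pos ⟨by omega, hjd⟩, Polynomial.coeff_eq_zero_of_natDegree_lt hj'] at this
      exact this.symm
    · exact Polynomial.coeff_eq_zero_of_natDegree_lt (by omega)
  rcases lt_or_gt_of_ne hlc with hneg | hpos
  · exfalso
    obtain ⟨N', hN'⟩ := eventually_pos (P := -D) (d := T.natDegree) (by rwa [Polynomial.natDegree_neg])
      (by rw [Polynomial.coeff_neg, ← hj]; linarith)
    have h1 := hN' (max N N') (le_max_right _ _)
    have h2 := hN (max N N') (le_max_left _ _)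
    simp only [D, Polynomial.eval_neg, Polynomial.eval_sub] at h1
    linarith
  · obtain ⟨N', hN'⟩ := eventually_pos (P := T) le_rfl hpos
    exact ⟨N', fun m hm => (hN' m hm).le⟩

theorem isEllSemistable (hL : CohB1.IsAmple L) {E : X.Modules} (ℓ : ℕ)
    (hE : ShStab.IsSemistable k X L E d) : ShStab.IsEllSemistable k X L E d ℓ := by
  obtain ⟨hc, h0, hp, hss⟩ := hE
  refine ⟨hc, h0, hp, fun F ι hι hFc pF pE hpF hpE hpos hlt => ?_⟩
  haveI := hι
  have hd := dim_le_of_isPure hp hc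
  refine redLE_topPart ℓ (hilb_props hL.1 hFc (dim_mono hFc hc ι hd) hpF).1 (hilb_props hL.1 hc hd hpE).1 ?_
  refine hss F ι hι hFc (fun hz => ?_) (fun hi => ?_) pF pE hpF hpE
  · rw [isHilbPoly_unique hpF (hilb_isZero hz)] at hpos
    simp [alpha] at hpos
  · haveI := hi
    rw [isHilbPoly_unique (hilb_iso (asIso ι) hpF) hpE] at hlt
    exact lt_irrefl _ hlt

/-- Subobjects of full multiplicity. -/
lemma sub_cases (hL : CohB1.IsAmple L) {E : X.Modules} (hc : Coh.IsCoh E) (hp : ShStab.IsPure X E d)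
    {F : X.Modules} (ι : F ⟶ E) [Mono ι] (hFc : Coh.IsCoh F) (hF0 : ¬ IsZero F) (hi : ¬ IsIso ι)
    {pF pE : ℚ[X]} (hpF : ShStab.IsHilbPoly k X L F pF) (hpE : ShStab.IsHilbPoly k X L E pE) :
    0 < alpha d pF ∧ (alpha d pF < alpha d pE ∨ RedLT d pF pE) := by
  have hFd := hp F ι inferInstance hFc hF0
  have hαF := alpha_pos hL hFc hFd hpF
  refine ⟨hαF, ?_⟩
  obtain ⟨Q, g, w, hg, hS, hQ, hiso⟩ := exists_quot (k := k) hFc hc ι
  haveI := hg
  have hdQ := dim_epi hc hQ g (dim_le_of_isPure hp hc)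
  obtain ⟨pQ, hpQ, -, -⟩ := exists_hilb (k := k) hL.1 hQ hdQ
  have hsum : pE = pF + pQ := isHilbPoly_unique hpE (hilb_add hL.1 hS hFc hc hQ hpF hpQ)
  have hα : alpha d pE = alpha d pF + alpha d pQ := by simp only [hsum, alpha, Polynomial.coeff_add]; ring
  rcases (alpha_nonneg hL hQ hdQ hpQ).lt_or_eq with h | h
  · exact Or.inl (by linarith)
  · refine Or.inr ?_
    obtain ⟨N, hN⟩ := hilb_eventually_pos hL hQ (fun hz => hi (hiso hz)) hdQ hpQ
    refine ⟨N, fun m hm => ?_⟩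
    rw [hα, ← h, add_zero, Polynomial.eval_smul, Polynomial.eval_smul, smul_eq_mul, smul_eq_mul, hsum,
      Polynomial.eval_add]
    exact mul_lt_mul_of_pos_left (by linarith [hN m hm]) hαF

theorem isSemistable_iff_ell (hL : CohB1.IsAmple L) (E : X.Modules) :
    ShStab.IsSemistable k X L E d ↔ ShStab.IsEllSemistable k X L E d d := by
  refine ⟨isEllSemistable hL d, ?_⟩
  rintro ⟨hc, h0, hp, hss⟩
  refine ⟨hc, h0, hp, fun F ι hι hFc hF0 hi pF pE hpF hpE => ?_⟩
  haveI := hι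
  obtain ⟨hpos, h | h⟩ := sub_cases hL hc hp ι hFc hF0 hi hpF hpE
  · have hd := dim_le_of_isPure hp hc
    have := hss F ι hι hFc pF pE hpF hpE hpos h
    rwa [topPart_self (hilb_props hL.1 hFc (dim_mono hFc hc ι hd) hpF).1,
      topPart_self (hilb_props hL.1 hc hd hpE).1] at this
  · obtain ⟨N, hN⟩ := h
    exact ⟨N, fun m hm => (hN m hm).le⟩

theorem isStable_iff_ell (hL : CohB1.IsAmple L) (E : X.Modules) :
    ShStab.IsStable k X L E d ↔ ShStab.IsEllStable k X L E d d := by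
  constructor
  · rintro ⟨hc, h0, hp, hst⟩
    refine ⟨hc, h0, hp, fun F ι hι hFc pF pE hpF hpE hpos hlt => ?_⟩
    haveI := hι
    have hd := dim_le_of_isPure hp hc
    rw [topPart_self (hilb_props hL.1 hFc (dim_mono hFc hc ι hd) hpF).1,
      topPart_self (hilb_props hL.1 hc hd hpE).1]
    refine hst F ι hι hFc (fun hz => ?_) (fun hi => ?_) pF pE hpF hpE
    · rw [isHilbPoly_unique hpF (hilb_isZero hz)] at hpos
      simp [alpha] at hpos
    · haveI := hi
      rw [isHilbPoly_unique (hilb_iso (asIso ι) hpF) hpE] at hlt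
      exact lt_irrefl _ hlt
  · rintro ⟨hc, h0, hp, hst⟩
    refine ⟨hc, h0, hp, fun F ι hι hFc hF0 hi pF pE hpF hpE => ?_⟩
    haveI := hι
    obtain ⟨hpos, h | h⟩ := sub_cases hL hc hp ι hFc hF0 hi hpF hpE
    · have hd := dim_le_of_isPure hp hc
      have := hst F ι hι hFc pF pE hpF hpE hpos h
      rwa [topPart_self (hilb_props hL.1 hFc (dim_mono hFc hc ι hd) hpF).1,
        topPart_self (hilb_props hL.1 hc hd hpE).1] at this
    · exact h

/-! ### Slopes -/

lemma pred_cast {n : ℕ} (hn : 1 ≤ n) {D : WithBot ℕ∞} (h : D < (n : WithBot ℕ∞)) :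
    D ≤ ((n - 1 : ℕ) : WithBot ℕ∞) := le_of_lt_succ (by rwa [Nat.sub_add_cancel hn])

/-- The slope inequality, cross-multiplied, for subobjects of a slope semistable module. -/
theorem mu_sub {n : ℕ} (hn : 1 ≤ n) (hL : CohB1.IsAmple L) {E : X.Modules} (hc : Coh.IsCoh E)
    (hdE : topologicalKrullDim ↥(CohB1.support E) = (n : WithBot ℕ∞))
    (hμ : IsMuSS Coh.IsCoh (ShStab.IsHilbPoly k X L) n E) {F : X.Modules} (ι : F ⟶ E) [Mono ι]
    (hFc : Coh.IsCoh F) (hdF : topologicalKrullDim ↥(CohB1.support F) = (n : WithBot ℕ∞))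
    {pF pE : ℚ[X]} (hpF : ShStab.IsHilbPoly k X L F pF) (hpE : ShStab.IsHilbPoly k X L E pE) :
    alpha (n - 1) pF * alpha n pE ≤ alpha (n - 1) pE * alpha n pF := by
  have hαF := alpha_pos hL hFc hdF hpF
  have hαE := alpha_pos hL hc hdE hpE
  obtain ⟨Q, g, w, hg, hS, hQ, -⟩ := exists_quot (k := k) hFc hc ι
  haveI := hg
  have hdQ := dim_epi hc hQ g hdE.le
  obtain ⟨pQ, hpQ, -, hαQ⟩ := exists_hilb (k := k) hL.1 hQ hdQ
  have hsum : pE = pF + pQ := isHilbPoly_unique hpE (hilb_add hL.1 hS hFc hc hQ hpF hpQ)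
  have hα : ∀ j, alpha j pE = alpha j pF + alpha j pQ := fun j => by
    simp only [hsum, alpha, Polynomial.coeff_add]; ring
  rcases (alpha_nonneg hL hQ hdQ hpQ).lt_or_eq with h | h
  · have h1 := hμ F ι inferInstance hFc pF pE hpF hpE hαF (by linarith [hα n])
    rwa [hatSlope, hatSlope, div_le_div_iff₀ hαF hαE] at h1
  · have hlt : topologicalKrullDim ↥(CohB1.support Q) < (n : WithBot ℕ∞) := by
      refine lt_of_le_of_ne hdQ fun he => ?_
      have := alpha_pos hL hQ he hpQ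
      linarith
    have h1 : 0 ≤ alpha (n - 1) pQ := alpha_nonneg hL hQ (pred_cast hn hlt) hpQ
    rw [hα n, hα (n - 1), ← h, add_zero]
    nlinarith

theorem mu_hom_eq_zero {n : ℕ} (hn : 1 ≤ n) (hL : CohB1.IsAmple L) {F G : X.Modules}
    (hFt : ShStab.IsPure X F n) (hGt : ShStab.IsPure X G n)
    (hF : ShStab.IsMuSemistable k X L F n) (hG : ShStab.IsMuSemistable k X L G n) {pF pG : ℚ[X]}
    (hpF : ShStab.IsHilbPoly k X L F pF) (hpG : ShStab.IsHilbPoly k X L G pG)
    (hlt : hatSlope n pG < hatSlope n pF) (φ : F ⟶ G) : φ = 0 := by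
  by_contra hφ
  obtain ⟨hFc, hF0, hdF, -, hFss⟩ := hF
  obtain ⟨hGc, hG0, hdG, -, hGss⟩ := hG
  obtain ⟨K, I, a, p, b, w, hfac, ha, hb, hp, hS, hKc, hIc⟩ := exists_factor (k := k) hFc hGc φ
  haveI := ha; haveI := hb; haveI := hp
  have hI0 : ¬ IsZero I := fun h => hφ (by rw [← hfac, h.eq_of_tgt p 0, Limits.zero_comp])
  have hdI := hGt I b hb hIc hI0
  obtain ⟨pK, hpK, -, -⟩ := exists_hilb (k := k) hL.1 hKc (dim_mono hKc hFc a hdF.le)
  obtain ⟨pI, hpI, -, -⟩ := exists_hilb (k := k) hL.1 hIc hdI.le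
  have hsum : pF = pK + pI := isHilbPoly_unique hpF (hilb_add hL.1 hS hKc hFc hIc hpK hpI)
  have hα : ∀ j, alpha j pF = alpha j pK + alpha j pI := fun j => by
    simp only [hsum, alpha, Polynomial.coeff_add]; ring
  have hαI := alpha_pos hL hIc hdI hpI
  have hαF := alpha_pos hL hFc hdF hpF
  have hαG := alpha_pos hL hGc hdG hpG
  have h2 := mu_sub hn hL hGc hdG hGss b hIc hdI hpI hpG
  have h1 : alpha (n - 1) pF * alpha n pI ≤ alpha (n - 1) pI * alpha n pF := by
    by_cases hK0 : IsZero K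
    · have hz : pK = 0 := isHilbPoly_unique hpK (hilb_isZero hK0)
      have e : pF = pI := by rw [hsum, hz, zero_add]
      rw [e]
    · have h3 := mu_sub hn hL hFc hdF hFss a hKc (hFt K a ha hKc hK0) hpK hpF
      rw [hα n, hα (n - 1)] at h3 ⊢
      linarith
  rw [hatSlope, hatSlope, div_lt_div_iff₀ hαG hαF] at hlt
  have c1 := mul_le_mul_of_nonneg_left h1 hαG.le
  have c2 := mul_le_mul_of_nonneg_left h2 hαF.le
  have c3 : alpha n pI * (alpha (n - 1) pG * alpha n pF) < alpha n pI * (alpha (n - 1) pF * alpha n pG) :=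
    mul_lt_mul_of_pos_left hlt hαI
  linarith

theorem mu_extension {n : ℕ} (hn : 1 ≤ n) (hL : CohB1.IsAmple L) (T : ShortComplex X.Modules)
    (hT : T.ShortExact) (hFt : ShStab.IsPure X T.X₁ n) (hGt : ShStab.IsPure X T.X₃ n)
    (hF : ShStab.IsMuSemistable k X L T.X₁ n) (hG : ShStab.IsMuSemistable k X L T.X₃ n) {pF pG : ℚ[X]}
    (hpF : ShStab.IsHilbPoly k X L T.X₁ pF) (hpG : ShStab.IsHilbPoly k X L T.X₃ pG)
    (hμ : hatSlope n pF = hatSlope n pG) :
    ShStab.IsMuSemistable k X L T.X₂ n ∧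
      ∀ pH : ℚ[X], ShStab.IsHilbPoly k X L T.X₂ pH → hatSlope n pH = hatSlope n pF := by
  haveI : IsNoetherian X := CurveCohLib.isNoetherian_of_proper (k := k)
  obtain ⟨hFc, hF0, hdF, -, hFss⟩ := hF
  obtain ⟨hGc, hG0, hdG, -, hGss⟩ := hG
  have hHq : Coh.IsQCoh T.X₂ := QCoh.isQCoh_X₂ hT hFc.1 hGc.1
  have hHc : Coh.IsCoh T.X₂ := isCoh_ext hT hFc hGc hHq
  haveI := hT.mono_f
  haveI := hT.epi_g
  have hpH := hilb_add (k := k) hL.1 hT hFc hHc hGc hpF hpG
  have hαF := alpha_pos hL hFc hdF hpF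
  have hαG := alpha_pos hL hGc hdG hpG
  rw [hatSlope, hatSlope, div_eq_div_iff hαF.ne' hαG.ne'] at hμ
  have hαH : ∀ j, alpha j (pF + pG) = alpha j pF + alpha j pG := fun j => by
    simp only [alpha, Polynomial.coeff_add]; ring
  have hslope : ∀ pH : ℚ[X], ShStab.IsHilbPoly k X L T.X₂ pH → hatSlope n pH = hatSlope n pF := by
    intro pH h
    rw [isHilbPoly_unique h hpH, hatSlope, hatSlope, hαH, hαH,
      div_eq_div_iff (by linarith) hαF.ne']
    linarith
  have hdH : topologicalKrullDim ↥(CohB1.support T.X₂) = (n : WithBot ℕ∞) :=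
    le_antisymm (dim_union_lt (QCoh.support_subset_union hT hFc.1 hHc.1 hGc.1)
        (QCoh.isClosed_support_of_isFT hFc.1 hFc.2) (QCoh.isClosed_support_of_isFT hGc.1 hGc.2) hdF.le hdG.le)
      (hdF.ge.trans (H23.TopDim.dim_le_dim_of_subset (QCoh.mem_support_of_mono hFc.1 hHc.1 T.f)))
  -- subobjects
  have key : ∀ (S : X.Modules) (κ : S ⟶ T.X₂), Mono κ → Coh.IsCoh S →
      ∃ (K I : X.Modules) (a : K ⟶ T.X₁) (b : I ⟶ T.X₃) (u : K ⟶ S) (p : S ⟶ I) (w : u ≫ p = 0),
        Mono a ∧ Mono b ∧ Coh.IsCoh K ∧ Coh.IsCoh I ∧ (ShortComplex.mk u p w).ShortExact := by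
    intro S κ hκ hSc
    haveI := hκ
    obtain ⟨K, I, a, p, b, w, hfac, ha, hb, hp, hS, hKc, hIc⟩ := exists_factor (k := k) hSc hGc (κ ≫ T.g)
    haveI := ha; haveI := hb
    have hz : (a ≫ κ) ≫ T.g = 0 := by
      rw [Category.assoc, ← hfac, ← Category.assoc, w, Limits.zero_comp]
    refine ⟨K, I, hT.exact.lift (a ≫ κ) hz, b, a, p, w, ?_, hb, hKc, hIc, hS⟩
    haveI : Mono (hT.exact.lift (a ≫ κ) hz ≫ T.f) := by
      rw [hT.exact.lift_f]
      exact mono_comp _ _
    exact mono_of_mono _ T.f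
  refine ⟨⟨hHc, fun h => hF0 ?_, hdH, fun S κ hκ hSc => ?_, fun S κ hκ hSc pS pH hpS hpH' h0 hlt => ?_⟩, hslope⟩
  · rw [IsZero.iff_id_eq_zero, ← cancel_mono T.f]
    exact h.eq_of_tgt _ _
  · obtain ⟨K, I, a, b, u, p, w, ha, hb, hKc, hIc, hS⟩ := key S κ hκ hSc
    haveI := hS.mono_f
    haveI := hS.epi_g
    intro he
    have hlt : topologicalKrullDim ↥(CohB1.support S) < (n : WithBot ℕ∞) := by
      rcases hh : topologicalKrullDim ↥(CohB1.support S) with _ | _ | e
      · exact WithBot.bot_lt_coe _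
      · rw [hh] at he
        exfalso
        have h2 : ((n : ℕ∞) : WithBot ℕ∞) = ((⊤ : ℕ∞) : WithBot ℕ∞) := he.symm.trans rfl
        exact ENat.natCast_ne_top n (WithBot.coe_injective h2)
      · rw [hh] at he
        have h2 : (((e + 1 : ℕ) : ℕ∞) : WithBot ℕ∞) = ((n : ℕ∞) : WithBot ℕ∞) := he
        have h3 : e + 1 = n := by exact_mod_cast h2
        show ((e : ℕ∞) : WithBot ℕ∞) < ((n : ℕ∞) : WithBot ℕ∞)
        exact_mod_cast (by omega : e < n)
    by_cases hK0 : IsZero K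
    · by_cases hI0 : IsZero I
      · have hSz : IsZero S := hS.exact.isZero_of_both_zeros (hK0.eq_of_src _ _) (hI0.eq_of_tgt _ _)
        rw [QCoh.support_eq_empty_of_isZero hSz hSc.1] at he
        haveI hE : IsEmpty (IrreducibleCloseds ↥(∅ : Set X)) :=
          ⟨fun s => s.2.1.ne_empty (Set.eq_empty_of_isEmpty s.1)⟩
        rw [topologicalKrullDim, Order.krullDim_eq_bot_iff.2 hE, WithBot.bot_add] at he
        exact WithBot.bot_ne_coe he
      · exact absurd ((hGt I b hb hIc hI0).ge.trans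
          (H23.TopDim.dim_le_dim_of_subset (QCoh.support_of_epi hSc.1 hIc.1 p))) hlt.not_ge
    · exact absurd ((hFt K a ha hKc hK0).ge.trans
        (H23.TopDim.dim_le_dim_of_subset (QCoh.mem_support_of_mono hKc.1 hSc.1 u))) hlt.not_ge
  · obtain ⟨K, I, a, b, u, p, w, ha, hb, hKc, hIc, hS⟩ := key S κ hκ hSc
    haveI := ha; haveI := hb
    obtain ⟨pK, hpK, -, -⟩ := exists_hilb (k := k) hL.1 hKc (dim_mono hKc hFc a hdF.le)
    obtain ⟨pI, hpI, -, -⟩ := exists_hilb (k := k) hL.1 hIc (dim_mono hIc hGc b hdG.le)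
    have hsum : pS = pK + pI := isHilbPoly_unique hpS (hilb_add hL.1 hS hKc hSc hIc hpK hpI)
    have eK : alpha (n - 1) pK * alpha n pF ≤ alpha (n - 1) pF * alpha n pK := by
      by_cases hK0 : IsZero K
      · simp [isHilbPoly_unique hpK (hilb_isZero hK0), alpha]
      · exact mu_sub hn hL hFc hdF hFss a hKc (hFt K a ha hKc hK0) hpK hpF
    have eI : alpha (n - 1) pI * alpha n pG ≤ alpha (n - 1) pG * alpha n pI := by
      by_cases hI0 : IsZero I
      · simp [isHilbPoly_unique hpI (hilb_isZero hI0), alpha]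
      · exact mu_sub hn hL hGc hdG hGss b hIc (hGt I b hb hIc hI0) hpI hpG
    have eI' : alpha (n - 1) pI * alpha n pF ≤ alpha (n - 1) pF * alpha n pI := by
      refine le_of_mul_le_mul_left ?_ hαG
      calc alpha n pG * (alpha (n - 1) pI * alpha n pF)
          = alpha n pF * (alpha (n - 1) pI * alpha n pG) := by ring
        _ ≤ alpha n pF * (alpha (n - 1) pG * alpha n pI) := mul_le_mul_of_nonneg_left eI hαF.le
        _ = alpha n pG * (alpha (n - 1) pF * alpha n pI) := by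
          have := congrArg (alpha n pI * ·) hμ; linarith
    rw [hslope pH hpH', hatSlope, hatSlope, div_le_div_iff₀ h0 hαF, hsum]
    have e1 : ∀ j, alpha j (pK + pI) = alpha j pK + alpha j pI := fun j => by
      simp only [alpha, Polynomial.coeff_add]; ring
    rw [e1, e1]
    linarith
where
  isCoh_ext {S : ShortComplex X.Modules} (hS : S.ShortExact) (h₁ : Coh.IsCoh S.X₁) (h₃ : Coh.IsCoh S.X₃)
      (hQ : Coh.IsQCoh S.X₂) : Coh.IsCoh S.X₂ := by
    haveI : IsNoetherian X := CurveCohLib.isNoetherian_of_proper (k := k)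
    refine QCoh.isCoh_iff.2 ⟨hQ, fun U => ?_⟩
    haveI := QCoh.finite_sections h₁ U.2
    haveI := QCoh.finite_sections h₃ U.2
    haveI := hS.epi_g
    let lin : ∀ {M N : X.Modules} (φ : M ⟶ N), Γ(M, U.1) →ₗ[Γ(X, U.1)] Γ(N, U.1) := fun φ =>
      { toFun := φ.app U.1, map_add' := map_add _, map_smul' := fun r m => Scheme.Modules.Hom.app_smul φ r m }
    exact ⟨Submodule.fg_of_fg_map_of_fg_inf_ker (lin S.g)
      (by
        have htop : (⊤ : Submodule Γ(X, U.1) Γ(S.X₂, U.1)).map (lin S.g) = ⊤ := eq_top_iff.2 fun y _ => by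
          obtain ⟨x, hx⟩ := QCoh.app_surjective_of_epi hQ h₃.1 S.g U.2 y
          exact ⟨x, trivial, hx⟩
        rw [htop]; exact Module.Finite.fg_top)
      (by
        have : (⊤ : Submodule Γ(X, U.1) Γ(S.X₂, U.1)) ⊓ LinearMap.ker (lin S.g) =
            (⊤ : Submodule _ _).map (lin S.f) := by
          haveI := hS.mono_f
          refine le_antisymm (fun x hx => ?_) ?_
          · obtain ⟨w, hw⟩ := QCoh.exists_app_f_eq hS U.1 x hx.2
            exact ⟨w, trivial, hw⟩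
          · rintro _ ⟨w, -, rfl⟩
            exact ⟨trivial, QCoh.app_g_f U.1 w⟩
        rw [this]
        exact Module.Finite.fg_top.map _)⟩

end Groth.Agent.HilbPoly
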