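import Groth.Agent.HilbPoly.HN
import Groth.Agent.HilbPoly.EllSimple
import Groth.Prelude.Def_W4c2simpsonmod1HP
import Groth.Agent.PnCoh.Chow.Proper

/-!
# Harder–Narasimhan chains as finite sets of submodules
-/

set_option linter.style.haveILetI false
set_option linter.unusedSectionVars false
set_option backward.isDefEq.respectTransparency false
set_option backward.isDefEq.respectTransparency.types false
set_option maxHeartbeats 1000000

universe u

open CategoryTheory CategoryTheory.Limits AlgebraicGeometry Polynomial StabCat TopologicalSpace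

noncomputable section

namespace Groth.Agent.HilbPoly

open Groth.Agent

section Order

variable {α : Type*} [PartialOrder α]

/-- A finite chain is the range of a strictly increasing series. -/
lemma exists_series_of_chain (C : Finset α) (hne : C.Nonempty) (hch : IsChain (· ≤ ·) (↑C : Set α)) :
    ∃ s : LTSeries α, ∀ a, a ∈ C ↔ ∃ i, s i = a := by
  classical
  letI : LinearOrder C :=
    { (inferInstance : PartialOrder C) with
      le_total := fun a b => hch.total a.2 b.2
      toDecidableLE := Classical.decRel _ }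
  obtain ⟨m, hm⟩ : ∃ m, (Finset.univ : Finset C).card = m + 1 :=
    ⟨(Finset.univ : Finset C).card - 1, by
      have : 0 < (Finset.univ : Finset C).card := Finset.card_pos.2 ⟨⟨_, hne.choose_spec⟩, Finset.mem_univ _⟩
      omega⟩
  let e := (Finset.univ : Finset C).orderEmbOfFin hm
  refine ⟨LTSeries.mk m (fun i => (e i).1) (fun i j hij => e.strictMono hij), fun a => ⟨fun ha => ?_, ?_⟩⟩
  · have h : (⟨a, ha⟩ : C) ∈ Set.range e := by
      rw [Finset.range_orderEmbOfFin]; simp
    obtain ⟨i, hi⟩ := h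
    exact ⟨i, congrArg Subtype.val hi⟩
  · rintro ⟨i, rfl⟩
    exact (e i).2

lemma series_covering (s : LTSeries α) (i : Fin s.length) (j : Fin (s.length + 1)) :
    ¬ (s i.castSucc < s j ∧ s j < s i.succ) := by
  rintro ⟨h1, h2⟩
  rw [s.strictMono.lt_iff_lt] at h1 h2
  rw [Fin.lt_def] at h1 h2
  simp at h1 h2
  omega

lemma exists_index_of_covering (s : LTSeries α) (a b : Fin (s.length + 1)) (hab : s a < s b)
    (h : ∀ j, ¬ (s a < s j ∧ s j < s b)) : ∃ i : Fin s.length, i.castSucc = a ∧ i.succ = b := by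
  rw [s.strictMono.lt_iff_lt, Fin.lt_def] at hab
  have hb : b.val = a.val + 1 := by
    by_contra hne
    refine h ⟨a.val + 1, by omega⟩ ⟨?_, ?_⟩ <;> rw [s.strictMono.lt_iff_lt, Fin.lt_def] <;> simp <;> omega
  exact ⟨⟨a.val, by omega⟩, Fin.ext rfl, Fin.ext (by simp [hb])⟩

end Order

section Compare

variable {d : ℕ}

lemma w4_redLE_iff {P Q : ℚ[X]} (hP : 0 < alpha d P) (hQ : 0 < alpha d Q) :
    W4c2simpsonmod1.RedLE d P Q ↔ RedLE d P Q := by
  have key : ∀ x : ℚ, P.eval x / W4c2simpsonmod1.rankOf d P ≤ Q.eval x / W4c2simpsonmod1.rankOf d Q ↔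
      (alpha d Q • P).eval x ≤ (alpha d P • Q).eval x := fun x => by
    simp only [eval_smul, smul_eq_mul]
    show P.eval x / alpha d P ≤ Q.eval x / alpha d Q ↔ _
    rw [div_le_div_iff₀ hP hQ, mul_comm (P.eval x), mul_comm (Q.eval x)]
  constructor
  · rintro ⟨N, hN⟩
    refine ⟨N.toNat, fun m hm => (key (m : ℚ)).1 ?_⟩
    exact_mod_cast hN (m : ℤ) (by omega)
  · rintro ⟨N, hN⟩
    refine ⟨(N : ℤ), fun m hm => ?_⟩
    lift m to ℕ using by omega
    exact (key _).2 (by exact_mod_cast hN m (by omega))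

lemma w4_redLT_iff {P Q : ℚ[X]} (hP : 0 < alpha d P) (hQ : 0 < alpha d Q) :
    W4c2simpsonmod1.RedLT d P Q ↔ RedLT d P Q := by
  have key : ∀ x : ℚ, P.eval x / W4c2simpsonmod1.rankOf d P < Q.eval x / W4c2simpsonmod1.rankOf d Q ↔
      (alpha d Q • P).eval x < (alpha d P • Q).eval x := fun x => by
    simp only [eval_smul, smul_eq_mul]
    show P.eval x / alpha d P < Q.eval x / alpha d Q ↔ _
    rw [div_lt_div_iff₀ hP hQ, mul_comm (P.eval x), mul_comm (Q.eval x)]
  constructor
  · rintro ⟨N, hN⟩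
    refine ⟨N.toNat, fun m hm => (key (m : ℚ)).1 ?_⟩
    exact_mod_cast hN (m : ℤ) (by omega)
  · rintro ⟨N, hN⟩
    refine ⟨(N : ℤ), fun m hm => ?_⟩
    lift m to ℕ using by omega
    exact (key _).2 (by exact_mod_cast hN m (by omega))

lemma redLE_refl' (P : ℚ[X]) : RedLE d P P := ⟨0, fun _ _ => le_rfl⟩

end Compare

section Series

variable {X : Scheme.{u}} {k : Type u} [Field k] [X.Over (Spec (CommRingCat.of k))]
  [IsProper (X ↘ Spec (CommRingCat.of k))] {L : X.Modules} {d : ℕ} {E : X.Modules}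

/-- The members of a Harder–Narasimhan filtration are coherent. -/
lemma isCoh_HN_member (hE : Coh.IsCoh E) (s : LTSeries (Subobject E))
    (hs : ShStab.IsHNFiltration k X L E d s) :
    ∀ i : Fin (s.length + 1), Coh.IsCoh (s i : X.Modules) := by
  haveI : IsNoetherian X := CurveCohLib.isNoetherian_of_proper (k := k)
  intro i
  induction i using Fin.induction with
  | zero =>
    rw [show s 0 = ⊥ from hs.1]
    exact isCoh_of_iso (IsZero.iso (isZero_kernel_of_mono (𝟙 E)) ((isZero_zero _).of_iso Subobject.botCoeIsoZero))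
      (QCoh.isCoh_kernel hE hE (𝟙 E))
  | succ i ih =>
    have hS : (ShortComplex.mk (Subobject.ofLE (s i.castSucc) (s i.succ) (le_of_lt (s.step i))) (cokernel.π _)
        (cokernel.condition _)).ShortExact :=
      ShortComplex.ShortExact.mk' (ShortComplex.exact_of_g_is_cokernel _ (cokernelIsCokernel _)) inferInstance inferInstance
    have h3 : Coh.IsCoh (StabCat.factor s i) := (hs.2.2.1 i).1
    exact mu_extension.isCoh_ext hS ih h3 (QCoh.isQCoh_X₂ hS ih.1 h3.1)

lemma euler_tensor_congr {A B : X.Modules} (F : X.Modules) (e : A ≅ B) :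
    Curv2.euler k X (CohB1.tensorMod F A) = Curv2.euler k X (CohB1.tensorMod F B) :=
  (additive_euler (X := X) (k := k)).iso _ _ ⟨(DCoh.tensorBi.obj F).mapIso e⟩

/-- Cokernels of inclusions depend only on the submodules. -/
def factor_congr {A A' B : Subobject E} (hA : A = A') (h : A ≤ B) (h' : A' ≤ B) :
    cokernel (Subobject.ofLE A B h) ≅ cokernel (Subobject.ofLE A' B h') :=
  eqToIso (by subst hA; rfl)

lemma euler_congr_left {A B : X.Modules} (F : X.Modules) (e : A ≅ B) :
    Curv2.euler k X (CohB1.tensorMod A F) = Curv2.euler k X (CohB1.tensorMod B F) :=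
  (additive_euler (X := X) (k := k)).iso _ _ ⟨(DCoh.tensorBi.mapIso e).app F⟩

end Series

section Pn

variable {k : Type u} [Field k] {n : ℕ}

/-- The polarisation of projective space. -/
abbrev onePn (k : Type u) [Field k] (n : ℕ) : (CohB1.ProjSpace n k).Modules :=
  (Scheme.Modules.pullback (𝟙 (CohB1.ProjSpace n k))).obj (Twist.twistProjSpace n k 1)

variable [IsProper (CohB1.ProjSpace n k ↘ Spec (CommRingCat.of k))]

lemma euler_tensor_twist (F : (CohB1.ProjSpace n k).Modules) (m : ℤ) :
    Curv2.euler k (CohB1.ProjSpace n k) (CohB1.tensorMod F (Twist.twistProjSpace n k m)) =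
      Curv2.euler k (CohB1.ProjSpace n k) (Pic13.twistOn k (𝟙 (CohB1.ProjSpace n k)) F m) := by
  let e : Twist.twistProjSpace n k m ≅
      (Scheme.Modules.pullback (𝟙 (CohB1.ProjSpace n k))).obj (Twist.twistProjSpace n k m) :=
    ((Scheme.Modules.pullbackId (CohB1.ProjSpace n k)).app (Twist.twistProjSpace n k m)).symm
  unfold Pic13.twistOn
  exact euler_tensor_congr F e

lemma euler_of_iso {F G : (CohB1.ProjSpace n k).Modules} (e : F ≅ G) (m : ℤ) :
    Curv2.euler k (CohB1.ProjSpace n k) (CohB1.tensorMod F (Twist.twistProjSpace n k m)) =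
      Curv2.euler k (CohB1.ProjSpace n k) (CohB1.tensorMod G (Twist.twistProjSpace n k m)) :=
  euler_congr_left _ e

lemma isHilbPoly_of_forall_int (F : (CohB1.ProjSpace n k).Modules) {P : ℚ[X]}
    (hP : ∀ m : ℤ, (Curv2.euler k (CohB1.ProjSpace n k) (CohB1.tensorMod F (Twist.twistProjSpace n k m)) : ℚ) = P.eval (m : ℚ)) :
    ShStab.IsHilbPoly k (CohB1.ProjSpace n k) (onePn k n) F P :=
  isHilbPoly_twistOn (𝟙 _) fun m => by rw [← euler_tensor_twist]; exact hP m

lemma forall_int_of_isHilbPoly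
    {F : (CohB1.ProjSpace n k).Modules} (hF : Coh.IsCoh F) {d : ℕ}
    (hd : topologicalKrullDim ↥(CohB1.support F) ≤ (d : WithBot ℕ∞)) {P : ℚ[X]}
    (hP : ShStab.IsHilbPoly k (CohB1.ProjSpace n k) (onePn k n) F P) (m : ℤ) :
    (Curv2.euler k (CohB1.ProjSpace n k) (CohB1.tensorMod F (Twist.twistProjSpace n k m)) : ℚ) = P.eval (m : ℚ) := by
  rw [euler_tensor_twist]
  exact twistOn_poly (𝟙 _) hF hd hP m

end Pn

end Groth.Agent.HilbPoly
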