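import Groth.Agent.HilbPoly.Step
import Groth.Agent.CurveCohLib.Proper
import Groth.Agent.QCoh.OpenSub
import Groth.Agent.H23.TopDim
import Groth.Agent.AmpleX.Basis
import Groth.Agent.FDescent.StalkFinite
import Groth.Prelude.Def_StabCat
import Mathlib.Algebra.Group.ForwardDiff
import Mathlib.RingTheory.Polynomial.Pochhammer

/-!
# Iterated differences of the Euler characteristic, and Hilbert polynomials

The `r`-fold iterated difference along invertible modules of an additive invariant vanishes on coherent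
modules with support of dimension `< r`. Hence Hilbert polynomials exist, and their top coefficient is
positive for an ample polarisation.
-/

set_option linter.style.haveILetI false
set_option backward.isDefEq.respectTransparency false
set_option backward.isDefEq.respectTransparency.types false

universe u

open CategoryTheory CategoryTheory.Limits AlgebraicGeometry TopologicalSpace Opposite

attribute [local instance] HasDerivedCategory.standard

noncomputable section

namespace Groth.Agent.HilbPoly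

open Groth.Agent

variable {X : Scheme.{u}}

/-- The dimension of the support is less than `r`. -/
abbrev DimLT (F : X.Modules) (r : ℕ) : Prop :=
  topologicalKrullDim ↥(CohB1.support F) < (r : WithBot ℕ∞)

lemma le_of_lt_succ {d : WithBot ℕ∞} {m : ℕ} (h : d < ((m + 1 : ℕ) : WithBot ℕ∞)) :
    d ≤ (m : WithBot ℕ∞) := by
  rcases d with _ | _ | k
  · exact bot_le
  · exact absurd h (not_lt_of_ge (WithBot.coe_le_coe.2 le_top))
  · have h' : ((k : ℕ∞) : WithBot ℕ∞) < ((m + 1 : ℕ) : WithBot ℕ∞) := h
    show ((k : ℕ∞) : WithBot ℕ∞) ≤ (m : WithBot ℕ∞)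
    norm_cast at h' ⊢
    omega

lemma lt_succ_of_le {d : WithBot ℕ∞} {m : ℕ} (h : d ≤ (m : WithBot ℕ∞)) :
    d < ((m + 1 : ℕ) : WithBot ℕ∞) := h.trans_lt (by norm_cast; omega)

/-- A closed subset of the closure of a point missing the point has smaller dimension. -/
lemma dim_lt_closure {x : X} {n : ℕ} (hn : topologicalKrullDim ↥(closure ({x} : Set X)) ≤ n) {C : Set X}
    (hC : IsClosed C) (hCx : C ⊆ closure {x}) (hx : x ∉ C) : topologicalKrullDim ↥C < n := by
  set T : Set X := closure {x} with hT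
  haveI : IrreducibleSpace ↥T :=
    { toPreirreducibleSpace := Subtype.preirreducibleSpace isIrreducible_singleton.closure.2
      toNonempty := ⟨⟨x, subset_closure rfl⟩⟩ }
  have hfin : topologicalKrullDim ↥T ≠ ⊤ := fun h => by
    rw [h] at hn
    exact absurd hn (not_le_of_gt (WithBot.coe_lt_coe.2 (ENat.coe_lt_top n)))
  set Y : Set ↥T := Subtype.val ⁻¹' C
  have hYc : IsClosed Y := hC.preimage continuous_subtype_val
  have hne : Y ≠ Set.univ := fun h => hx (h.ge (Set.mem_univ ⟨x, subset_closure rfl⟩) : _)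
  have h1 : topologicalKrullDim ↥Y < n := (H23.TopDim.dim_lt_of_ssubset hfin hYc hne).trans_le hn
  refine lt_of_le_of_lt ?_ h1
  have hg : Topology.IsInducing (fun c : ↥C => (⟨⟨c.1, hCx c.2⟩, c.2⟩ : ↥Y)) :=
    Topology.IsInducing.of_comp (f := fun c : ↥C => (⟨⟨c.1, hCx c.2⟩, c.2⟩ : ↥Y))
      (g := fun y : ↥Y => y.1.1) (by fun_prop) (by fun_prop)
      (Topology.IsInducing.subtypeVal (t := C))
  exact hg.topologicalKrullDim_le

lemma dimLT_of_subset {F : X.Modules} {r : ℕ} {T : Set X} (h : CohB1.support F ⊆ T)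
    (hT : topologicalKrullDim ↥T < (r : WithBot ℕ∞)) : DimLT F r :=
  (H23.TopDim.dim_le_dim_of_subset h).trans_lt hT

lemma support_eq_empty_of_dimLT_zero {F : X.Modules} (h : DimLT F 0) : CohB1.support F = ∅ := by
  by_contra hne
  obtain ⟨x, hx⟩ := Set.nonempty_iff_ne_empty.2 hne
  haveI : Nonempty (IrreducibleCloseds ↥(CohB1.support F)) :=
    ⟨⟨closure {⟨x, hx⟩}, isIrreducible_singleton.closure, isClosed_closure⟩⟩
  exact absurd (Order.krullDim_nonneg (α := IrreducibleCloseds ↥(CohB1.support F))) (not_le_of_gt h)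

namespace Additive

variable {φ : X.Modules → ℤ}

lemma zero_of_isZero [IsNoetherian X] (hφ : Additive φ) {M : X.Modules} (hM : IsZero M) : φ M = 0 := by
  haveI : Mono (hM.to_ (Coh.structureModule X)) := ⟨fun _ _ _ => hM.eq_of_tgt _ _⟩
  have hc : Coh.IsCoh M := QCoh.isCoh_of_mono (hM.to_ (Coh.structureModule X)) QCoh.isCoh_structureModule'
    (hM' hM)
  haveI : Mono (0 : M ⟶ M) := ⟨fun _ _ _ => hM.eq_of_tgt _ _⟩
  haveI : Epi (0 : M ⟶ M) := ⟨fun _ _ _ => hM.eq_of_src _ _⟩
  have h := hφ.add (ShortComplex.mk (0 : M ⟶ M) (0 : M ⟶ M) comp_zero)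
    (.mk' (ShortComplex.exact_of_isZero_X₂ _ hM) ‹_› ‹_›) hc hc hc
  change φ M = φ M + φ M at h
  omega
where
  hM' {M : X.Modules} (hM : IsZero M) : Coh.IsQCoh M := by
    have h := QCoh.isQCoh_cokernel (QCoh.isQCoh_structureModule (X := X)) QCoh.isQCoh_structureModule
      (𝟙 (Coh.structureModule X))
    exact (QCoh.isQCoh_iff_iso (hM.iso (isZero_cokernel_of_epi (𝟙 (Coh.structureModule X))))).2 h

lemma shift [IsLocallyNoetherian X] (hφ : Additive φ) {N : X.Modules} (hN : PicF.IsInvertible N) :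
    Additive fun F => φ ((AmpleVan.tw N).obj F) := by
  haveI := AmpleVan.isEquivalence_tw hN
  refine ⟨fun M M' ⟨e⟩ => hφ.iso _ _ ⟨(AmpleVan.tw N).mapIso e⟩, fun S hS h₁ h₂ h₃ => ?_⟩
  exact hφ.add (S.map (AmpleVan.tw N)) (hS.map_of_exact _) (AmpleVan.isCoh_tensor h₁ (AmpleVan.isCoh_invertible hN))
    (AmpleVan.isCoh_tensor h₂ (AmpleVan.isCoh_invertible hN))
    (AmpleVan.isCoh_tensor h₃ (AmpleVan.isCoh_invertible hN))

lemma sub {ψ : X.Modules → ℤ} (hψ : Additive ψ) (hφ : Additive φ) : Additive fun F => ψ F - φ F :=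
  ⟨fun M M' e => by simp only [hψ.iso M M' e, hφ.iso M M' e],
    fun S hS h₁ h₂ h₃ => by simp only [hψ.add S hS h₁ h₂ h₃, hφ.add S hS h₁ h₂ h₃]; ring⟩

end Additive

/-- Iterated differences along a list of modules. -/
def iterD : List X.Modules → (X.Modules → ℤ) → X.Modules → ℤ
  | [], φ, F => φ F
  | N :: l, φ, F => iterD l φ ((AmpleVan.tw N).obj F) - iterD l φ F

lemma additive_iterD [IsLocallyNoetherian X] {φ : X.Modules → ℤ} (hφ : Additive φ) :
    ∀ {l : List X.Modules}, (∀ N ∈ l, PicF.IsInvertible N) → Additive (iterD l φ)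
  | [], _ => hφ
  | N :: _, h => ((additive_iterD hφ fun M hM => h M (List.mem_cons_of_mem _ hM)).shift
      (h N List.mem_cons_self)).sub (additive_iterD hφ fun M hM => h M (List.mem_cons_of_mem _ hM))

/-- Iterated differences vanish on modules with small support. -/
theorem iterD_eq_zero [IsNoetherian X] : ∀ (r : ℕ) {φ : X.Modules → ℤ}, Additive φ →
    ∀ (l : List X.Modules), l.length = r → (∀ N ∈ l, PicF.IsInvertible N) →
      ∀ F : X.Modules, Coh.IsCoh F → DimLT F r → iterD l φ F = 0 := by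
  intro r
  induction r with
  | zero =>
    intro φ hφ l hl hinv F hF hd
    exact (additive_iterD hφ hinv).zero_of_isZero (CurveCohLib.isZero_of_subsingleton_stalks fun x => not_not.1 fun hx =>
      Set.eq_empty_iff_forall_notMem.1 (support_eq_empty_of_dimLT_zero hd) x hx)
  | succ r ih =>
    intro φ hφ l hl hinv F hF hd
    obtain ⟨N, l, rfl⟩ := List.exists_cons_of_length_eq_add_one hl
    have hinv' : ∀ M ∈ l, PicF.IsInvertible M := fun M hM => hinv M (List.mem_cons_of_mem _ hM)
    have hN := hinv N List.mem_cons_self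
    have hG := additive_iterD hφ hinv'
    have hA := additive_iterD hφ hinv
    have hl' : l.length = r := by simpa using hl
    refine QCoh.devissage (fun M => iterD (N :: l) φ M = 0)
      (fun M M' e h => (hA.iso M M' e).symm.trans h) (fun M hM => hA.zero_of_isZero hM)
      (CohB1.support F) (fun S hS h₁ h₂ h₃ _ e₁ e₃ => by rw [hA.add S hS h₁ h₂ h₃, e₁, e₃, add_zero])
      (fun ξ hξ _ Z i _ _ hr => ?_)
      (fun S hS h₁ h₂ h₃ _ e₂ e₃ => by
        have := hA.add S hS h₁ h₂ h₃
        rw [e₂, e₃, add_zero] at this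
        exact this.symm) hF subset_rfl
    obtain ⟨C₁, C₂, hC₁, hC₂, hs₁, hx₁, hs₂, hx₂, hC⟩ := exists_step i hr hN
    have hcl : topologicalKrullDim ↥(closure ({ξ} : Set X)) ≤ (r : WithBot ℕ∞) :=
      le_of_lt_succ ((H23.TopDim.dim_le_dim_of_subset hξ).trans_lt hd)
    have h1 := ih hφ l hl' hinv' C₁ hC₁ (dim_lt_closure hcl (QCoh.isClosed_support_of_isFT hC₁.1 hC₁.2) hs₁ hx₁)
    have h2 := ih hφ l hl' hinv' C₂ hC₂ (dim_lt_closure hcl (QCoh.isClosed_support_of_isFT hC₂.1 hC₂.2) hs₂ hx₂)
    have h3 := hC _ hG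
    rw [h1, h2, add_zero, add_zero] at h3
    exact sub_eq_zero.2 h3

section Twists

variable {L : X.Modules} {φ : X.Modules → ℤ}

/-- `F ⊗ L^m`. -/
abbrev pw (L F : X.Modules) (m : ℕ) : X.Modules := CohB1.tensorMod F (CohB1.tensorPow L m)

lemma iterD_replicate_pw [IsLocallyNoetherian X] (hφ : Additive φ) (hL : PicF.IsInvertible L) (F : X.Modules) (j : ℕ) :
    ∀ m, iterD (List.replicate j L) φ (pw L F m) = (fwdDiff (1 : ℕ))^[j] (fun m => φ (pw L F m)) m := by
  induction j with
  | zero => intro m; rfl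
  | succ j ih =>
    intro m
    rw [List.replicate_succ, Function.iterate_succ_apply', fwdDiff, ← ih, ← ih]
    refine congrArg (· - _) ?_
    exact (additive_iterD hφ (fun N hN => (List.eq_of_mem_replicate hN) ▸ hL)).iso _ _
      ⟨(AmpleVan.twComp (CohB1.tensorPow L m) L).app F⟩

/-- The top difference. -/
def lead (L : X.Modules) (φ : X.Modules → ℤ) (d : ℕ) (F : X.Modules) : ℤ := iterD (List.replicate d L) φ F

lemma additive_lead [IsLocallyNoetherian X] (hφ : Additive φ) (hL : PicF.IsInvertible L) (d : ℕ) :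
    Additive (lead L φ d) :=
  additive_iterD hφ fun _ hN => (List.eq_of_mem_replicate hN) ▸ hL

lemma isCoh_pw [IsLocallyNoetherian X] (hL : PicF.IsInvertible L) {F : X.Modules} (hF : Coh.IsCoh F) (m : ℕ) :
    Coh.IsCoh (pw L F m) :=
  AmpleVan.isCoh_tensor hF (AmpleVan.isCoh_invertible (InvX.isInvertible_tensorPow hL m))

/-- Hilbert polynomials: existence, degree bound and top coefficient. -/
theorem exists_poly [IsNoetherian X] (hφ : Additive φ) (hL : PicF.IsInvertible L) {F : X.Modules}
    (hF : Coh.IsCoh F) {d : ℕ} (hd : topologicalKrullDim ↥(CohB1.support F) ≤ (d : WithBot ℕ∞)) :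
    ∃ P : Polynomial ℚ, (∀ m : ℕ, (φ (pw L F m) : ℚ) = P.eval (m : ℚ)) ∧ P.natDegree ≤ d ∧
      StabCat.alpha d P = lead L φ d F := by
  let f : ℕ → ℤ := fun m => φ (pw L F m)
  let c : ℕ → ℚ := fun j => ((fwdDiff (1 : ℕ))^[j] f 0 : ℤ)
  have hzero : ∀ j, d < j → c j = 0 := fun j hj => by
    have h := iterD_eq_zero j hφ (List.replicate j L) List.length_replicate
      (fun N hN => (List.eq_of_mem_replicate hN) ▸ hL) (pw L F 0) (isCoh_pw hL hF 0)
      (dimLT_of_subset (support_tensor_subset _ _) ((lt_succ_of_le hd).trans_le (by exact_mod_cast hj)))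
    rw [iterD_replicate_pw hφ hL] at h
    simp only [c, f, h, Int.cast_zero]
  refine ⟨∑ j ∈ Finset.range (d + 1), Polynomial.C (c j / (j.factorial : ℚ)) * descPochhammer ℚ j,
    fun m => ?_, ?_, ?_⟩
  · rw [Polynomial.eval_finset_sum]
    have h := shift_eq_sum_fwdDiff_iter (1 : ℕ) f m 0
    simp only [smul_eq_mul, mul_one, zero_add] at h
    have h' : (f m : ℚ) = ∑ j ∈ Finset.range (m + 1), (m.choose j : ℚ) * c j := by
      rw [h]; push_cast; simp [c, nsmul_eq_mul]
    have e1 : ∑ j ∈ Finset.range (m + 1), (m.choose j : ℚ) * c j =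
        ∑ j ∈ Finset.range (max m d + 1), (m.choose j : ℚ) * c j :=
      Finset.sum_subset (Finset.range_mono (by omega)) fun j _ hj => by
        rw [Nat.choose_eq_zero_of_lt (by simp at hj; omega)]; simp
    have e2 : ∑ j ∈ Finset.range (d + 1), (m.choose j : ℚ) * c j =
        ∑ j ∈ Finset.range (max m d + 1), (m.choose j : ℚ) * c j :=
      Finset.sum_subset (Finset.range_mono (by omega)) fun j _ hj => by
        rw [hzero j (by simp at hj; omega)]; simp
    change (f m : ℚ) = _
    rw [h', e1, ← e2]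
    refine Finset.sum_congr rfl fun j _ => ?_
    rw [Polynomial.eval_mul, Polynomial.eval_C, Nat.cast_choose_eq_descPochhammer_div]
    ring
  · refine Polynomial.natDegree_sum_le_of_forall_le _ _ fun j hj => ?_
    refine Polynomial.natDegree_C_mul_le _ _ |>.trans ?_
    rw [descPochhammer_natDegree]
    exact Nat.lt_succ_iff.1 (Finset.mem_range.1 hj)
  · have hm : (descPochhammer ℚ d).coeff d = 1 := by
      have := (monic_descPochhammer ℚ d).coeff_natDegree
      rwa [descPochhammer_natDegree] at this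
    rw [StabCat.alpha, Polynomial.finset_sum_coeff, Finset.sum_eq_single d]
    · rw [Polynomial.coeff_C_mul, hm, mul_one, mul_div_cancel₀ _ (by exact_mod_cast d.factorial_ne_zero)]
      simp only [c, f, ← iterD_replicate_pw hφ hL]
      exact_mod_cast (additive_lead hφ hL d).iso _ _ ⟨AmpleVan.twUnit.app F⟩
    · intro j hj hne
      rw [Polynomial.coeff_C_mul, Polynomial.coeff_eq_zero_of_natDegree_lt, mul_zero]
      rw [descPochhammer_natDegree]
      have := Finset.mem_range.1 hj
      omega
    · intro h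
      exact absurd (Finset.self_mem_range_succ d) h

end Twists

section Euler

variable (k : Type u) [Field k] [X.Over (Spec (CommRingCat.of k))] [IsProper (X ↘ Spec (CommRingCat.of k))]

omit [IsProper (X ↘ Spec (CommRingCat.of k))] in
lemma finrank_HH_iso {M N : X.Modules} (e : M ≅ N) (n : ℕ) :
    Module.finrank k (Coh.HH X M n) = Module.finrank k (Coh.HH X N n) := by
  refine LinearEquiv.finrank_eq (LinearEquiv.ofLinear (PnCoh.Finite.mapLin k e.hom n) (PnCoh.Finite.mapLin k e.inv n) ?_ ?_)
  · refine LinearMap.ext fun y => ?_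
    show Sheaf.H.map _ n (Sheaf.H.map _ n y) = y
    refine (PnCoh.Finite.map_map (Y := X.toPresheafedSpace.carrier)
      (((QCoh.toAbFunctor X).map_comp e.inv e.hom).symm.trans ((congrArg _ e.inv_hom_id).trans ((QCoh.toAbFunctor X).map_id N))) n y).trans ?_
    exact Sheaf.H.map_id_apply _
  · refine LinearMap.ext fun y => ?_
    show Sheaf.H.map _ n (Sheaf.H.map _ n y) = y
    refine (PnCoh.Finite.map_map (Y := X.toPresheafedSpace.carrier)
      (((QCoh.toAbFunctor X).map_comp e.hom e.inv).symm.trans ((congrArg _ e.hom_inv_id).trans ((QCoh.toAbFunctor X).map_id M))) n y).trans ?_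
    exact Sheaf.H.map_id_apply _

/-- The Euler characteristic is additive. -/
theorem additive_euler : Additive (Curv2.euler k X) :=
  ⟨fun _ _ ⟨e⟩ => finsum_congr fun i => by rw [finrank_HH_iso k e i],
    fun _ hS h₁ h₂ h₃ => CurveCohLib.euler_additive hS h₁ h₂ h₃⟩

/-- The multiplicity in dimension `d`. -/
abbrev mult (L : X.Modules) (d : ℕ) (F : X.Modules) : ℤ := lead L (Curv2.euler k X) d F

end Euler

end Groth.Agent.HilbPoly
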