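import Groth.Agent.HilbPoly.Stab
import Groth.Agent.CurveBC.Coh
import Groth.Agent.KFlatLib.Scheme.FlatDescent
import Groth.Agent.S2547
import Groth.Agent.H23.PicMul
import Groth.Agent.HilbPoly.EllSimple
import Groth.Agent.ZClosLib.CohDescent

/-!
# Semistability descends along field extensions
-/

set_option linter.style.haveILetI false
set_option linter.unusedSectionVars false
set_option backward.isDefEq.respectTransparency false
set_option backward.isDefEq.respectTransparency.types false

universe u

open CategoryTheory CategoryTheory.Limits AlgebraicGeometry Polynomial StabCat TopologicalSpace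

noncomputable section

namespace Groth.Agent.HilbPoly

open Groth.Agent

variable {X : Scheme.{u}} {k : Type u} [Field k] [X.Over (Spec (CommRingCat.of k))]
  [IsProper (X ↘ Spec (CommRingCat.of k))] {L : X.Modules}

lemma isHilbPoly_bc (hL : CohB1.IsAmple L) (K : Type u) [Field K] [Algebra k K] {E : X.Modules}
    (hE : Coh.IsCoh E) {P : ℚ[X]} (hP : ShStab.IsHilbPoly k X L E P) :
    ShStab.IsHilbPoly K (Curv2.bc k X K) ((Scheme.Modules.pullback (Curv2.bcFst k X K)).obj L)
      ((Scheme.Modules.pullback (Curv2.bcFst k X K)).obj E) P := by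
  intro m
  haveI : CompactSpace X := QuasiCompact.compactSpace_of_compactSpace (X ↘ Spec (CommRingCat.of k))
  haveI : QuasiSeparatedSpace X := quasiSeparatedSpace_of_quasiSeparated (X ↘ Spec (CommRingCat.of k))
  haveI : IsNoetherian X := CurveCohLib.isNoetherian_of_proper (k := k)
  haveI : (Scheme.Modules.pullback (Curv2.bcFst k X K)).Additive := Functor.additive_of_preserves_binary_products _
  obtain ⟨e₁⟩ := pull_tensorPow (Curv2.bcFst k X K) L m
  obtain ⟨e₂⟩ := H23.PicMul.pull (Curv2.bcFst k X K) E (CohB1.tensorPow L m)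
  have hq : Coh.IsQCoh (CohB1.tensorMod E (CohB1.tensorPow L m)) :=
    (AmpleVan.isCoh_tensor hE (AmpleVan.isCoh_invertible (InvX.isInvertible_tensorPow hL.1 m))).1
  have hpb : IsPullback (Curv2.bcFst k X K) (Curv2.bc k X K ↘ Spec (CommRingCat.of K))
      (X ↘ Spec (CommRingCat.of k)) (Spec.map (CommRingCat.ofHom (algebraMap k K))) := IsPullback.of_hasPullback _ _
  rw [← hP m]
  unfold ShStab.twist
  rw [← CurveBC.euler_eq k K (Curv2.bcFst k X K) hpb _ hq]
  exact_mod_cast (CurveCohLib.euler_congr (k := K)
    (e₂ ≪≫ (DCoh.tensorBi.obj _).mapIso e₁)).symm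

theorem isSemistable_descent (hL : CohB1.IsAmple L) (d : ℕ) {E : X.Modules} (hE : Coh.IsCoh E)
    (hp : ShStab.IsPure X E d) (K : Type u) [Field K] [Algebra k K]
    (hK : ShStab.IsSemistable K (Curv2.bc k X K) ((Scheme.Modules.pullback (Curv2.bcFst k X K)).obj L)
      ((Scheme.Modules.pullback (Curv2.bcFst k X K)).obj E) d) :
    ShStab.IsSemistable k X L E d := by
  haveI : IsNoetherian X := CurveCohLib.isNoetherian_of_proper (k := k)
  let f := Curv2.bcFst k X K
  haveI : Surjective (Spec.map (CommRingCat.ofHom (algebraMap k K))) :=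
    ⟨fun p => ⟨⟨⊥, Ideal.isPrime_bot⟩, Subsingleton.elim _ _⟩⟩
  haveI : Flat f := inferInstance
  haveI : Surjective f := inferInstance
  haveI : (Scheme.Modules.pullback f).Additive := Functor.additive_of_preserves_binary_products _
  haveI := KFlatLib.preservesHomology_pullback f
  haveI := S2547.result f
  refine ⟨hE, fun hz => hK.2.1 ((Scheme.Modules.pullback f).map_isZero hz), hp, ?_⟩
  intro F ι hι hF hF0 hi pF pE hpF hpE
  haveI := hι
  refine hK.2.2.2 _ ((Scheme.Modules.pullback f).map ι) inferInstance (ZClosLib.isCoh_pullback f hF)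
    (fun hz => hF0 (KFlatLib.isZero_of_isZero_pullback f F hz)) (fun hiso => ?_) pF pE
    (isHilbPoly_bc hL K hF hpF) (isHilbPoly_bc hL K hE hpE)
  haveI := hiso
  haveI : Epi ι := (Scheme.Modules.pullback f).epi_of_epi_map (f := ι) inferInstance
  exact hi (isIso_of_mono_of_epi ι)

end Groth.Agent.HilbPoly
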