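import Groth.Agent.H9Misc.SubobjJH

/-!
# Subobjects of quotients and intervals of subobjects
-/

set_option linter.style.haveILetI false

universe v u

open CategoryTheory CategoryTheory.Limits

noncomputable section

namespace Groth.Agent.HilbPoly

variable {C : Type u} [Category.{v} C] [Abelian C] {E : C}

/-- An interval quotient inside the quotient of the whole object. -/
def qmap {S T : Subobject E} (h : S ≤ T) : cokernel (Subobject.ofLE S T h) ⟶ cokernel S.arrow :=
  cokernel.map _ _ (𝟙 _) T.arrow (by simp)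

@[reassoc]
lemma π_qmap {S T : Subobject E} (h : S ≤ T) :
    cokernel.π _ ≫ qmap h = T.arrow ≫ cokernel.π S.arrow := cokernel.π_desc _ _ _

instance mono_qmap {S T : Subobject E} (h : S ≤ T) : Mono (qmap h) :=
  Preadditive.mono_of_cancel_zero _ fun {B} z hz => by
    obtain ⟨B', q, _, t, ht⟩ := surjective_up_to_refinements_of_epi (cokernel.π (Subobject.ofLE S T h)) z
    rw [← cancel_epi q, comp_zero, ht]
    refine H9Misc.lift_comp_π _ t ?_
    have h1 : (t ≫ T.arrow) ≫ cokernel.π S.arrow = 0 := by
      rw [Category.assoc, ← π_qmap h, ← Category.assoc, ← ht, Category.assoc, hz, comp_zero]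
    have := Abelian.monoLift_comp S.arrow (t ≫ T.arrow) h1
    exact (Subobject.factors_iff _ _).2 ⟨Abelian.monoLift S.arrow (t ≫ T.arrow) h1, this⟩

lemma le_of_ofLE_comp_π {S T U : Subobject E} (hTU : T ≤ U) (hSU : S ≤ U)
    (h : Subobject.ofLE T U hTU ≫ cokernel.π (Subobject.ofLE S U hSU) = 0) : T ≤ S := by
  have := H9Misc.factors_of_comp_π hSU _ h
  rw [Subobject.ofLE_arrow] at this
  exact Subobject.le_of_comm (S.factorThru _ this) (S.factorThru_arrow _ _)

lemma le_of_qmap_factor {S T T' : Subobject E} (h : S ≤ T) (h' : S ≤ T')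
    (φ : cokernel (Subobject.ofLE S T h) ⟶ cokernel (Subobject.ofLE S T' h')) (hφ : φ ≫ qmap h' = qmap h) :
    T ≤ T' := by
  rw [Groth.Agent.SubLat.le_iff_factors]
  intro B x hx
  obtain ⟨B', q, _, t, ht⟩ := surjective_up_to_refinements_of_epi (cokernel.π (Subobject.ofLE S T' h'))
    (T.factorThru x hx ≫ cokernel.π _ ≫ φ)
  refine Groth.Agent.SubLat.factors_of_epi q x ?_
  have h1 : (q ≫ x - t ≫ T'.arrow) ≫ cokernel.π S.arrow = 0 := by
    have h2 := congrArg (· ≫ qmap h') ht
    simp only [Category.assoc, hφ, π_qmap, Subobject.factorThru_arrow_assoc] at h2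
    rw [Preadditive.sub_comp, sub_eq_zero, Category.assoc, h2, Category.assoc]
  have h3 : S.Factors (q ≫ x - t ≫ T'.arrow) :=
    (Subobject.factors_iff _ _).2 ⟨Abelian.monoLift S.arrow _ h1, Abelian.monoLift_comp S.arrow _ h1⟩
  have h4 := Subobject.factors_add _ _ (Subobject.factors_of_le _ h' h3)
    (Subobject.factors_of_factors_right t (Subobject.factors_self T'))
  rwa [sub_add_cancel] at h4

/-- Every submodule of the quotient is an interval quotient. -/
lemma exists_preimage {S : Subobject E} {W : C} (w : W ⟶ cokernel S.arrow) [Mono w] :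
    ∃ (T : Subobject E) (h : S ≤ T) (e : W ≅ cokernel (Subobject.ofLE S T h)), e.hom ≫ qmap h = w := by
  let π : E ⟶ cokernel w := cokernel.π S.arrow ≫ cokernel.π w
  have h : S ≤ Subobject.mk (kernel.ι π) :=
    Subobject.le_mk_of_comm (kernel.lift π S.arrow (by simp [π])) (kernel.lift_ι _ _ _)
  have hz : qmap h ≫ cokernel.π w = 0 := by
    rw [← cancel_epi (cokernel.π _), π_qmap_assoc, comp_zero, ← Subobject.underlyingIso_hom_comp_eq_mk,
      Category.assoc]
    exact (congrArg (_ ≫ ·) (kernel.condition π)).trans comp_zero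
  let φ := Abelian.monoLift w (qmap h) hz
  have hφ : φ ≫ w = qmap h := Abelian.monoLift_comp _ _ _
  haveI : Mono φ := by
    haveI : Mono (φ ≫ w) := by rw [hφ]; infer_instance
    exact mono_of_mono φ w
  haveI : Epi φ := epi_iff_surjective_up_to_refinements _ |>.2 fun {B} z => by
    obtain ⟨B', q, _, t, ht⟩ := surjective_up_to_refinements_of_epi (cokernel.π S.arrow) (z ≫ w)
    have ht0 : t ≫ π = 0 := by
      rw [← reassoc_of% ht, cokernel.condition, comp_zero, comp_zero]
    refine ⟨B', q, inferInstance, (kernel.lift π t ht0 ≫ (Subobject.underlyingIso _).inv) ≫ cokernel.π _, ?_⟩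
    rw [← cancel_mono w]
    simp only [Category.assoc, hφ, π_qmap]
    rw [Subobject.underlyingIso_arrow_assoc, kernel.lift_ι_assoc]
    exact ht
  haveI := isIso_of_mono_of_epi φ
  exact ⟨_, h, (asIso φ).symm, by simp [← hφ]⟩

end Groth.Agent.HilbPoly
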