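import Groth.Agent.HilbPoly.EllHN

/-!
# The minimal destabilising quotient
-/

set_option linter.style.haveILetI false
set_option linter.unusedSectionVars false
set_option backward.isDefEq.respectTransparency false
set_option backward.isDefEq.respectTransparency.types false

universe u

open CategoryTheory CategoryTheory.Limits AlgebraicGeometry Polynomial StabCat TopologicalSpace

noncomputable section

namespace Groth.Agent.HilbPoly

open Groth.Agent

variable {X : Scheme.{u}} {k : Type u} [Field k] [X.Over (Spec (CommRingCat.of k))]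
  [IsProper (X ↘ Spec (CommRingCat.of k))] {L : X.Modules} {d ℓ : ℕ}

lemma topPart_idem (P : ℚ[X]) : topPart ℓ d (topPart ℓ d P) = topPart ℓ d P := by
  refine Polynomial.ext fun j => ?_
  simp only [topPart_coeff]
  split_ifs <;> rfl

/-- Mapping a filtered module to a semistable one with smaller polynomial kills the earlier steps. -/
lemma ell_kill (hL : CohB1.IsAmple L) {E G : X.Modules} (s : LTSeries (Subobject E)) (hs : IsEllHN k L d ℓ E s)
    (hG : ShStab.IsEllSemistable k X L G d ℓ) {pG : ℚ[X]} (hpG : ShStab.IsHilbPoly k X L G pG) (ψ : E ⟶ G)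
    (c : Fin (s.length + 1))
    (hlt : ∀ i : Fin s.length, i.val < c.val → ∀ p : ℚ[X], ShStab.IsHilbPoly k X L (factor s i) p →
      RedLT d (topPart ℓ d pG) (topPart ℓ d p)) : (s c).arrow ≫ ψ = 0 := by
  have key : ∀ i : Fin (s.length + 1), i.val ≤ c.val → (s i).arrow ≫ ψ = 0 := by
    intro i
    induction i using Fin.induction with
    | zero => intro _; rw [show s 0 = ⊥ from hs.1, Subobject.bot_arrow, Limits.zero_comp]
    | succ a ih =>
      intro ha
      have hac : a.val < c.val := by simpa using ha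
      have h0 : Subobject.ofLE _ _ (le_of_lt (s.step a)) ≫ (s a.succ).arrow ≫ ψ = 0 := by
        rw [Subobject.ofLE_arrow_assoc]; exact ih (by simpa using hac.le)
      obtain ⟨p, hp, -⟩ := exists_hilbT hL (hs.2.2.1 a)
      have h1 := ell_hom_eq_zero hL (hs.2.2.1 a) hG hp hpG (hlt a hac p hp) (cokernel.desc _ _ h0)
      rw [← cokernel.π_desc _ _ h0]
      exact (congrArg (cokernel.π _ ≫ ·) h1).trans Limits.comp_zero
  exact key c le_rfl

/-- The last factor has smaller polynomial than the whole module, unless it is the only one. -/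
lemma last_factor_lt (hL : CohB1.IsAmple L) {G : X.Modules} (hGc : Coh.IsCoh G) (hGp : ShStab.IsPure X G d)
    (t : LTSeries (Subobject G)) (ht : IsEllHN k L d ℓ G t) (m : Fin t.length) (hm : m.val + 1 = t.length)
    (hm0 : 0 < m.val) {pm pG : ℚ[X]} (hpm : ShStab.IsHilbPoly k X L (factor t m) pm)
    (hpG : ShStab.IsHilbPoly k X L G pG) : RedLT d (topPart ℓ d pm) (topPart ℓ d pG) := by
  haveI : IsNoetherian X := CurveCohLib.isNoetherian_of_proper (k := k)
  have hd := dim_le_of_isPure hGp hGc
  let T : ℚ[X] → ℚ[X] := topPart ℓ d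
  let w : ℚ[X] → ℕ → ℚ := fun P j =>
    alpha d (T pm) * (T P).eval (j : ℚ) - alpha d (T P) * (T pm).eval (j : ℚ)
  have wadd : ∀ P Q j, w (P + Q) j = w P j + w Q j := fun P Q j => by
    simp only [w, T, topPart_add, eval_add, alpha_add]; ring
  have key : ∀ i : Fin (t.length + 1), i.val ≤ m.val → Coh.IsCoh (t i : X.Modules) ∧
      ∃ P, ShStab.IsHilbPoly k X L (t i : X.Modules) P ∧
        (i.val = 0 → P = 0) ∧ (0 < i.val → ∃ N : ℕ, ∀ j : ℕ, N ≤ j → 0 < w P j) := by
    intro i
    induction i using Fin.induction with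
    | zero =>
      intro _
      have hz : IsZero ((t 0 : Subobject G) : X.Modules) := by
        rw [show t 0 = ⊥ from ht.1]; exact (isZero_zero _).of_iso Subobject.botCoeIsoZero
      exact ⟨isCoh_of_iso (IsZero.iso (isZero_kernel_of_mono (𝟙 G)) hz) (QCoh.isCoh_kernel hGc hGc (𝟙 G)),
        0, hilb_isZero hz, fun _ => rfl, fun h => absurd h (by simp)⟩
    | succ a ih =>
      intro ha
      have ham : a.val < m.val := by simpa using ha
      obtain ⟨hc, P, hP, hP0, hPpos⟩ := ih (by simpa using ham.le)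
      obtain ⟨p, hp, -⟩ := exists_hilbT hL (ht.2.2.1 a)
      have hSE : (ShortComplex.mk (Subobject.ofLE _ _ (le_of_lt (t.step a))) (cokernel.π _)
          (cokernel.condition _)).ShortExact :=
        .mk' (ShortComplex.exact_of_g_is_cokernel _ (cokernelIsCokernel _)) inferInstance inferInstance
      have h3 : Coh.IsCoh (factor t a) := (ht.2.2.1 a).1
      have hc' : Coh.IsCoh (t a.succ : X.Modules) :=
        mu_extension.isCoh_ext hSE hc h3 (QCoh.isQCoh_X₂ hSE hc.1 h3.1)
      refine ⟨hc', P + p, hilb_add hL.1 hSE hc hc' h3 hP hp, fun h => absurd h (by simp), fun _ => ?_⟩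
      obtain ⟨N, hN⟩ := ell_chain_redLT hL t ht a m ham p pm hp hpm
      have hwp : ∀ j : ℕ, N ≤ j → 0 < w p j := fun j hj => by
        have := hN j hj
        simp only [eval_smul, smul_eq_mul] at this
        simp only [w, T]
        linarith
      rcases Nat.eq_zero_or_pos a.val with h0 | hpos
      · refine ⟨N, fun j hj => ?_⟩
        rw [hP0 (by simpa using h0), zero_add]
        exact hwp j hj
      · obtain ⟨N', hN'⟩ := hPpos (by simpa using hpos)
        refine ⟨max N N', fun j hj => ?_⟩
        rw [wadd]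
        exact add_pos (hN' j (le_trans (le_max_right _ _) hj)) (hwp j (le_trans (le_max_left _ _) hj))
  obtain ⟨hc, P, hP, -, hpos⟩ := key m.castSucc (by simp)
  obtain ⟨N, hN⟩ := hpos (by simpa using hm0)
  have hlast : t m.succ = ⊤ := by
    rw [show m.succ = Fin.last t.length from Fin.ext (by simp; omega)]; exact ht.2.1
  haveI : IsIso (t m.succ).arrow := by rw [Subobject.isIso_arrow_iff_eq_top]; exact hlast
  have hSE : (ShortComplex.mk (Subobject.ofLE _ _ (le_of_lt (t.step m))) (cokernel.π _)
      (cokernel.condition _)).ShortExact :=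
    .mk' (ShortComplex.exact_of_g_is_cokernel _ (cokernelIsCokernel _)) inferInstance inferInstance
  have hc2 := isCoh_of_iso (asIso (t m.succ).arrow).symm hGc
  have hsum : pG = P + pm := isHilbPoly_unique hpG
    (hilb_iso (asIso (t m.succ).arrow) (hilb_add hL.1 hSE hc hc2 (ht.2.2.1 m).1 hP hpm))
  refine ⟨N, fun j hj => ?_⟩
  have h := hN j hj
  simp only [eval_smul, smul_eq_mul, hsum, topPart_add, eval_add, alpha_add]
  simp only [w, T] at h
  linarith

/-- A pure quotient with the smallest reduced polynomial and multiplicity is the last factor. -/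
theorem ell_min_quotient (hL : CohB1.IsAmple L) {E : X.Modules} (hE : Coh.IsCoh E) (hp : ShStab.IsPure X E d)
    (s : LTSeries (Subobject E))
    (hs : StabCat.IsHNWith (fun G => ShStab.IsEllSemistable k X L G d ℓ)
      (fun G P => ∃ Q : Polynomial ℚ, ShStab.IsHilbPoly k X L G Q ∧ P = StabCat.topPart ℓ d Q) d E s)
    {G : X.Modules} (q : E ⟶ G) [Epi q] (hG : Coh.IsCoh G) (hG0 : ¬ IsZero G) (hGp : ShStab.IsPure X G d)
    {pF pG : ℚ[X]} (hpF : ShStab.IsHilbPoly k X L (cokernel s.eraseLast.last.arrow) pF)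
    (hpG : ShStab.IsHilbPoly k X L G pG) (hα : StabCat.alpha d pF = StabCat.alpha d pG)
    (hred : StabCat.RedEq d (StabCat.topPart ℓ d pF) (StabCat.topPart ℓ d pG)) :
    ∃ φ : (cokernel s.eraseLast.last.arrow) ≅ G, cokernel.π s.eraseLast.last.arrow ≫ φ.hom = q := by
  haveI : IsNoetherian X := CurveCohLib.isNoetherian_of_proper (k := k)
  have hs' : IsEllHN k L d ℓ E s := ⟨hs.1, hs.2.1, hs.2.2.1, fun i j hij p r hp hr =>
    hs.2.2.2 i j hij _ _ ⟨p, hp, rfl⟩ ⟨r, hr, rfl⟩⟩
  have hlen : 0 < s.length := by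
    by_contra h
    have hbt : (⊥ : Subobject E) = ⊤ := by
      rw [← hs.1, ← hs.2.1]; exact congrArg s.toFun (Fin.ext (by simp; omega))
    have : IsIso (⊥ : Subobject E).arrow := by rw [Subobject.isIso_arrow_iff_eq_top]; exact hbt
    exact hG0 ((IsZero.iff_id_eq_zero G).2 (by
      rw [← cancel_epi q, ← cancel_epi (⊥ : Subobject E).arrow, Subobject.bot_arrow]; simp))
  let l : Fin s.length := ⟨s.length - 1, by omega⟩
  have hS : s.eraseLast.last = s l.castSucc := congrArg s.toFun (Fin.ext (by simp [l]))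
  have hlsucc : s l.succ = ⊤ := by
    rw [show l.succ = Fin.last s.length from Fin.ext (by simp [l]; omega)]; exact hs.2.1
  haveI : IsIso (s l.succ).arrow := by rw [Subobject.isIso_arrow_iff_eq_top]; exact hlsucc
  let e : factor s l ≅ cokernel s.eraseLast.last.arrow :=
    cokernel.mapIso _ _ (Subobject.isoOfEq _ _ hS.symm) (asIso (s l.succ).arrow) (by simp)
  have hpl : ShStab.IsHilbPoly k X L (factor s l) pF := hilb_iso e.symm hpF
  have hαF : 0 < alpha d pF := alpha_pos_ell hL (hs'.2.2.1 l) hpl
  -- `G` is semistable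
  obtain ⟨t, ht⟩ := exists_ellHN (k := k) (ℓ := ℓ) hL hG hGp
  have htlen : 0 < t.length := by
    by_contra h
    have hbt : (⊥ : Subobject G) = ⊤ := by
      rw [← ht.1, ← ht.2.1]; exact congrArg t.toFun (Fin.ext (by simp; omega))
    have : IsIso (⊥ : Subobject G).arrow := by rw [Subobject.isIso_arrow_iff_eq_top]; exact hbt
    exact hG0 ((IsZero.iff_id_eq_zero G).2 (by
      rw [← cancel_epi (⊥ : Subobject G).arrow, Subobject.bot_arrow, Limits.zero_comp, Limits.zero_comp]))
  let m : Fin t.length := ⟨t.length - 1, by omega⟩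
  obtain ⟨pm, hpm, -⟩ := exists_hilbT hL (ht.2.2.1 m)
  have hGss : ShStab.IsEllSemistable k X L G d ℓ := by
    by_cases hm0 : m.val = 0
    · have h1 : t m.succ = ⊤ := by
        rw [show m.succ = Fin.last t.length from Fin.ext (by simp [m] at hm0 ⊢; omega)]; exact ht.2.1
      have h2 : (t m.castSucc).arrow = 0 := by
        rw [show t m.castSucc = ⊥ from (congrArg t.toFun (Fin.ext (by simpa using hm0))).trans ht.1]
        exact Subobject.bot_arrow
      haveI : IsIso (t m.succ).arrow := by rw [Subobject.isIso_arrow_iff_eq_top]; exact h1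
      have h3 : Subobject.ofLE _ _ (le_of_lt (t.step m)) = 0 := by
        rw [← cancel_mono (t m.succ).arrow, Subobject.ofLE_arrow, h2, Limits.zero_comp]
      haveI : IsIso (cokernel.π (Subobject.ofLE _ _ (le_of_lt (t.step m)))) :=
        ⟨cokernel.desc _ (𝟙 _) (by rw [h3, Limits.zero_comp]), by simp,
          by rw [← cancel_epi (cokernel.π (Subobject.ofLE _ _ (le_of_lt (t.step m))))]; simp⟩
      exact isEllSemistable_of_iso
        ((asIso (cokernel.π (Subobject.ofLE _ _ (le_of_lt (t.step m))))).symm ≪≫ asIso (t m.succ).arrow)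
        (ht.2.2.1 m)
    · exfalso
      have hlt := last_factor_lt hL hG hGp t ht m (by simp [m]; omega) (Nat.pos_of_ne_zero hm0) hpm hpG
      haveI hiso : IsIso (t m.succ).arrow := by
        rw [Subobject.isIso_arrow_iff_eq_top, show m.succ = Fin.last t.length from Fin.ext (by simp [m]; omega)]
        exact ht.2.1
      let ψ : E ⟶ factor t m := q ≫ inv (t m.succ).arrow ≫ cokernel.π _
      haveI : Epi ψ := by unfold ψ; infer_instance
      have hz : (s (Fin.last _)).arrow ≫ ψ = 0 := by
        refine ell_kill hL s hs' (ht.2.2.1 m) hpm ψ _ fun i _ p hp' => ?_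
        have hFG : RedLE d (topPart ℓ d pG) (topPart ℓ d pF) :=
          ⟨0, fun j _ => le_of_eq (congrArg (Polynomial.eval (j : ℚ)) hred.symm)⟩
        have h4 : RedLT d (topPart ℓ d pm) (topPart ℓ d pF) := by
          obtain ⟨N, hN⟩ := hlt
          refine ⟨N, fun j hj => ?_⟩
          have h5 := hN j hj
          have h6 := congrArg (Polynomial.eval (j : ℚ)) hred
          simp only [alpha_topPart, eval_smul, smul_eq_mul, ← hα] at h5 h6 ⊢
          have := mul_left_cancel₀ hαF.ne' h6
          rw [this]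
          exact h5
        rcases eq_or_ne i l with rfl | hne
        · rwa [isHilbPoly_unique hp' hpl]
        · exact redLT_trans_left (alphaT_pos hL (ht.2.2.1 m) hpm) (by rwa [alpha_topPart])
            (alphaT_pos hL (hs'.2.2.1 i) hp').le (redLE_of_redLT h4)
            (ell_chain_redLT hL s hs' i l (by have := i.isLt; have := Fin.val_ne_of_ne hne; simp [l] at *; omega)
              _ _ hp' hpl)
      haveI : IsIso (s (Fin.last _)).arrow := by rw [Subobject.isIso_arrow_iff_eq_top]; exact hs.2.1
      exact (ht.2.2.1 m).2.1 ((IsZero.iff_id_eq_zero _).2 (by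
        rw [← cancel_epi ψ, ← cancel_epi (s (Fin.last _)).arrow, ← Category.assoc, hz]
        simp))
  have hz : s.eraseLast.last.arrow ≫ q = 0 := by
    rw [hS]
    refine ell_kill hL s hs' hGss hpG q _ fun i hi p hp' => ?_
    obtain ⟨N, hN⟩ := ell_chain_redLT hL s hs' i l (by simpa using hi) p pF hp' hpl
    refine ⟨N, fun j hj => ?_⟩
    have h5 := hN j hj
    have h6 := congrArg (Polynomial.eval (j : ℚ)) hred
    simp only [alpha_topPart, eval_smul, smul_eq_mul, ← hα] at h5 h6 ⊢
    rw [← mul_left_cancel₀ hαF.ne' h6]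
    exact h5
  let φ := cokernel.desc _ q hz
  have hφ : cokernel.π _ ≫ φ = q := cokernel.π_desc _ _ _
  haveI : Epi φ := by
    haveI : Epi (cokernel.π s.eraseLast.last.arrow ≫ φ) := by rw [hφ]; infer_instance
    exact epi_of_epi (cokernel.π s.eraseLast.last.arrow) φ
  have hFp : ShStab.IsEllSemistable k X L (cokernel s.eraseLast.last.arrow) d ℓ :=
    isEllSemistable_of_iso e (hs'.2.2.1 l)
  obtain ⟨hKc, hdK, hpK⟩ := kernel_data (k := k) hL hFp.1 hG (dim_le_of_isPure hFp.2.2.1 hFp.1) φ hpF hpG
  have hK0 : IsZero (kernel φ) := by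
    by_contra hK0
    have := alpha_pos hL hKc (hFp.2.2.1 _ (kernel.ι φ) inferInstance hKc hK0) hpK
    simp only [alpha, Polynomial.coeff_sub] at this hα
    linarith
  haveI : Mono φ := Preadditive.mono_of_kernel_zero (hK0.eq_of_src _ _)
  haveI := isIso_of_mono_of_epi φ
  exact ⟨asIso φ, hφ⟩

end Groth.Agent.HilbPoly
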