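import Groth.Agent.HilbPoly.MaxDestab
import Groth.Agent.HilbPoly.Quot

/-!
# Harder–Narasimhan filtrations
-/

set_option linter.style.haveILetI false
set_option linter.unusedSectionVars false
set_option backward.isDefEq.respectTransparency false
set_option backward.isDefEq.respectTransparency.types false

universe u

open CategoryTheory CategoryTheory.Limits AlgebraicGeometry Polynomial StabCat TopologicalSpace

noncomputable section

namespace Groth.Agent.HilbPoly

open Groth.Agent

variable {X : Scheme.{u}} {k : Type u} [Field k] [X.Over (Spec (CommRingCat.of k))]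
  [IsProper (X ↘ Spec (CommRingCat.of k))] {L : X.Modules} {d : ℕ}

lemma isPure_of_iso {F G : X.Modules} (e : F ≅ G) (h : ShStab.IsPure X F d) : ShStab.IsPure X G d :=
  fun W w hw hW hW0 => h W (w ≫ e.inv) (by haveI := hw; infer_instance) hW hW0

lemma isPure_of_mono {F G : X.Modules} (f : F ⟶ G) [Mono f] (h : ShStab.IsPure X G d) : ShStab.IsPure X F d :=
  fun W w hw hW hW0 => h W (w ≫ f) (by haveI := hw; infer_instance) hW hW0

lemma isSemistable_of_iso {F G : X.Modules} (e : F ≅ G) (h : ShStab.IsSemistable k X L F d) :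
    ShStab.IsSemistable k X L G d := by
  obtain ⟨hc, h0, hp, hss⟩ := h
  refine ⟨isCoh_of_iso e hc, fun hz => h0 (hz.of_iso e), isPure_of_iso e hp,
    fun W w hw hW hW0 hi pW pG hpW hpG => ?_⟩
  haveI := hw
  refine hss W (w ≫ e.inv) inferInstance hW hW0 (fun hh => hi ?_) pW pG hpW (hilb_iso e.symm hpG)
  haveI := hh
  exact IsIso.of_isIso_comp_right w e.inv

lemma alpha_pos_ss (hL : CohB1.IsAmple L) {F : X.Modules} (hF : ShStab.IsSemistable k X L F d) {p : ℚ[X]}
    (hp : ShStab.IsHilbPoly k X L F p) : 0 < alpha d p :=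
  alpha_pos hL hF.1 (dim_of_isPure hF.2.2.1 hF.1 hF.2.1) hp

lemma exists_hilb_ss (hL : CohB1.IsAmple L) {F : X.Modules} (hF : ShStab.IsSemistable k X L F d) :
    ∃ p, ShStab.IsHilbPoly k X L F p ∧ 0 < alpha d p := by
  obtain ⟨p, hp, -, -⟩ := exists_hilb (k := k) hL.1 hF.1 (dim_le_of_isPure hF.2.2.1 hF.1)
  exact ⟨p, hp, alpha_pos_ss hL hF hp⟩

/-- A morphism from a semistable module vanishes if all the target factors are smaller. -/
theorem hom_eq_zero_of_factors (hL : CohB1.IsAmple L) {A G : X.Modules} (hA : ShStab.IsSemistable k X L A d)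
    {pA : ℚ[X]} (hpA : ShStab.IsHilbPoly k X L A pA) (t : LTSeries (Subobject G)) (hh : t.head = ⊥)
    (hl : t.last = ⊤) (hSS : ∀ j : Fin t.length, ShStab.IsSemistable k X L (factor t j) d)
    (hlt : ∀ (j : Fin t.length) (q : ℚ[X]), ShStab.IsHilbPoly k X L (factor t j) q → RedLT d q pA)
    (ψ : A ⟶ G) : ψ = 0 := by
  have key : ∀ i : Fin (t.length + 1), ∃ χ : A ⟶ (t i : X.Modules), χ ≫ (t i).arrow = ψ := by
    intro i
    induction i using Fin.reverseInduction with
    | last =>
      haveI : IsIso (t (Fin.last _)).arrow := by rw [Subobject.isIso_arrow_iff_eq_top]; exact hl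
      exact ⟨ψ ≫ inv (t (Fin.last _)).arrow, by simp⟩
    | cast j ih =>
      obtain ⟨χ, hχ⟩ := ih
      obtain ⟨q, hq, -⟩ := exists_hilb_ss hL (hSS j)
      have h0 : χ ≫ cokernel.π (Subobject.ofLE _ _ (le_of_lt (t.step j))) = 0 :=
        hom_eq_zero hL hA (hSS j) hpA hq (hlt j q hq) _
      exact ⟨Abelian.monoLift _ χ h0, by
        rw [← Subobject.ofLE_arrow (le_of_lt (t.step j)), ← Category.assoc, Abelian.monoLift_comp, hχ]⟩
  obtain ⟨χ, hχ⟩ := key 0
  have h0 : (t 0).arrow = 0 := by rw [show t 0 = ⊥ from hh]; exact Subobject.bot_arrow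
  rw [← hχ, h0, Limits.comp_zero]

/-- The reduced polynomials of the factors decrease. -/
lemma chain_redLT (hL : CohB1.IsAmple L) {E : X.Modules} (s : LTSeries (Subobject E))
    (hs : ShStab.IsHNFiltration k X L E d s) :
    ∀ (i j : Fin s.length), i.val < j.val → ∀ p q : ℚ[X], ShStab.IsHilbPoly k X L (factor s i) p →
      ShStab.IsHilbPoly k X L (factor s j) q → RedLT d q p := by
  intro i
  have : ∀ (n : ℕ) (h : i.val + n + 1 < s.length), ∀ p q : ℚ[X], ShStab.IsHilbPoly k X L (factor s i) p →
      ShStab.IsHilbPoly k X L (factor s ⟨i.val + n + 1, h⟩) q → RedLT d q p := by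
    intro n
    induction n with
    | zero => intro h p q hp hq; exact hs.2.2.2 i ⟨i.val + 1, h⟩ rfl p q hp hq
    | succ n ih =>
      intro h p q hp hq
      let j' : Fin s.length := ⟨i.val + n + 1, by omega⟩
      obtain ⟨r, hr, hαr⟩ := exists_hilb_ss hL (hs.2.2.1 j')
      exact redLT_trans_left (alpha_pos_ss hL (hs.2.2.1 _) hq) hαr (alpha_pos_ss hL (hs.2.2.1 i) hp).le
        (redLE_of_redLT (hs.2.2.2 j' ⟨i.val + (n + 1) + 1, h⟩ (by simp [j']; omega) r q hr hq)) (ih _ p r hp hr)
  intro j hij p q hp hq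
  have hj : (⟨i.val + (j.val - i.val - 1) + 1, by omega⟩ : Fin s.length) = j := by ext; simp; omega
  exact this (j.val - i.val - 1) (by omega) p q hp (by rw [hj]; exact hq)

/-- Morphisms vanish when the smallest slope of the source exceeds the largest of the target. -/
theorem HN_hom_eq_zero (hL : CohB1.IsAmple L) {F G : X.Modules} (s : LTSeries (Subobject F))
    (hs : ShStab.IsHNFiltration k X L F d s) (t : LTSeries (Subobject G))
    (ht : ShStab.IsHNFiltration k X L G d t) (i : Fin s.length) (hi : i.val + 1 = s.length) (j : Fin t.length)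
    (hj : j.val = 0) (pmin pmax : ℚ[X]) (hpmin : ShStab.IsHilbPoly k X L (factor s i) pmin)
    (hpmax : ShStab.IsHilbPoly k X L (factor t j) pmax) (hlt : RedLT d pmax pmin) (φ : F ⟶ G) : φ = 0 := by
  have hαmin := alpha_pos_ss hL (hs.2.2.1 i) hpmin
  have hαmax := alpha_pos_ss hL (ht.2.2.1 j) hpmax
  have hcmp : ∀ (i' : Fin s.length) (p : ℚ[X]), ShStab.IsHilbPoly k X L (factor s i') p →
      ∀ (j' : Fin t.length) (q : ℚ[X]), ShStab.IsHilbPoly k X L (factor t j') q → RedLT d q p := by
    intro i' p hp j' q hq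
    have h1 : RedLT d q pmin := by
      rcases eq_or_ne j' j with rfl | hne
      · rwa [isHilbPoly_unique hq hpmax]
      · exact redLT_trans_left (alpha_pos_ss hL (ht.2.2.1 j') hq) hαmax hαmin.le (redLE_of_redLT
          (chain_redLT hL t ht j j' (by have := Fin.val_ne_of_ne hne; omega) _ _ hpmax hq)) hlt
    rcases eq_or_ne i' i with rfl | hne
    · rwa [isHilbPoly_unique hp hpmin]
    · exact redLT_trans_left (alpha_pos_ss hL (ht.2.2.1 j') hq) hαmin (alpha_pos_ss hL (hs.2.2.1 i') hp).le
        (redLE_of_redLT h1) (chain_redLT hL s hs i' i (by have := Fin.val_ne_of_ne hne; omega) _ _ hp hpmin)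
  have key : ∀ i' : Fin (s.length + 1), (s i').arrow ≫ φ = 0 := by
    intro i'
    induction i' using Fin.induction with
    | zero => rw [show s 0 = ⊥ from hs.1, Subobject.bot_arrow, Limits.zero_comp]
    | succ a ih =>
      have h0 : Subobject.ofLE _ _ (le_of_lt (s.step a)) ≫ (s a.succ).arrow ≫ φ = 0 := by
        rw [Subobject.ofLE_arrow_assoc]; exact ih
      obtain ⟨p, hp, -⟩ := exists_hilb_ss hL (hs.2.2.1 a)
      have h1 := hom_eq_zero_of_factors hL (hs.2.2.1 a) hp t ht.1 ht.2.1 ht.2.2.1 (hcmp a p hp)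
        (cokernel.desc _ _ h0)
      rw [← cokernel.π_desc _ _ h0]
      exact (congrArg (cokernel.π _ ≫ ·) h1).trans Limits.comp_zero
  haveI : IsIso (s (Fin.last _)).arrow := by rw [Subobject.isIso_arrow_iff_eq_top]; exact hs.2.1
  exact (cancel_epi (s (Fin.last _)).arrow).1 ((key _).trans Limits.comp_zero.symm)

lemma eq_top_of_isZero_cokernel {E : X.Modules} {S : Subobject E} (h : IsZero (cokernel S.arrow)) : S = ⊤ := by
  haveI : Epi S.arrow := Preadditive.epi_of_isZero_cokernel _ h
  haveI := isIso_of_mono_of_epi S.arrow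
  rwa [← Subobject.isIso_arrow_iff_eq_top]

lemma le_antisymm_of_isZero {E : X.Modules} {S T : Subobject E} (h : S ≤ T)
    (hz : IsZero (cokernel (Subobject.ofLE S T h))) : T ≤ S := by
  haveI : Epi (Subobject.ofLE S T h) := Preadditive.epi_of_isZero_cokernel _ hz
  haveI := isIso_of_mono_of_epi (Subobject.ofLE S T h)
  exact Subobject.le_of_comm (inv (Subobject.ofLE S T h)) (by rw [IsIso.inv_comp_eq, Subobject.ofLE_arrow])

/-- Existence of the Harder–Narasimhan filtration. -/
theorem exists_HN (hL : CohB1.IsAmple L) {E : X.Modules} (hE : Coh.IsCoh E) (hp' : ShStab.IsPure X E d) :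
    ∃ s : LTSeries (Subobject E), ShStab.IsHNFiltration k X L E d s := by
  classical
  haveI : IsNoetherian X := CurveCohLib.isNoetherian_of_proper (k := k)
  have hd := dim_le_of_isPure hp' hE
  let Inv : Subobject E → Prop := fun S => Coh.IsCoh (S : X.Modules) ∧ ShStab.IsPure X (cokernel S.arrow) d ∧
    ∃ s : LTSeries (Subobject E), s.head = ⊥ ∧ s.last = S ∧
      (∀ i : Fin s.length, ShStab.IsSemistable k X L (factor s i) d) ∧
      (∀ (i j : Fin s.length), i.val + 1 = j.val → ∀ p q : ℚ[X], ShStab.IsHilbPoly k X L (factor s i) p →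
        ShStab.IsHilbPoly k X L (factor s j) q → RedLT d q p) ∧
      ∀ i : Fin s.length, i.val + 1 = s.length → ∀ (W : X.Modules) (w : W ⟶ cokernel S.arrow), Mono w →
        Coh.IsCoh W → ¬ IsZero W → ∀ pW q : ℚ[X], ShStab.IsHilbPoly k X L W pW →
          ShStab.IsHilbPoly k X L (factor s i) q → RedLT d pW q
  have hbot : Inv ⊥ := by
    have hz : IsZero ((⊥ : Subobject E) : X.Modules) := (isZero_zero _).of_iso Subobject.botCoeIsoZero
    refine ⟨isCoh_of_iso (IsZero.iso (isZero_kernel_of_mono (𝟙 E)) hz) (QCoh.isCoh_kernel hE hE (𝟙 E)), ?_,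
      RelSeries.singleton _ ⊥, rfl, rfl, fun i => i.elim0, fun i => i.elim0, fun i => i.elim0⟩
    haveI : IsIso (cokernel.π (⊥ : Subobject E).arrow) :=
      ⟨cokernel.desc _ (𝟙 E) (by simp), by simp, by rw [← cancel_epi (cokernel.π (⊥ : Subobject E).arrow)]; simp⟩
    exact isPure_of_iso (asIso (cokernel.π (⊥ : Subobject E).arrow)) hp'
  obtain ⟨S, ⟨hSc, hQp, s, hsh, hsl, hsSS, hsdec, hslast⟩, hmax⟩ :=
    exists_maximal_coh hE Inv (fun _ h => h.1) ⟨⊥, hbot⟩
  by_cases hS : S = ⊤
  · exact ⟨s, hsh, hsl.trans hS, hsSS, hsdec⟩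
  exfalso
  obtain ⟨hQ, hdQ, hpQ⟩ := cokernel_data (k := k) hL hSc hE hd S.arrow (hp_sub (k := k) hL hE hd hSc)
    (isHilbPoly_hp (k := k) hL hE hd)
  obtain ⟨F, ι, hι, hFc, hF0, hFmax⟩ :=
    exists_maxDestab (k := k) hL hQ (fun hz => hS (eq_top_of_isZero_cokernel hz)) hQp
  haveI := hι
  obtain ⟨T, hST, e, he⟩ := exists_preimage ι
  have hdF := dim_mono hFc hQ ι hdQ
  have hpF : ShStab.IsHilbPoly k X L F (hp k L F) := isHilbPoly_hp (k := k) hL hFc hdF
  have hFpure : ShStab.IsPure X F d := isPure_of_mono ι hQp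
  have hαF := alpha_pos hL hFc (dim_of_isPure hFpure hFc hF0) hpF
  have hFss : ShStab.IsSemistable k X L F d := by
    refine ⟨hFc, hF0, hFpure, fun G g hg hG hG0 _ pG pF hpG hpF' => ?_⟩
    haveI := hg
    exact (hFmax G (g ≫ ι) inferInstance hG hG0 pF pG hpF' hpG).1
  have hSE : (ShortComplex.mk (Subobject.ofLE S T hST) (cokernel.π _) (cokernel.condition _)).ShortExact :=
    .mk' (ShortComplex.exact_of_g_is_cokernel _ (cokernelIsCokernel _)) inferInstance inferInstance
  have hTc : Coh.IsCoh (T : X.Modules) := by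
    have h3 := isCoh_of_iso e hFc
    exact mu_extension.isCoh_ext hSE hSc h3 (QCoh.isQCoh_X₂ hSE hSc.1 h3.1)
  have hlt : S < T := lt_of_le_of_ne hST fun h => hF0 (by
    subst h
    haveI : IsIso (Subobject.ofLE S S hST) := by rw [Subobject.ofLE_refl]; infer_instance
    exact (isZero_cokernel_of_epi (Subobject.ofLE S S hST)).of_iso e)
  -- submodules of the new quotient are strictly smaller
  have hnew : ∀ (W : X.Modules) (w : W ⟶ cokernel T.arrow), Mono w → Coh.IsCoh W → ¬ IsZero W →
      ∀ pW : ℚ[X], ShStab.IsHilbPoly k X L W pW → 0 < alpha d pW ∧ RedLT d pW (hp k L F) := by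
    intro W w hw hW hW0 pW hpW
    haveI := hw
    obtain ⟨U, hTU, e', -⟩ := exists_preimage w
    have hTUE : (ShortComplex.mk (Subobject.ofLE T U hTU) (cokernel.π _) (cokernel.condition _)).ShortExact :=
      .mk' (ShortComplex.exact_of_g_is_cokernel _ (cokernelIsCokernel _)) inferInstance inferInstance
    have h3 := isCoh_of_iso e' hW
    have hUc : Coh.IsCoh (U : X.Modules) :=
      mu_extension.isCoh_ext hTUE hTc h3 (QCoh.isQCoh_X₂ hTUE hTc.1 h3.1)
    obtain ⟨hWc', hdW', hpW'⟩ := cokernel_data (k := k) hL hTc hUc (dim_sub hL hE hd hUc)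
      (Subobject.ofLE T U hTU) (hp_sub (k := k) hL hE hd hTc) (hp_sub (k := k) hL hE hd hUc)
    have eW : pW = hp k L (U : X.Modules) - hp k L (T : X.Modules) :=
      isHilbPoly_unique (hilb_iso e' hpW) hpW'
    obtain ⟨hFc', hdF', hpF'⟩ := cokernel_data (k := k) hL hSc hTc (dim_sub hL hE hd hTc)
      (Subobject.ofLE S T hST) (hp_sub (k := k) hL hE hd hSc) (hp_sub (k := k) hL hE hd hTc)
    have eF : hp k L F = hp k L (T : X.Modules) - hp k L (S : X.Modules) :=
      isHilbPoly_unique (hilb_iso e hpF) hpF'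
    obtain ⟨hVc, hdV, hpV⟩ := cokernel_data (k := k) hL hSc hUc (dim_sub hL hE hd hUc)
      (Subobject.ofLE S U (hST.trans hTU)) (hp_sub (k := k) hL hE hd hSc) (hp_sub (k := k) hL hE hd hUc)
    set V := cokernel (Subobject.ofLE S U (hST.trans hTU))
    have hV0 : ¬ IsZero V := fun hz => by
      have hUS : U ≤ S := le_antisymm_of_isZero _ hz
      haveI : IsIso (Subobject.ofLE T U hTU) := ⟨Subobject.ofLE U T (hUS.trans hST), by simp, by simp⟩
      exact hW0 ((isZero_cokernel_of_epi (Subobject.ofLE T U hTU)).of_iso e')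
    obtain ⟨hle, heq⟩ := hFmax V (qmap (hST.trans hTU)) inferInstance hVc hV0 _ _ hpF hpV
    have hltV : RedLT d (hp k L (U : X.Modules) - hp k L (S : X.Modules)) (hp k L F) := by
      refine (redLE_or_redLT d (hp k L F) _).resolve_left fun hge => ?_
      obtain ⟨φ, hφ⟩ := heq (redEq_of_le_le hle hge)
      have hUT : U ≤ T := le_of_qmap_factor (hST.trans hTU) hST (φ ≫ e.hom)
        (by rw [Category.assoc, he]; exact hφ)
      haveI : IsIso (Subobject.ofLE T U hTU) := ⟨Subobject.ofLE U T hUT, by simp, by simp⟩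
      exact hW0 ((isZero_cokernel_of_epi (Subobject.ofLE T U hTU)).of_iso e')
    have hW' : RedLT d pW (hp k L F) := by
      obtain ⟨N, hN⟩ := hltV
      refine ⟨N, fun m hm => ?_⟩
      have h1 := hN m hm
      rw [eW, eF] at *
      simp only [alpha, Polynomial.coeff_sub, eval_smul, smul_eq_mul, eval_sub] at h1 ⊢
      linarith
    refine ⟨?_, hW'⟩
    have hdWd := hd
    have hdW : topologicalKrullDim ↥(CohB1.support W) ≤ (d : WithBot ℕ∞) :=
      dim_mono hW (cokernel_data (k := k) hL hTc hE hd T.arrow (hp_sub (k := k) hL hE hd hTc)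
        (isHilbPoly_hp (k := k) hL hE hd)).1 w
        (cokernel_data (k := k) hL hTc hE hd T.arrow (hp_sub (k := k) hL hE hd hTc)
          (isHilbPoly_hp (k := k) hL hE hd)).2.1
    refine lt_of_le_of_ne (alpha_nonneg hL hW hdW hpW) fun h0 => ?_
    obtain ⟨N, hN⟩ := hW'
    obtain ⟨N', hN'⟩ := hilb_eventually_pos hL hW hW0 hdW hpW
    have h1 := hN _ (le_max_left N N')
    have h2 := hN' _ (le_max_right N N')
    simp only [eval_smul, smul_eq_mul, ← h0, zero_mul] at h1
    nlinarith
  have hpureT : ShStab.IsPure X (cokernel T.arrow) d := by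
    intro W w hw hW hW0
    haveI := hw
    obtain ⟨hQT, hdQT, -⟩ := cokernel_data (k := k) hL hTc hE hd T.arrow (hp_sub (k := k) hL hE hd hTc)
      (isHilbPoly_hp (k := k) hL hE hd)
    have hdW := dim_mono hW hQT w hdQT
    obtain ⟨pW, hpW, -, hα⟩ := exists_hilb (k := k) hL.1 hW hdW
    refine le_antisymm hdW (le_of_not_gt fun hlt' => ?_)
    have h1 := (hnew W w inferInstance hW hW0 pW hpW).1
    rw [hα, show mult k L d W = 0 from iterD_eq_zero d (additive_euler k) _ List.length_replicate
      (fun N hN => (List.eq_of_mem_replicate hN) ▸ hL.1) W hW hlt'] at h1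
    simp at h1
  let s' : LTSeries (Subobject E) :=
    { length := s.length + 1
      toFun := Fin.snoc (α := fun _ => Subobject E) s.toFun T
      step := fun i => by
        refine Fin.lastCases ?_ (fun j => ?_) i
        · show Fin.snoc (α := fun _ => Subobject E) s.toFun T (Fin.last s.length).castSucc < Fin.snoc (α := fun _ => Subobject E) s.toFun T (Fin.last s.length).succ
          rw [Fin.snoc_castSucc, Fin.succ_last, Fin.snoc_last]
          exact lt_of_eq_of_lt hsl hlt
        · show Fin.snoc (α := fun _ => Subobject E) s.toFun T j.castSucc.castSucc < Fin.snoc (α := fun _ => Subobject E) s.toFun T j.castSucc.succ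
          rw [Fin.snoc_castSucc, Fin.succ_castSucc, Fin.snoc_castSucc]
          exact s.step j }
  have hfac : ∀ j : Fin s.length, Nonempty (factor s j ≅ factor s' j.castSucc) := by
    intro j
    have h1 : s' j.castSucc.castSucc = s j.castSucc := Fin.snoc_castSucc (α := fun _ => Subobject E) _ _ _
    have h2 : s' j.castSucc.succ = s j.succ := by
      rw [Fin.succ_castSucc]; exact Fin.snoc_castSucc (α := fun _ => Subobject E) _ _ _
    exact ⟨cokernel.mapIso _ _ (Subobject.isoOfEq _ _ h1.symm) (Subobject.isoOfEq _ _ h2.symm)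
      (by apply (cancel_mono (s' j.castSucc.succ).arrow).1; simp)⟩
  have hfacLast : Nonempty (F ≅ factor s' (Fin.last s.length)) := by
    have h1 : s' (Fin.last s.length).castSucc = S :=
      (Fin.snoc_castSucc (α := fun _ => Subobject E) _ _ _).trans hsl
    have h2 : s' (Fin.last s.length).succ = T := by
      rw [Fin.succ_last]; exact Fin.snoc_last (α := fun _ => Subobject E) _ _
    exact ⟨e ≪≫ cokernel.mapIso _ _ (Subobject.isoOfEq _ _ h1.symm) (Subobject.isoOfEq _ _ h2.symm)
      (by apply (cancel_mono (s' (Fin.last s.length).succ).arrow).1; simp)⟩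
  refine hlt.ne (hmax T ⟨hTc, hpureT, s', ?_, ?_, ?_, ?_, ?_⟩ hST).symm
  · show Fin.snoc (α := fun _ => Subobject E) s.toFun T 0 = ⊥
    rw [show (0 : Fin (s.length + 1 + 1)) = (0 : Fin (s.length + 1)).castSucc from rfl, Fin.snoc_castSucc]
    exact hsh
  · exact Fin.snoc_last (α := fun _ => Subobject E) _ _
  · intro i
    refine Fin.lastCases ?_ (fun j => ?_) i
    · exact isSemistable_of_iso hfacLast.some hFss
    · exact isSemistable_of_iso (hfac j).some (hsSS j)
  · intro i
    refine Fin.lastCases ?_ (fun a => ?_) i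
    · intro j hij
      have := j.isLt
      simp [s'] at hij this
      omega
    · intro j
      refine Fin.lastCases ?_ (fun b => ?_) j
      · intro hab p q hp hq
        rw [isHilbPoly_unique hq (hilb_iso hfacLast.some hpF)]
        have hp' := hilb_iso (hfac a).some.symm hp
        have hS' : ShStab.IsPure X (cokernel S.arrow) d := hQp
        exact hslast a (by simpa using hab) F ι inferInstance hFc hF0 _ _ hpF hp'
      · intro hab p q hp hq
        exact hsdec a b (by simpa using hab) p q (hilb_iso (hfac a).some.symm hp) (hilb_iso (hfac b).some.symm hq)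
  · intro i
    refine Fin.lastCases ?_ (fun a => ?_) i
    · intro _ W w hw hW hW0 pW q hpW hq
      rw [isHilbPoly_unique hq (hilb_iso hfacLast.some hpF)]
      exact (hnew W w hw hW hW0 pW hpW).2
    · intro ha
      have := a.isLt
      simp [s'] at ha
      omega

/-- The next step of a filtration bounds the next step of any other of at least the same slope. -/
lemma HN_succ_le (hL : CohB1.IsAmple L) {E : X.Modules} (s t : LTSeries (Subobject E))
    (hs : ShStab.IsHNFiltration k X L E d s) (ht : ShStab.IsHNFiltration k X L E d t) (i : Fin s.length)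
    (j : Fin t.length) (heq : s i.castSucc = t j.castSucc) {p q : ℚ[X]}
    (hp : ShStab.IsHilbPoly k X L (factor s i) p) (hq : ShStab.IsHilbPoly k X L (factor t j) q)
    (hle : RedLE d p q) : t j.succ ≤ s i.succ ∧ RedLE d q p := by
  have hαp := alpha_pos_ss hL (hs.2.2.1 i) hp
  have hαq := alpha_pos_ss hL (ht.2.2.1 j) hq
  have hmono : Monotone s := s.monotone
  have key : ∀ a : Fin (s.length + 1), i.val + 1 ≤ a.val → t j.succ ≤ s a := by
    intro a
    induction a using Fin.reverseInduction with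
    | last => intro _; exact le_top.trans hs.2.1.ge
    | cast b ih =>
      intro hb
      have hT := ih (by simp at hb ⊢; omega)
      have hSb : t j.castSucc ≤ s b.castSucc := heq ▸ hmono (by
        refine Fin.le_def.2 ?_
        simp at hb ⊢; omega)
      obtain ⟨r, hr, hαr⟩ := exists_hilb_ss hL (hs.2.2.1 b)
      have hlt : RedLT d r q := by
        have h1 := chain_redLT hL s hs i b (by simp at hb; omega) p r hp hr
        obtain ⟨N, hN⟩ := h1
        obtain ⟨N', hN'⟩ := hle
        refine ⟨max N N', fun m hm => ?_⟩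
        have a := mul_lt_mul_of_pos_left (hN m (le_trans (le_max_left _ _) hm)) hαq
        have c := mul_le_mul_of_nonneg_left (hN' m (le_trans (le_max_right _ _) hm)) hαr.le
        simp only [eval_smul, smul_eq_mul] at a c ⊢
        refine lt_of_mul_lt_mul_left ?_ hαp.le
        linarith
      let ψ : cokernel (Subobject.ofLE (t j.castSucc) (t j.succ) (le_of_lt (t.step j))) ⟶ factor s b :=
        cokernel.desc _ (Subobject.ofLE _ _ hT ≫ cokernel.π _) (by
          have hc := cokernel.condition (Subobject.ofLE (s b.castSucc) (s b.succ) (le_of_lt (s.step b)))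
          rw [← Category.assoc, Subobject.ofLE_comp_ofLE, ← Subobject.ofLE_comp_ofLE _ _ _ hSb
            (le_of_lt (s.step b)), Category.assoc]
          exact (congrArg (_ ≫ ·) hc).trans Limits.comp_zero)
      have hψ : ψ = 0 := hom_eq_zero hL (ht.2.2.1 j) (hs.2.2.1 b) hq hr hlt ψ
      refine le_of_ofLE_comp_π hT (le_of_lt (s.step b)) ?_
      have := cokernel.π_desc (Subobject.ofLE (t j.castSucc) (t j.succ) (le_of_lt (t.step j)))
        (Subobject.ofLE _ _ hT ≫ cokernel.π (Subobject.ofLE (s b.castSucc) (s b.succ) (le_of_lt (s.step b))))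
      rw [← this]
      exact (congrArg (_ ≫ ·) hψ).trans Limits.comp_zero
  have hTS := key i.succ (by simp)
  refine ⟨hTS, ?_⟩
  let φ : factor t j ⟶ factor s i :=
    cokernel.map _ _ (Subobject.ofLE _ _ heq.ge) (Subobject.ofLE _ _ hTS)
      (by rw [Subobject.ofLE_comp_ofLE, Subobject.ofLE_comp_ofLE])
  have hφ : φ ≫ qmap (le_of_lt (s.step i)) ≫ eqToHom (by rw [heq]) = qmap (le_of_lt (t.step j)) := by
    apply (cancel_epi (cokernel.π (Subobject.ofLE (t j.castSucc) (t j.succ) (le_of_lt (t.step j))))).1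
    rw [π_qmap]
    simp only [φ, cokernel.π_desc_assoc, Category.assoc, π_qmap_assoc, Subobject.ofLE_arrow_assoc]
    congr 1
    have : ∀ (S S' : Subobject E) (h : S = S'), cokernel.π S.arrow ≫ eqToHom (by rw [h]) = cokernel.π S'.arrow :=
      fun S S' h => by subst h; simp
    exact this _ _ heq
  haveI : Mono φ := by
    let r : factor s i ⟶ cokernel (t j.castSucc).arrow := qmap (le_of_lt (s.step i)) ≫ eqToHom (by rw [heq])
    haveI : Mono (φ ≫ r) := by rw [show φ ≫ r = qmap (le_of_lt (t.step j)) from hφ]; exact mono_qmap _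
    exact mono_of_mono φ r
  by_cases hi : IsIso φ
  · rw [isHilbPoly_unique (hilb_iso (asIso φ) hq) hp]
    exact ⟨0, fun m _ => le_rfl⟩
  · exact (hs.2.2.1 i).2.2.2 _ φ inferInstance (ht.2.2.1 j).1 (ht.2.2.1 j).2.1 hi q p hq hp

theorem HN_unique (hL : CohB1.IsAmple L) {E : X.Modules} (s t : LTSeries (Subobject E))
    (hs : ShStab.IsHNFiltration k X L E d s) (ht : ShStab.IsHNFiltration k X L E d t) : s = t := by
  have key : ∀ (n : ℕ) (hn : n < s.length + 1), ∃ hn' : n < t.length + 1, s ⟨n, hn⟩ = t ⟨n, hn'⟩ := by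
    intro n
    induction n with
    | zero => exact fun _ => ⟨Nat.succ_pos _, hs.1.trans ht.1.symm⟩
    | succ n ih =>
      intro hn
      obtain ⟨hn', heq⟩ := ih (by omega)
      have hnt : n < t.length := by
        by_contra h
        have h1 : t ⟨n, hn'⟩ = ⊤ := by
          rw [show (⟨n, hn'⟩ : Fin (t.length + 1)) = Fin.last _ from Fin.ext (by simp; omega)]; exact ht.2.1
        have h2 := s.step ⟨n, by omega⟩
        exact absurd h2 (not_lt_of_ge (le_top.trans (heq.trans h1).ge))
      refine ⟨by omega, ?_⟩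
      let i : Fin s.length := ⟨n, by omega⟩
      let j : Fin t.length := ⟨n, hnt⟩
      obtain ⟨p, hp, -⟩ := exists_hilb_ss hL (hs.2.2.1 i)
      obtain ⟨q, hq, -⟩ := exists_hilb_ss hL (ht.2.2.1 j)
      rcases redLE_or_redLT d p q with h | h
      · obtain ⟨h1, h2⟩ := HN_succ_le hL s t hs ht i j heq hp hq h
        exact le_antisymm (HN_succ_le hL t s ht hs j i heq.symm hq hp h2).1 h1
      · obtain ⟨h1, h2⟩ := HN_succ_le hL t s ht hs j i heq.symm hq hp (redLE_of_redLT h)
        exact le_antisymm h1 (HN_succ_le hL s t hs ht i j heq hp hq h2).1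
  have hlen : s.length = t.length := by
    obtain ⟨hn', heq⟩ := key s.length (Nat.lt_succ_self _)
    by_contra hne
    have h1 : t ⟨s.length, hn'⟩ = ⊤ := heq.symm.trans hs.2.1
    have h2 := t.strictMono (show (⟨s.length, hn'⟩ : Fin (t.length + 1)) < Fin.last _ from Fin.lt_def.2 (by simp; omega))
    rw [h1] at h2
    exact absurd h2 (not_lt_of_ge le_top)
  exact RelSeries.ext hlen (funext fun i => by
    obtain ⟨hn', heq⟩ := key i.val i.isLt
    exact heq)

end Groth.Agent.HilbPoly
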