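import Groth.Agent.HilbPoly.Sub

/-!
# Existence of the maximal destabilising submodule
-/

set_option linter.style.haveILetI false
set_option linter.unusedSectionVars false
set_option backward.isDefEq.respectTransparency false
set_option backward.isDefEq.respectTransparency.types false

universe u

open CategoryTheory CategoryTheory.Limits AlgebraicGeometry Polynomial StabCat TopologicalSpace

noncomputable section

namespace Groth.Agent.HilbPoly

open Groth.Agent

variable {X : Scheme.{u}} {k : Type u} [Field k] [X.Over (Spec (CommRingCat.of k))]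
  [IsProper (X ↘ Spec (CommRingCat.of k))] {L : X.Modules} {d : ℕ} {E : X.Modules}

theorem exists_maxDestab (hL : CohB1.IsAmple L) (hE : Coh.IsCoh E) (h0 : ¬ IsZero E)
    (hp' : ShStab.IsPure X E d) : ∃ (F : X.Modules) (ι : F ⟶ E), ShStab.IsMaxDestab k X L E d F ι := by
  classical
  haveI : IsNoetherian X := CurveCohLib.isNoetherian_of_proper (k := k)
  have hd := dim_le_of_isPure hp' hE
  let Good : Subobject E → Prop := fun S => Coh.IsCoh (S : X.Modules) ∧ ¬ IsZero (S : X.Modules)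
  let p : Subobject E → ℚ[X] := fun S => hp k L (S : X.Modules)
  have hpos : ∀ S, Good S → 0 < alpha d (p S) := fun S hS =>
    alpha_pos hL hS.1 (hp' _ S.arrow inferInstance hS.1 hS.2) (hp_sub (k := k) hL hE hd hS.1)
  have hGood_le : ∀ S T, Good S → S ≤ T → Coh.IsCoh (T : X.Modules) → Good T := fun S T hS h hT =>
    ⟨hT, fun hz => hS.2 ((IsZero.iff_id_eq_zero _).2 (by
      rw [← cancel_mono (Subobject.ofLE S T h)]; exact hz.eq_of_tgt _ _))⟩
  have hrefl : ∀ S, RedLE d (p S) (p S) := fun S => ⟨0, fun m _ => le_rfl⟩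
  -- `≼`-maximal submodules above any given one, inside a given one
  have hup : ∀ S B, Good S → S ≤ B → ∃ T, Good T ∧ S ≤ T ∧ T ≤ B ∧ RedLE d (p S) (p T) ∧
      ∀ U, Good U → T ≤ U → U ≤ B → RedLE d (p T) (p U) → U = T := by
    intro S B hS hSB
    obtain ⟨T, ⟨hT, h1, h2, h3⟩, hmax⟩ := exists_maximal_coh hE
      (fun T => Good T ∧ S ≤ T ∧ T ≤ B ∧ RedLE d (p S) (p T)) (fun _ h => h.1.1) ⟨S, hS, le_rfl, hSB, hrefl S⟩
    exact ⟨T, hT, h1, h2, h3, fun U hU hTU hUB h4 => hmax U ⟨hU, h1.trans hTU, hUB,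
      redLE_trans (hpos S hS).le (hpos T hT) (hpos U hU).le h3 h4⟩ hTU⟩
  let Max : Subobject E → Prop := fun T => Good T ∧ ∀ U, Good U → T ≤ U → RedLE d (p T) (p U) → U = T
  have htop : Good (⊤ : Subobject E) := by
    have e : ((⊤ : Subobject E) : X.Modules) ≅ E := asIso (⊤ : Subobject E).arrow
    exact ⟨isCoh_of_iso e.symm hE, fun hz => h0 (hz.of_iso e.symm)⟩
  have hne : {n : ℕ | ∃ T, Max T ∧ (mult k L d (T : X.Modules)).toNat = n}.Nonempty := by
    obtain ⟨T, hT, -, -, -, hmax⟩ := hup ⊤ ⊤ htop le_rfl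
    exact ⟨_, T, ⟨hT, fun U hU h1 h2 => hmax U hU h1 le_top h2⟩, rfl⟩
  obtain ⟨F, hF, hFn⟩ := Nat.sInf_mem hne
  have hαint : ∀ S, Good S → alpha d (p S) = ((mult k L d (S : X.Modules)).toNat : ℚ) := fun S hS => by
    rw [(hilb_props hL.1 hS.1 (dim_sub hL hE hd hS.1) (hp_sub (k := k) hL hE hd hS.1)).2]
    have h := (mult_nonneg_and_pos k hL d _ hS.1 (dim_sub hL hE hd hS.1)).1
    exact_mod_cast (Int.toNat_of_nonneg h).symm
  have hmin : ∀ T, Max T → alpha d (p F) ≤ alpha d (p T) := fun T hT => by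
    rw [hαint F hF.1, hαint T hT.1]
    have := Nat.sInf_le (s := {n : ℕ | ∃ T, Max T ∧ (mult k L d (T : X.Modules)).toNat = n}) ⟨T, hT, rfl⟩
    rw [← hFn] at this
    exact_mod_cast this
  -- a submodule not inside `F` and not below it yields a worse one inside `F`
  have hA : ∀ G, Good G → ¬ G ≤ F → RedLE d (p F) (p G) →
      ∃ K, Good K ∧ K ≤ F ∧ RedLT d (p G) (p K) ∧ ∀ W, W ≤ G → W ≤ F → W ≤ K := by
    intro G hG hGF hle
    obtain ⟨U, K, hFU, hGU, hKF, hKG, hinf, hUc, hKc, hsum⟩ := exists_sum_inter (k := k) hL hE hd hF.1.1 hG.1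
    have hUne : U ≠ F := fun h => hGF (h ▸ hGU)
    have hUgood := hGood_le F U hF.1 hFU hUc
    have hlt : RedLT d (p U) (p F) :=
      (redLE_or_redLT d (p F) (p U)).resolve_left fun h => hUne (hF.2 U hUgood hFU h)
    have hKG' := (mono_data (k := k) hL hE hd hKc hG.1 hKG).1
    change p U + p K = p F + p G at hsum
    change alpha d (p K) ≤ alpha d (p G) at hKG'
    have hα : alpha d (p U) + alpha d (p K) = alpha d (p F) + alpha d (p G) := by
      rw [← alpha_add, hsum, alpha_add]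
    obtain ⟨N₁, h₁⟩ := hlt
    obtain ⟨N₂, h₂⟩ := hle
    have hres : RedLT d (p G) (p K) := by
      refine ⟨max N₁ N₂, fun m hm => ?_⟩
      have a := h₁ m (le_trans (le_max_left _ _) hm)
      have b := h₂ m (le_trans (le_max_right _ _) hm)
      have s := congrArg (Polynomial.eval (m : ℚ)) hsum
      simp only [eval_smul, smul_eq_mul, eval_add] at a b s ⊢
      refine lt_of_mul_lt_mul_left ?_ (hpos F hF.1).le
      have a' := mul_lt_mul_of_pos_left a (hpos G hG)
      have b' := mul_le_mul_of_nonneg_left b (sub_nonneg.2 hKG')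
      have s' := congrArg (fun t => alpha d (p F) * alpha d (p G) * t) s
      have α' := congrArg (fun t => alpha d (p G) * (p F).eval (m : ℚ) * t) hα
      linarith
    refine ⟨K, ⟨hKc, fun hz => ?_⟩, hKF, hres, fun W h1 h2 => hinf W h2 h1⟩
    have hK0 : p K = 0 := isHilbPoly_unique (hp_sub (k := k) hL hE hd hKc) (hilb_isZero hz)
    obtain ⟨N, hN⟩ := hres
    have := hN N le_rfl
    simp [hK0, alpha] at this
  -- the reduced polynomial of `F` is maximal
  have hB : ∀ G, Good G → RedLE d (p G) (p F) := by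
    intro G hG
    by_contra hn
    have hFG : RedLT d (p F) (p G) := (redLE_or_redLT d (p G) (p F)).resolve_left hn
    obtain ⟨K₀, hK₀, hK₀F, hK₀lt⟩ : ∃ K, Good K ∧ K ≤ F ∧ RedLT d (p F) (p K) := by
      by_cases hGF : G ≤ F
      · exact ⟨G, hG, hGF, hFG⟩
      · obtain ⟨K, hK, hKF, hlt, -⟩ := hA G hG hGF (redLE_of_redLT hFG)
        exact ⟨K, hK, hKF, redLT_trans_left (hpos F hF.1) (hpos G hG) (hpos K hK).le (redLE_of_redLT hFG) hlt⟩
    obtain ⟨G₁, hG₁, -, hG₁F, hle₁, hmax₁⟩ := hup K₀ F hK₀ hK₀F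
    obtain ⟨G', hG', hG₁G', -, hle', hmax'⟩ := hup G₁ ⊤ hG₁ le_top
    have hFG₁ : RedLE d (p F) (p G₁) :=
      redLE_trans (hpos F hF.1).le (hpos K₀ hK₀) (hpos G₁ hG₁).le (redLE_of_redLT hK₀lt) hle₁
    have hFG' : RedLE d (p F) (p G') :=
      redLE_trans (hpos F hF.1).le (hpos G₁ hG₁) (hpos G' hG').le hFG₁ hle'
    have hMax' : Max G' := ⟨hG', fun U hU h1 h2 => hmax' U hU h1 le_top h2⟩
    by_cases hG'F : G' ≤ F
    · obtain ⟨hα, N, hN⟩ := mono_data (k := k) hL hE hd hG'.1 hF.1.1 hG'F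
      have heq : alpha d (p G') = alpha d (p F) := le_antisymm hα (hmin G' hMax')
      have hback : RedLE d (p G') (p F) := ⟨N, fun m hm => by
        rw [heq, eval_smul, eval_smul]
        exact mul_le_mul_of_nonneg_left (hN m hm) (hpos F hF.1).le⟩
      -- so all the reduced polynomials in sight agree
      have h1 : RedLE d (p G₁) (p F) := redLE_trans (hpos G₁ hG₁).le (hpos G' hG') (hpos F hF.1).le hle' hback
      exact not_redLE_of_redLT hK₀lt (redLE_trans (hpos K₀ hK₀).le (hpos G₁ hG₁) (hpos F hF.1).le hle₁ h1)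
    · obtain ⟨K, hK, hKF, hlt, hinf⟩ := hA G' hG' hG'F hFG'
      have hlt₁ : RedLT d (p G₁) (p K) :=
        redLT_trans_left (hpos G₁ hG₁) (hpos G' hG') (hpos K hK).le hle' hlt
      have := hmax₁ K hK (hinf G₁ hG₁G' hG₁F) hKF (redLE_of_redLT hlt₁)
      rw [this] at hlt₁
      exact not_redLE_of_redLT hlt₁ (hrefl _)
  refine ⟨(F : X.Modules), F.arrow, inferInstance, hF.1.1, hF.1.2, fun G κ hκ hGc hG0 pF pG hpF hpG => ?_⟩
  haveI := hκ
  obtain ⟨hGc', hGp⟩ := hp_mk (k := k) hL hE hd κ hGc hpG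
  have hGgood : Good (Subobject.mk κ) := ⟨hGc', fun hz => hG0 (hz.of_iso (Subobject.underlyingIso κ).symm)⟩
  have hFp : p F = pF := isHilbPoly_unique (hp_sub (k := k) hL hE hd hF.1.1) hpF
  refine ⟨?_, fun heq => ?_⟩
  · rw [← hFp, ← hGp]
    exact hB _ hGgood
  · have hle : Subobject.mk κ ≤ F := by
      by_contra hn
      have h1 : RedLE d (p F) (p (Subobject.mk κ)) := ⟨0, fun m _ => by
        show _ ≤ (alpha d (p F) • hp k L (Subobject.mk κ : X.Modules)).eval (m : ℚ)
        rw [show p (Subobject.mk κ) = pG from hGp, hFp, hGp]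
        exact le_of_eq (congrArg (Polynomial.eval (m : ℚ)) heq).symm⟩
      obtain ⟨K, hK, hKF, hlt, -⟩ := hA _ hGgood hn h1
      exact not_redLE_of_redLT (redLT_trans_left (hpos F hF.1) (hpos _ hGgood) (hpos K hK).le h1 hlt) (hB K hK)
    exact ⟨(Subobject.underlyingIso κ).inv ≫ Subobject.ofLE _ _ hle, by simp⟩

end Groth.Agent.HilbPoly
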