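import Groth.Agent.HilbPoly.Sub
import Groth.Agent.S3389

/-!
# Torsion-freeness from semistability, slope semistability, monotonicity
-/

set_option linter.style.haveILetI false
set_option linter.unusedSectionVars false
set_option backward.isDefEq.respectTransparency false
set_option backward.isDefEq.respectTransparency.types false

universe u

open CategoryTheory CategoryTheory.Limits AlgebraicGeometry Polynomial StabCat TopologicalSpace

noncomputable section

namespace Groth.Agent.HilbPoly

open Groth.Agent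

variable {X : Scheme.{u}} {k : Type u} [Field k] [X.Over (Spec (CommRingCat.of k))]
  [IsProper (X ↘ Spec (CommRingCat.of k))] {L : X.Modules} {d : ℕ}

variable (X k) in
include k in
/-- A scheme proper over a field has finite dimension. -/
theorem exists_dim_bound : ∃ n : ℕ, ∀ T : Set X, topologicalKrullDim ↥T ≤ (n : WithBot ℕ∞) := by
  let f := X ↘ Spec (CommRingCat.of k)
  obtain ⟨n, hn⟩ := Groth.Agent.S3389.result f
  refine ⟨n, fun T => ?_⟩
  let y : Spec (CommRingCat.of k) := IsLocalRing.closedPoint k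
  have huniv : (f ⁻¹' {y} : Set X) = Set.univ := Set.eq_univ_of_forall fun x => by
    show f x = y
    exact Subsingleton.elim _ _
  refine (H23.TopDim.dim_le_dim_of_subset (Set.subset_univ T)).trans ?_
  rw [← huniv]
  exact ((f.fiberHomeo y).isHomeomorph.topologicalKrullDim_eq _).ge.trans (hn y)

theorem polyLE_of_mono (hL : CohB1.IsAmple L) {E E' : X.Modules} (hE : Coh.IsCoh E) (hE' : Coh.IsCoh E')
    (ι : E ⟶ E') [Mono ι] {pE pE' : ℚ[X]} (hpE : ShStab.IsHilbPoly k X L E pE)
    (hpE' : ShStab.IsHilbPoly k X L E' pE') :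
    PolyLE pE pE' ∧ ∀ e : ℕ, topologicalKrullDim ↥(CohB1.support (cokernel ι)) < (e : WithBot ℕ∞) →
      alpha e pE = alpha e pE' := by
  obtain ⟨n, hn⟩ := exists_dim_bound X k
  obtain ⟨hQ, hdQ, hpQ⟩ := cokernel_data hL hE hE' (hn _) ι hpE hpE'
  haveI : IsNoetherian X := CurveCohLib.isNoetherian_of_proper (k := k)
  refine ⟨?_, fun e he => ?_⟩
  · obtain ⟨N, hN⟩ := hilb_nonneg hL hQ hdQ hpQ
    exact ⟨N, fun m hm => by have := hN m hm; simp only [eval_zero, eval_sub] at this; linarith⟩
  · have h := (hilb_props hL.1 hQ he.le hpQ).2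
    rw [show mult k L e (cokernel ι) = 0 from iterD_eq_zero e (additive_euler k) _ List.length_replicate
      (fun N hN => (List.eq_of_mem_replicate hN) ▸ hL.1) _ hQ he] at h
    simp only [alpha, Polynomial.coeff_sub, Int.cast_zero] at h ⊢
    linarith

theorem isPure_of_isSS (hL : CohB1.IsAmple L) {E : X.Modules} (hE : Coh.IsCoh E)
    (hdim : topologicalKrullDim ↥(CohB1.support E) = (d : WithBot ℕ∞))
    (hss : IsSS Coh.IsCoh (ShStab.IsHilbPoly k X L) d E) : ShStab.IsPure X E d := by
  intro F ι hι hF hF0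
  haveI := hι
  haveI : IsNoetherian X := CurveCohLib.isNoetherian_of_proper (k := k)
  have hdF := dim_mono hF hE ι hdim.le
  by_cases hi : IsIso ι
  · haveI := hi
    exact le_antisymm hdF (hdim.ge.trans (H23.TopDim.dim_le_dim_of_subset
      (QCoh.mem_support_of_mono hE.1 hF.1 (inv ι))))
  refine le_antisymm hdF (le_of_not_gt fun hlt => ?_)
  obtain ⟨pF, hpF, -, -⟩ := exists_hilb (k := k) hL.1 hF hdF
  obtain ⟨pE, hpE, -, -⟩ := exists_hilb (k := k) hL.1 hE hdim.le
  have hαE := alpha_pos hL hE hdim hpE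
  have hαF : alpha d pF = 0 := by
    rw [(hilb_props hL.1 hF hdF hpF).2, show mult k L d F = 0 from iterD_eq_zero d (additive_euler k) _
      List.length_replicate (fun N hN => (List.eq_of_mem_replicate hN) ▸ hL.1) F hF hlt, Int.cast_zero]
  obtain ⟨N, hN⟩ := hilb_eventually_pos hL hF hF0 hdF hpF
  obtain ⟨N', hN'⟩ := hss F ι hι hF hF0 hi pF pE hpF hpE
  have h1 := hN _ (le_max_left N N')
  have h2 := hN' _ (le_max_right N N')
  simp only [eval_smul, smul_eq_mul, hαF, zero_mul] at h2
  nlinarith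

theorem isMuSemistable_of_isSemistable (hL : CohB1.IsAmple L) (hd : 1 ≤ d) {E : X.Modules}
    (hE : ShStab.IsSemistable k X L E d) : ShStab.IsMuSemistable k X L E d := by
  obtain ⟨hc, h0, hp, hell⟩ := isEllSemistable hL 1 hE
  refine ⟨hc, h0, dim_of_isPure hp hc h0, fun F ι hι hF he => ?_, fun F ι hι hF pF pE hpF hpE hpos hlt => ?_⟩
  · haveI := hι
    by_cases hF0 : IsZero F
    · rw [QCoh.support_eq_empty_of_isZero hF0 hF.1] at he
      haveI hE : IsEmpty (IrreducibleCloseds ↥(∅ : Set X)) :=
        ⟨fun s => s.2.1.ne_empty (Set.eq_empty_of_isEmpty s.1)⟩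
      rw [topologicalKrullDim, Order.krullDim_eq_bot_iff.2 hE, WithBot.bot_add] at he
      exact WithBot.bot_ne_coe he
    · rw [hp F ι hι hF hF0] at he
      have h2 : (((d + 1 : ℕ) : ℕ∞) : WithBot ℕ∞) = ((d : ℕ∞) : WithBot ℕ∞) := he
      have h3 : d + 1 = d := by exact_mod_cast h2
      omega
  · obtain ⟨N, hN⟩ := hell F ι hι hF pF pE hpF hpE hpos hlt
    have hev : ∀ (P : ℚ[X]) (m : ℕ), (topPart 1 d P).eval (m : ℚ) =
        P.coeff (d - 1) * (m : ℚ) ^ (d - 1) + P.coeff d * (m : ℚ) ^ d := fun P m => by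
      have h : Finset.Icc (d - 1) d = {d - 1, d} := by
        ext j; simp only [Finset.mem_Icc, Finset.mem_insert, Finset.mem_singleton]; omega
      simp only [topPart, h]
      rw [Finset.sum_pair (by omega), Polynomial.eval_add, Polynomial.eval_monomial, Polynomial.eval_monomial]
    have h1 := hN (max N 1) (le_max_left _ _)
    rw [alpha_topPart, alpha_topPart, eval_smul, eval_smul, smul_eq_mul, smul_eq_mul, hev, hev] at h1
    rw [hatSlope, hatSlope, div_le_div_iff₀ hpos (hpos.trans hlt)]
    have hm : (0 : ℚ) < ((max N 1 : ℕ) : ℚ) ^ (d - 1) := by positivity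
    have h2 : alpha d pE * pF.coeff (d - 1) ≤ alpha d pF * pE.coeff (d - 1) := by
      refine le_of_mul_le_mul_right ?_ hm
      have hcancel : alpha d pE * (pF.coeff d * ((max N 1 : ℕ) : ℚ) ^ d) =
          alpha d pF * (pE.coeff d * ((max N 1 : ℕ) : ℚ) ^ d) := by
        simp only [alpha]; ring
      linarith
    have h3 : (0 : ℚ) ≤ ((d - 1).factorial : ℚ) := by positivity
    have h4 := mul_le_mul_of_nonneg_left h2 h3
    simp only [alpha] at h4 ⊢
    linarith

end Groth.Agent.HilbPoly
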