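import Groth.Agent.HilbPoly.EllHN

/-!
# Slope Harder–Narasimhan filtrations
-/

set_option linter.style.haveILetI false
set_option linter.unusedSectionVars false
set_option backward.isDefEq.respectTransparency false
set_option backward.isDefEq.respectTransparency.types false

universe u

open CategoryTheory CategoryTheory.Limits AlgebraicGeometry Polynomial StabCat TopologicalSpace

noncomputable section

namespace Groth.Agent.HilbPoly

open Groth.Agent

variable {X : Scheme.{u}} {k : Type u} [Field k] [X.Over (Spec (CommRingCat.of k))]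
  [IsProper (X ↘ Spec (CommRingCat.of k))] {L : X.Modules} {n : ℕ}

/-- For pure modules slope semistability is `1`-semistability. -/
lemma ell_one_iff (hn : 1 ≤ n) {E : X.Modules} :
    ShStab.IsEllSemistable k X L E n 1 ↔ ShStab.IsPure X E n ∧ ShStab.IsMuSemistable k X L E n := by
  constructor
  · rintro ⟨hc, h0, hp, hss⟩
    refine ⟨hp, hc, h0, dim_of_isPure hp hc h0, fun F ι hι hF he => ?_,
      fun F ι hι hF pF pE h1 h2 h3 h4 => ((redLE_topPart_one hn h3 (h3.trans h4)).1).1 (hss F ι hι hF pF pE h1 h2 h3 h4)⟩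
    by_cases hF0 : IsZero F
    · rw [QCoh.support_eq_empty_of_isZero hF0 hF.1] at he
      haveI hE : IsEmpty (IrreducibleCloseds ↥(∅ : Set X)) :=
        ⟨fun s => s.2.1.ne_empty (Set.eq_empty_of_isEmpty s.1)⟩
      rw [topologicalKrullDim, Order.krullDim_eq_bot_iff.2 hE, WithBot.bot_add] at he
      exact WithBot.bot_ne_coe he
    · rw [hp F ι hι hF hF0] at he
      have h2 : (((n + 1 : ℕ) : ℕ∞) : WithBot ℕ∞) = ((n : ℕ∞) : WithBot ℕ∞) := he
      have h3 : n + 1 = n := by exact_mod_cast h2
      omega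
  · rintro ⟨hp, hc, h0, -, -, hss⟩
    exact ⟨hc, h0, hp, fun F ι hι hF pF pE h1 h2 h3 h4 =>
      ((redLE_topPart_one hn h3 (h3.trans h4)).1).2 (hss F ι hι hF pF pE h1 h2 h3 h4)⟩

/-- Existence and uniqueness of the slope filtration. -/
theorem exists_unique_muHN (hn : 1 ≤ n) (hL : CohB1.IsAmple L) {F : X.Modules} (hF : Coh.IsCoh F)
    (htf : ShStab.IsPure X F n) :
    ∃! s : LTSeries (Subobject F),
      s.head = ⊥ ∧ s.last = ⊤ ∧
      (∀ i : Fin s.length,
        ShStab.IsPure X (StabCat.factor s i) n ∧ ShStab.IsMuSemistable k X L (StabCat.factor s i) n) ∧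
      ∀ (i j : Fin s.length), i.val + 1 = j.val →
        ∀ (p q : ℚ[X]), ShStab.IsHilbPoly k X L (StabCat.factor s i) p →
          ShStab.IsHilbPoly k X L (StabCat.factor s j) q →
          StabCat.hatSlope n q < StabCat.hatSlope n p := by
  have hiff : ∀ s : LTSeries (Subobject F), IsEllHN k L n 1 F s ↔ (s.head = ⊥ ∧ s.last = ⊤ ∧
      (∀ i : Fin s.length,
        ShStab.IsPure X (StabCat.factor s i) n ∧ ShStab.IsMuSemistable k X L (StabCat.factor s i) n) ∧
      ∀ (i j : Fin s.length), i.val + 1 = j.val →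
        ∀ (p q : ℚ[X]), ShStab.IsHilbPoly k X L (StabCat.factor s i) p →
          ShStab.IsHilbPoly k X L (StabCat.factor s j) q →
          StabCat.hatSlope n q < StabCat.hatSlope n p) := by
    intro s
    refine and_congr_right fun _ => and_congr_right fun _ => ⟨fun h => ⟨fun i => (ell_one_iff hn).1 (h.1 i),
      fun i j hij p q hp hq => ?_⟩, fun h => ⟨fun i => (ell_one_iff hn).2 (h.1 i), fun i j hij p q hp hq => ?_⟩⟩
    · exact ((redLE_topPart_one hn (alpha_pos_ell hL (h.1 j) hq) (alpha_pos_ell hL (h.1 i) hp)).2).1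
        (h.2 i j hij p q hp hq)
    · exact ((redLE_topPart_one hn (alpha_pos_ell hL ((ell_one_iff hn).2 (h.1 j)) hq)
        (alpha_pos_ell hL ((ell_one_iff hn).2 (h.1 i)) hp)).2).2 (h.2 i j hij p q hp hq)
  obtain ⟨s, hs⟩ := exists_ellHN (k := k) (ℓ := 1) hL hF htf
  exact ⟨s, (hiff s).1 hs, fun t ht => ellHN_unique hL t s ((hiff t).2 ht) hs⟩

end Groth.Agent.HilbPoly
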