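import Groth.Agent.HilbPoly.Misc
import Groth.Agent.HilbPoly.Simple
import Groth.Agent.RefX.Reflexive
import Groth.Agent.VarDim.Top
import Groth.Agent.VarDim.Local
import Groth.Agent.GrpSchLib.SmoothRegular
import Groth.Agent.RegLoc6.Normal

/-!
# Morphisms of slope stable reflexive modules
-/

set_option linter.style.haveILetI false
set_option linter.unusedSectionVars false
set_option backward.isDefEq.respectTransparency false
set_option backward.isDefEq.respectTransparency.types false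

universe u

open CategoryTheory CategoryTheory.Limits AlgebraicGeometry Polynomial StabCat TopologicalSpace

noncomputable section

namespace Groth.Agent.HilbPoly

open Groth.Agent

section Alg

variable {A : Type u} [CommRing A] [IsLocalRing A] [IsNoetherianRing A] [IsDomain A] [IsIntegrallyClosed A]

/-- Over a normal local domain of dimension `≥ 2`, linear forms on the maximal ideal are scalars. -/
lemma exists_scalar_of_maximalIdeal (hdim : 2 ≤ ringKrullDim A) (lam : IsLocalRing.maximalIdeal A →ₗ[A] A) :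
    ∃ c : A, ∀ a, lam a = (a : A) * c := by
  classical
  let 𝔪 := IsLocalRing.maximalIdeal A
  have hsymm : ∀ a b : 𝔪, (a : A) * lam b = (b : A) * lam a := fun a b => by
    rw [← smul_eq_mul, ← smul_eq_mul, ← map_smul, ← map_smul]
    congr 1
    exact Subtype.ext (mul_comm _ _)
  have hprin : ∀ a : A, 𝔪 = Ideal.span {a} → False := fun a ha => by
    haveI : Submodule.IsPrincipal 𝔪 := ⟨a, ha⟩
    have h1 := Ideal.height_le_one_of_isPrincipal_of_mem_minimalPrimes 𝔪 𝔪
      (by rw [Ideal.minimalPrimes_eq_subsingleton_self]; exact Set.mem_singleton _)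
    rw [← IsLocalRing.maximalIdeal_height_eq_ringKrullDim] at hdim
    have h3 : (𝔪.height : WithBot ℕ∞) ≤ ((1 : ℕ∞) : WithBot ℕ∞) := WithBot.coe_le_coe.2 h1
    exact absurd (hdim.trans h3) (by decide)
  have hm0 : ∃ a₀ : 𝔪, (a₀ : A) ≠ 0 := by
    by_contra hn
    push Not at hn
    exact hprin 0 (le_antisymm (fun x hx => by rw [show x = 0 from hn ⟨x, hx⟩]; exact zero_mem _) (by simp))
  obtain ⟨a₀, ha₀⟩ := hm0
  by_cases hu : ∀ a, lam a ∈ 𝔪
  · let K := FractionRing A
    let x : K := algebraMap A K (lam a₀) / algebraMap A K a₀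
    have ha₀' : algebraMap A K a₀ ≠ 0 := IsFractionRing.to_map_eq_zero_iff.not.2 ha₀
    let M := Submodule.map (Algebra.linearMap A K) 𝔪
    have hx : ∀ b : 𝔪, x * algebraMap A K b = algebraMap A K (lam b) := fun b => by
      show algebraMap A K (lam a₀) / algebraMap A K a₀ * algebraMap A K b = _
      rw [div_mul_eq_mul_div, div_eq_iff ha₀', ← map_mul, ← map_mul]
      congr 1
      linear_combination -(hsymm a₀ b)
    have hxM : ∀ y ∈ M, x • y ∈ M := by
      rintro _ ⟨b, hb, rfl⟩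
      refine ⟨lam ⟨b, hb⟩, hu _, ?_⟩
      rw [smul_eq_mul]
      exact (hx ⟨b, hb⟩).symm
    have hint : IsIntegral A x := isIntegral_of_smul_mem_submodule M
      (by rw [Submodule.ne_bot_iff]; exact ⟨_, ⟨a₀, a₀.2, rfl⟩, ha₀'⟩)
      (Submodule.FG.map _ (IsNoetherian.noetherian _)) x hxM
    obtain ⟨c, hc⟩ := IsIntegrallyClosed.algebraMap_eq_of_integral hint
    refine ⟨c, fun b => IsFractionRing.injective A K ?_⟩
    rw [map_mul, hc, mul_comm, hx]
  · push Not at hu
    obtain ⟨a, ha⟩ := hu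
    obtain ⟨u, hu⟩ := IsLocalRing.notMem_maximalIdeal.1 ha
    exact (hprin a (le_antisymm (fun b hb => Ideal.mem_span_singleton'.2 ⟨lam ⟨b, hb⟩ * ↑u⁻¹, by
      have h := hsymm ⟨b, hb⟩ a
      rw [← hu] at h
      calc lam ⟨b, hb⟩ * ↑u⁻¹ * (a : A) = ((a : A) * lam ⟨b, hb⟩) * ↑u⁻¹ := by ring
        _ = b * ↑u * ↑u⁻¹ := by rw [← h]
        _ = b := u.mul_inv_cancel_right b⟩) (by rw [Ideal.span_le, Set.singleton_subset_iff]; exact a.2))).elim

/-- A reflexive submodule of a torsion free module is saturated in depth one. -/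
lemma mem_range_of_smul_mem (hdim : 2 ≤ ringKrullDim A) {F G : Type*} [AddCommGroup F] [Module A F]
    [AddCommGroup G] [Module A G] [Module.IsReflexive A F] (ι : F →ₗ[A] G) (hι : Function.Injective ι)
    (hG : ∀ (a : A) (z : G), a ≠ 0 → a • z = 0 → z = 0) {g : G}
    (hg : ∀ a ∈ IsLocalRing.maximalIdeal A, a • g ∈ LinearMap.range ι) : g ∈ LinearMap.range ι := by
  classical
  let 𝔪 := IsLocalRing.maximalIdeal A
  choose w hw using fun a : 𝔪 => hg a.1 a.2
  let wl : 𝔪 →ₗ[A] F :=
    { toFun := w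
      map_add' := fun a b => hι (by rw [map_add, hw, hw, hw]; exact add_smul _ _ _)
      map_smul' := fun r a => hι (by rw [map_smul, hw, hw]; exact mul_smul r (a : A) g) }
  choose c hc using fun θ : Module.Dual A F => exists_scalar_of_maximalIdeal hdim (θ.comp wl)
  obtain ⟨a₀, ha₀⟩ : ∃ a₀ : 𝔪, (a₀ : A) ≠ 0 := by
    by_contra hn
    push Not at hn
    have hb : 𝔪 = ⊥ := eq_bot_iff.2 fun x hx => (Submodule.mem_bot A).2 (hn ⟨x, hx⟩)
    rw [← IsLocalRing.maximalIdeal_height_eq_ringKrullDim, show IsLocalRing.maximalIdeal A = ⊥ from hb,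
      Ideal.height_bot] at hdim
    exact absurd hdim (by decide)
  let cl : Module.Dual A (Module.Dual A F) :=
    { toFun := c
      map_add' := fun θ η => mul_left_cancel₀ ha₀ (by rw [mul_add, ← hc, ← hc, ← hc]; rfl)
      map_smul' := fun r θ => mul_left_cancel₀ ha₀ (by
        rw [← hc, RingHom.id_apply, smul_eq_mul, mul_left_comm, ← hc]; rfl) }
  obtain ⟨f, hf⟩ := (Module.bijective_dual_eval A F).2 cl
  refine ⟨f, sub_eq_zero.1 (hG a₀ _ ha₀ ?_)⟩
  have h1 : (a₀ : A) • f = w a₀ := by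
    refine (Module.bijective_dual_eval A F).1 (LinearMap.ext fun θ => ?_)
    show θ ((a₀ : A) • f) = θ (w a₀)
    rw [map_smul, smul_eq_mul, show θ f = c θ from LinearMap.congr_fun hf θ]
    exact (hc θ a₀).symm
  rw [smul_sub, ← map_smul, h1, hw, sub_self]

omit [IsLocalRing A] [IsNoetherianRing A] [IsIntegrallyClosed A] in
lemma smul_eq_zero_of_reflexive {G : Type*} [AddCommGroup G] [Module A G] [Module.IsReflexive A G]
    (a : A) (z : G) (ha : a ≠ 0) (h : a • z = 0) : z = 0 := by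
  refine (Module.bijective_dual_eval A G).1 (LinearMap.ext fun θ => ?_)
  have h1 := congrArg θ h
  rw [map_smul, map_zero, smul_eq_mul] at h1
  simpa using (mul_eq_zero.1 h1).resolve_left ha

end Alg

variable {X : Scheme.{u}} {k : Type u} [Field k] [X.Over (Spec (CommRingCat.of k))]
  [IsProper (X ↘ Spec (CommRingCat.of k))] {L : X.Modules} {n : ℕ}

/-- Reflexive modules on an integral scheme are pure. -/
theorem isPure_of_reflexive [IsIntegral X] [IsLocallyNoetherian X] {F : X.Modules}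
    (hFc : Coh.IsCoh F) (hF : RefHull.IsReflexive F)
    (hX : topologicalKrullDim X = (n : WithBot ℕ∞)) : ShStab.IsPure X F n := by
  intro W w hw hW hW0
  haveI := hw
  have hne : (CohB1.support W).Nonempty := by
    rw [Set.nonempty_iff_ne_empty]
    exact fun hs => hW0 (CurveCohLib.isZero_of_subsingleton_stalks fun x => not_not.1
      fun hx => Set.eq_empty_iff_forall_notMem.1 hs x hx)
  obtain ⟨x, hx⟩ := hne
  let η := genericPoint X
  have hη : η ∈ CohB1.support W := by
    intro hsub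
    refine hx (subsingleton_of_forall_eq 0 fun z => ?_)
    obtain ⟨U, hU, hxU⟩ := QCoh.exists_affine_mem x
    letI := QCoh.stalkModule W hxU
    have hηU : η ∈ U := ((genericPoint_spec X).mem_open_set_iff U.2).2 (by simpa using ⟨x, hxU⟩)
    obtain ⟨⟨m, s⟩, hms⟩ := (QCoh.isLocalizedModule_germLin hW.1 hU hxU).surj z
    obtain ⟨f, hfη, hfm⟩ := (QCoh.subsingleton_stalk_iff hW.1 hU hηU).1 hsub m
    have hgm : W.presheaf.germ U x hxU m = X.presheaf.germ U x hxU (s : Γ(X, U)) • z := hms.symm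
    have hz : (X.presheaf.germ U x hxU f * X.presheaf.germ U x hxU (s : Γ(X, U))) • z = 0 := by
      rw [mul_smul, ← hgm, ← QCoh.germ_smul', hfm, map_zero]
    haveI : Module.IsReflexive (X.presheaf.stalk x) (F.presheaf.stalk x) := (RefX.isReflexive_iff hFc).1 hF x
    let Φ := DerSch.stalkFunctor X x
    have hinj : Function.Injective (Φ.map w) := (ModuleCat.mono_iff_injective _).1 inferInstance
    refine hinj ?_
    rw [map_zero]
    refine smul_eq_zero_of_reflexive (A := X.presheaf.stalk x) (G := F.presheaf.stalk x) _ _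
      (mul_ne_zero ?_ ?_) ((map_smul (Φ.map w).hom _ z).symm.trans ((congrArg _ hz).trans (map_zero _)))
    · intro h0
      have := congrArg (X.presheaf.stalkSpecializes (genericPoint_specializes x)) h0
      rw [map_zero, TopCat.Presheaf.germ_stalkSpecializes_apply] at this
      exact ((X.mem_basicOpen f η hηU).1 hfη).ne_zero this
    · intro h0
      exact ((X.mem_basicOpen _ x hxU).1 ((QCoh.mem_basicOpen_iff_notMem hU hxU _).2 s.2)).ne_zero h0
  refine le_antisymm ((H23.TopDim.dim_le_dim_of_subset (Set.subset_univ _)).trans ?_) ?_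
  · rw [IsHomeomorph.topologicalKrullDim_eq _ (Homeomorph.Set.univ X).isHomeomorph]; exact hX.le
  · rw [← hX, ← IsHomeomorph.topologicalKrullDim_eq _ (Homeomorph.Set.univ X).isHomeomorph]
    refine H23.TopDim.dim_le_dim_of_subset ?_
    rw [← (genericPoint_spec X).def]
    exact closure_minimal (Set.singleton_subset_iff.2 hη) (QCoh.isClosed_support_of_isFT hW.1 hW.2)

lemma isMuSS_of_isMuSt {E : X.Modules} (h : IsMuSt Coh.IsCoh (ShStab.IsHilbPoly k X L) n E) :
    IsMuSS Coh.IsCoh (ShStab.IsHilbPoly k X L) n E :=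
  fun F ι hι hF pF pE h1 h2 h3 h4 => (h F ι hι hF pF pE h1 h2 h3 h4).le

theorem mu_stable_isIso [IsIntegral X] [Smooth (X ↘ Spec (CommRingCat.of k))] (hn : 1 ≤ n)
    (hX : topologicalKrullDim X = (n : WithBot ℕ∞)) (hL : CohB1.IsAmple L) {F G : X.Modules}
    (hFr : RefHull.IsReflexive F) (hGr : RefHull.IsReflexive G)
    (hF : ShStab.IsMuStable k X L F n) (hG : ShStab.IsMuStable k X L G n) {pF pG : ℚ[X]}
    (hpF : ShStab.IsHilbPoly k X L F pF) (hpG : ShStab.IsHilbPoly k X L G pG)
    (hle : hatSlope n pG ≤ hatSlope n pF) {φ : F ⟶ G} (hφ : φ ≠ 0) : IsIso φ := by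
  haveI : IsNoetherian X := CurveCohLib.isNoetherian_of_proper (k := k)
  obtain ⟨hFc, hF0, hdF, -, hFst⟩ := hF
  obtain ⟨hGc, hG0, hdG, -, hGst⟩ := hG
  have hFt := isPure_of_reflexive hFc hFr hX
  have hGt := isPure_of_reflexive hGc hGr hX
  obtain ⟨K, I, a, p, b, w, hfac, ha, hb, hp, hS, hKc, hIc⟩ := exists_factor (k := k) hFc hGc φ
  haveI := ha; haveI := hb; haveI := hp
  have hI0 : ¬ IsZero I := fun h => hφ (by rw [← hfac, h.eq_of_tgt p 0, Limits.zero_comp])
  have hdI := hGt I b hb hIc hI0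
  obtain ⟨pK, hpK, -, -⟩ := exists_hilb (k := k) hL.1 hKc (dim_mono hKc hFc a hdF.le)
  obtain ⟨pI, hpI, -, -⟩ := exists_hilb (k := k) hL.1 hIc hdI.le
  have hsum : pF = pK + pI := isHilbPoly_unique hpF (hilb_add hL.1 hS hKc hFc hIc hpK hpI)
  have hαI := alpha_pos hL hIc hdI hpI
  have hαF := alpha_pos hL hFc hdF hpF
  have hαG := alpha_pos hL hGc hdG hpG
  have h2 := mu_sub hn hL hGc hdG (isMuSS_of_isMuSt hGst) b hIc hdI hpI hpG
  rw [hatSlope, hatSlope, div_le_div_iff₀ hαG hαF] at hle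
  have hK0 : IsZero K := by
    by_contra hK0
    have hαK := alpha_pos hL hKc (hFt K a ha hKc hK0) hpK
    have h3 := hFst K a ha hKc pK pF hpK hpF hαK (by rw [hsum, alpha_add]; linarith)
    rw [hatSlope, hatSlope, div_lt_div_iff₀ hαK hαF] at h3
    simp only [hsum, alpha_add] at h3 hle hαF
    have c1 := mul_lt_mul_of_pos_left h3 hαG
    have c2 := mul_le_mul_of_nonneg_left h2 hαF.le
    have c3 := mul_le_mul_of_nonneg_left hle hαI.le
    linarith
  haveI : Mono p := (ShortComplex.exact_iff_mono _ (hK0.eq_of_src a 0)).1 hS.exact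
  haveI hmono : Mono φ := by rw [← hfac]; exact mono_comp p b
  obtain ⟨hQ, hdQ, hpQ⟩ := cokernel_data (k := k) hL hFc hGc hdG.le φ hpF hpG
  have hαQ : alpha n (pG - pF) = 0 := by
    refine le_antisymm (le_of_not_gt fun h => ?_) (alpha_nonneg hL hQ hdQ hpQ)
    have hlt : alpha n pF < alpha n pG := by
      simp only [alpha, Polynomial.coeff_sub] at h ⊢; linarith
    have h3 := hGst F φ inferInstance hFc pF pG hpF hpG hαF hlt
    rw [hatSlope, hatSlope, div_lt_div_iff₀ hαF hαG] at h3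
    linarith
  have hsubα : ∀ j, alpha j (pG - pF) = alpha j pG - alpha j pF := fun j => by
    simp only [alpha, Polynomial.coeff_sub]; ring
  have hlt : topologicalKrullDim ↥(CohB1.support (cokernel φ)) < (n : WithBot ℕ∞) :=
    lt_of_le_of_ne hdQ fun he => (alpha_pos hL hQ he hpQ).ne' hαQ
  have h1 : alpha (n - 1) (pG - pF) ≤ 0 := by
    have e : alpha n pG = alpha n pF := by have := hsubα n; rw [hαQ] at this; linarith
    rw [hsubα]
    rw [e] at hle
    have := le_of_mul_le_mul_right hle hαF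
    linarith
  have hlt' : topologicalKrullDim ↥(CohB1.support (cokernel φ)) < ((n - 1 : ℕ) : WithBot ℕ∞) :=
    lt_of_le_of_ne (pred_cast hn hlt) fun he => absurd (alpha_pos hL hQ he hpQ) (not_lt.2 h1)
  by_cases hz : IsZero (cokernel φ)
  · haveI : Epi φ := Preadditive.epi_of_isZero_cokernel _ hz
    exact isIso_of_mono_of_epi φ
  exfalso
  obtain ⟨x, hx⟩ : (CohB1.support (cokernel φ)).Nonempty := by
    rw [Set.nonempty_iff_ne_empty]
    exact fun hs => hz (CurveCohLib.isZero_of_subsingleton_stalks fun x => not_not.1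
      fun hx => Set.eq_empty_iff_forall_notMem.1 hs x hx)
  obtain ⟨U, hU, hxU⟩ := QCoh.exists_affine_mem x
  haveI : IsNoetherianRing Γ(X, U) := IsLocallyNoetherian.component_noetherian ⟨U, hU⟩
  set Q := cokernel φ
  obtain ⟨m, hm⟩ : ∃ m : Γ(Q, U), m ≠ 0 := by
    by_contra hn'
    push Not at hn'
    exact hx ((QCoh.subsingleton_stalk_iff hQ.1 hU hxU).2 fun m =>
      ⟨1, by simpa using hxU, by rw [one_smul, hn' m]⟩)
  obtain ⟨P, hP, -⟩ := exists_le_isAssociatedPrime_of_isNoetherianRing Γ(X, U) m hm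
  obtain ⟨hPp, q, hq⟩ := isAssociatedPrime_iff.1 hP
  obtain ⟨ξ, hξU, hξ⟩ := QCoh.exists_point hU ⟨P, hPp⟩
  have hprime : (hU.primeIdealOf ⟨ξ, hξU⟩).asIdeal = P := congrArg PrimeSpectrum.asIdeal hξ
  letI := QCoh.stalkModule Q hξU
  have hq0 : Q.presheaf.germ U ξ hξU q ≠ 0 := by
    intro h0
    obtain ⟨s, hs⟩ := (QCoh.isLocalizedModule_germLin hQ.1 hU hξU).exists_of_eq (x₁ := q) (x₂ := 0)
      (by rw [map_zero]; exact h0)
    have hsP : (s : Γ(X, U)) ∈ P := by
      rw [hq, Submodule.mem_colon_singleton, Submodule.mem_bot]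
      have hs2 := hs; simp only [smul_zero] at hs2; exact hs2
    exact s.2 (hprime.ge hsP)
  have hξS : ξ ∈ CohB1.support Q := fun h => hq0 (h.elim _ _)
  -- the dimension of the local ring
  let f := X ↘ Spec (CommRingCat.of k)
  obtain ⟨e, he, -, hble⟩ := VarDim.exists_deg_add_stalk f ξ
  have hdeg : VarDim.deg f ξ + 2 ≤ n := by
    have h3 : topologicalKrullDim ↥(closure ({ξ} : Set X)) < ((n - 1 : ℕ) : WithBot ℕ∞) :=
      (H23.TopDim.dim_le_dim_of_subset (closure_minimal (Set.singleton_subset_iff.2 hξS)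
        (QCoh.isClosed_support_of_isFT hQ.1 hQ.2))).trans_lt hlt'
    rw [VarDim.topologicalKrullDim_closure_singleton f] at h3
    have h4 : ((VarDim.deg f ξ : ℕ∞) : WithBot ℕ∞) < (((n - 1 : ℕ) : ℕ∞) : WithBot ℕ∞) := h3
    norm_cast at h4
    omega
  have hgen : VarDim.deg f (genericPoint X) = n := by
    have h3 := VarDim.topologicalKrullDim_eq_deg_genericPoint f
    rw [hX] at h3
    have h4 : (((VarDim.deg f (genericPoint X) : ℕ) : ℕ∞) : WithBot ℕ∞) = ((n : ℕ∞) : WithBot ℕ∞) := h3.symm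
    exact_mod_cast h4
  have hb2 : 2 ≤ e := by
    have := hble _ (genericPoint_specializes ξ)
    rw [hgen] at this
    omega
  have hdim : 2 ≤ ringKrullDim (X.presheaf.stalk ξ) := by rw [he]; exact_mod_cast hb2
  haveI := GrpSchLib.isRegularLocalRing_stalk_of_smooth f ξ
  haveI : IsIntegrallyClosed (X.presheaf.stalk ξ) := RegLoc6.isIntegrallyClosed_of_isRegularLocalRing _
  haveI hFξ : Module.IsReflexive (X.presheaf.stalk ξ) ((DerSch.stalkFunctor X ξ).obj F) :=
    (RefX.isReflexive_iff hFc).1 hFr ξ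
  haveI : Module.IsReflexive (X.presheaf.stalk ξ) (G.presheaf.stalk ξ) := (RefX.isReflexive_iff hGc).1 hGr ξ
  let Φ := DerSch.stalkFunctor X ξ
  have hinj : Function.Injective (Φ.map φ) := (ModuleCat.mono_iff_injective _).1 inferInstance
  have hsurj : Function.Surjective (Φ.map (cokernel.π φ)) := (ModuleCat.epi_iff_surjective _).1 inferInstance
  have hex := (KFlatLib.exact_iff_stalk _).1 (ShortComplex.exact_of_g_is_cokernel
    (ShortComplex.mk φ (cokernel.π φ) (cokernel.condition φ)) (cokernelIsCokernel _)) ξ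
  rw [ShortComplex.moduleCat_exact_iff] at hex
  obtain ⟨g, hg⟩ := hsurj (Q.presheaf.germ U ξ hξU q)
  have hker : ∀ z, z ∈ LinearMap.range (Φ.map φ).hom ↔ Φ.map (cokernel.π φ) z = 0 := fun z =>
    ⟨by rintro ⟨y, rfl⟩
        refine (ConcreteCategory.comp_apply (Φ.map φ) (Φ.map (cokernel.π φ)) y).symm.trans ?_
        rw [← Functor.map_comp, cokernel.condition]
        haveI : Φ.Additive := DerSch.additive_stalkFunctor ξ
        rw [Functor.map_zero]
        rfl,
      fun h => hex z h⟩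
  refine hq0 ?_
  rw [← hg]
  refine (hker g).1 (mem_range_of_smul_mem hdim (Φ.map φ).hom hinj
    (fun a z => smul_eq_zero_of_reflexive (G := G.presheaf.stalk ξ) a z) fun r hr => ?_)
  refine (hker _).2 ((map_smul (Φ.map (cokernel.π φ)).hom r g).trans ?_)
  letI := QCoh.stalkAlg (X := X) hξU
  haveI := QCoh.isLocalization_stalk' hU hξU
  rw [show (Φ.map (cokernel.π φ)).hom g = Q.presheaf.germ U ξ hξU q from hg]
  obtain ⟨⟨r', s⟩, hrs⟩ := IsLocalization.surj (hU.primeIdealOf ⟨ξ, hξU⟩).asIdeal.primeCompl r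
  have hr' : r' ∈ P := by
    rw [← hprime, ← IsLocalization.AtPrime.to_map_mem_maximal_iff (X.presheaf.stalk ξ)
      (hU.primeIdealOf ⟨ξ, hξU⟩).asIdeal r', ← hrs]
    exact Ideal.mul_mem_right _ _ hr
  have hunit : IsUnit (algebraMap Γ(X, U) (X.presheaf.stalk ξ) s) := IsLocalization.map_units _ s
  refine hunit.smul_left_cancel.1 ?_
  rw [smul_zero]
  refine (smul_smul _ _ _).trans ?_
  rw [mul_comm, hrs]
  refine (QCoh.germ_smul' Q hξU r' q).symm.trans ?_
  rw [hq, Submodule.mem_colon_singleton, Submodule.mem_bot] at hr'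
  rw [hr', map_zero]

theorem mu_stable_scalar [IsAlgClosed k] [IsIntegral X] [Smooth (X ↘ Spec (CommRingCat.of k))] (hn : 1 ≤ n)
    (hX : topologicalKrullDim X = (n : WithBot ℕ∞)) (hL : CohB1.IsAmple L) {F : X.Modules}
    (hFr : RefHull.IsReflexive F) (hF : ShStab.IsMuStable k X L F n) (φ : F ⟶ F) :
    ∃ c : k, φ = smulG F (Coh.toGlobal (X ↘ Spec (CommRingCat.of k)) c) := by
  obtain ⟨p, hp, -, -⟩ := exists_hilb (k := k) hL.1 hF.1 hF.2.2.1.le
  exact exists_scalar _ hF.1 hF.2.1
    (fun ψ h => mu_stable_isIso hn hX hL hFr hFr hF hF hp hp le_rfl h) φ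

end Groth.Agent.HilbPoly
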