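import Groth.Agent.HilbPoly.HN
import Groth.Agent.HilbPoly.Misc
import Groth.Agent.HilbPoly.Quot

/-!
# Morphisms of semistable sheaves with the same reduced Hilbert polynomial
-/

set_option linter.style.haveILetI false
set_option linter.unusedSectionVars false
set_option backward.isDefEq.respectTransparency false
set_option backward.isDefEq.respectTransparency.types false

universe u

open CategoryTheory CategoryTheory.Limits AlgebraicGeometry Polynomial StabCat TopologicalSpace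

noncomputable section

namespace Groth.Agent.HilbPoly

open Groth.Agent

variable {X : Scheme.{u}} {k : Type u} [Field k] [X.Over (Spec (CommRingCat.of k))]
  [IsProper (X ↘ Spec (CommRingCat.of k))] {L : X.Modules} {d : ℕ}

lemma sub_redLE (hL : CohB1.IsAmple L) {E : X.Modules} (hE : ShStab.IsSemistable k X L E d) {U : X.Modules}
    (ι : U ⟶ E) [Mono ι] (hU : Coh.IsCoh U) {pU pE : ℚ[X]} (hpU : ShStab.IsHilbPoly k X L U pU)
    (hpE : ShStab.IsHilbPoly k X L E pE) : RedLE d pU pE := by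
  by_cases h0 : IsZero U
  · rw [isHilbPoly_unique hpU (hilb_isZero h0)]
    exact ⟨0, fun m _ => by simp [alpha]⟩
  by_cases hi : IsIso ι
  · rw [isHilbPoly_unique (hilb_iso (asIso ι) hpU) hpE]
    exact ⟨0, fun m _ => le_rfl⟩
  exact hE.2.2.2 U ι inferInstance hU h0 hi _ _ hpU hpE

lemma redEq_trans {P Q R : ℚ[X]} (hQ : alpha d Q ≠ 0) (h₁ : RedEq d P Q) (h₂ : RedEq d Q R) : RedEq d P R := by
  unfold RedEq at *
  apply smul_right_injective ℚ[X] hQ
  show alpha d Q • alpha d R • P = alpha d Q • alpha d P • R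
  rw [smul_comm, h₁, smul_comm, h₂, smul_comm]

lemma redEq_symm {P Q : ℚ[X]} (h : RedEq d P Q) : RedEq d Q P := Eq.symm h

lemma redEq_sub {P Q : ℚ[X]} (h : RedEq d P Q) : RedEq d (Q - P) Q := by
  unfold RedEq at *
  rw [smul_sub, h, ← sub_smul]
  congr 1
  simp only [alpha, Polynomial.coeff_sub]; ring

lemma redLE_of_redEq {P Q : ℚ[X]} (h : RedEq d P Q) : RedLE d P Q :=
  ⟨0, fun m _ => le_of_eq (congrArg (Polynomial.eval (m : ℚ)) h)⟩

theorem sub_isSemistable (hL : CohB1.IsAmple L) {E : X.Modules} (hE : ShStab.IsSemistable k X L E d)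
    {F : X.Modules} (ι : F ⟶ E) [Mono ι] (hF : Coh.IsCoh F) (hF0 : ¬ IsZero F) {pF pE : ℚ[X]}
    (hpF : ShStab.IsHilbPoly k X L F pF) (hpE : ShStab.IsHilbPoly k X L E pE) (h : RedEq d pF pE) :
    ShStab.IsSemistable k X L F d := by
  have hFp := isPure_of_mono ι hE.2.2.1
  refine ⟨hF, hF0, hFp, fun W w hw hW hW0 _ pW pF' hpW hpF' => ?_⟩
  haveI := hw
  rw [isHilbPoly_unique hpF' hpF]
  exact redLE_trans (alpha_pos hL hW (hFp W w hw hW hW0) hpW).le (alpha_pos_ss hL hE hpE)
    (alpha_pos hL hF (dim_of_isPure hFp hF hF0) hpF).le (sub_redLE hL hE (w ≫ ι) hW hpW hpE)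
    (redLE_of_redEq (redEq_symm h))

theorem quot_isSemistable (hL : CohB1.IsAmple L) {E : X.Modules} (hE : ShStab.IsSemistable k X L E d)
    {Q : X.Modules} (q : E ⟶ Q) [Epi q] (hQ : Coh.IsCoh Q) (hQ0 : ¬ IsZero Q) {pQ pE : ℚ[X]}
    (hpQ : ShStab.IsHilbPoly k X L Q pQ) (hpE : ShStab.IsHilbPoly k X L E pE) (h : RedEq d pQ pE) :
    ShStab.IsSemistable k X L Q d := by
  haveI : IsNoetherian X := CurveCohLib.isNoetherian_of_proper (k := k)
  have hd := dim_le_of_isPure hE.2.2.1 hE.1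
  have hαE := alpha_pos_ss hL hE hpE
  have hdQ := dim_epi hE.1 hQ q hd
  have hαQ : 0 < alpha d pQ := by
    refine lt_of_le_of_ne (alpha_nonneg hL hQ hdQ hpQ) fun h0 => hQ0 (isZero_of_hilb_zero (k := k) hL hQ hdQ ?_)
    have h1 : pQ = 0 := by
      unfold RedEq at h
      rw [← h0, zero_smul] at h
      exact (smul_eq_zero.1 h).resolve_left hαE.ne'
    rw [← h1]; exact hpQ
  have hdim : topologicalKrullDim ↥(CohB1.support Q) = (d : WithBot ℕ∞) := by
    refine le_antisymm hdQ (le_of_not_gt fun hlt => ?_)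
    rw [(hilb_props hL.1 hQ hdQ hpQ).2, show mult k L d Q = 0 from iterD_eq_zero d (additive_euler k) _
      List.length_replicate (fun N hN => (List.eq_of_mem_replicate hN) ▸ hL.1) Q hQ hlt] at hαQ
    simp at hαQ
  have hss : IsSS Coh.IsCoh (ShStab.IsHilbPoly k X L) d Q := by
    intro W w hw hW hW0 _ pW pQ' hpW hpQ'
    haveI := hw
    rw [isHilbPoly_unique hpQ' hpQ]
    obtain ⟨hR, hdR, hpR⟩ := cokernel_data (k := k) hL hW hQ hdQ w hpW hpQ
    haveI : Epi (q ≫ cokernel.π w) := epi_comp _ _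
    obtain ⟨hU, -, hpU⟩ := kernel_data (k := k) hL hE.1 hR hd (q ≫ cokernel.π w) hpE hpR
    obtain ⟨N, hN⟩ := red_kernel_iff.1.1 (sub_redLE hL hE (kernel.ι (q ≫ cokernel.π w)) hU hpU hpE)
    refine ⟨N, fun m hm => ?_⟩
    have h1 := hN m hm
    have h2 := congrArg (Polynomial.eval (m : ℚ)) h
    have hs : alpha d (pQ - pW) = alpha d pQ - alpha d pW := by simp [alpha]; ring
    simp only [eval_smul, smul_eq_mul, eval_sub, hs] at h1 h2 ⊢
    refine le_of_mul_le_mul_left ?_ hαE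
    have h3 : alpha d pE * pW.eval (m : ℚ) ≤ alpha d pW * pE.eval (m : ℚ) := by linarith
    have h4 := mul_le_mul_of_nonneg_left h3 hαQ.le
    have h5 := congrArg (fun t => alpha d pW * t) h2
    linarith
  exact ⟨hQ, hQ0, isPure_of_isSS hL hQ hdim hss, hss⟩

theorem kernel_cokernel_isSemistable (hL : CohB1.IsAmple L) {E F : X.Modules}
    (hE : ShStab.IsSemistable k X L E d) (hF : ShStab.IsSemistable k X L F d) {pE pF : ℚ[X]}
    (hpE : ShStab.IsHilbPoly k X L E pE) (hpF : ShStab.IsHilbPoly k X L F pF) (hred : RedEq d pE pF)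
    (f : E ⟶ F) :
    (IsZero (kernel f) ∨ (ShStab.IsSemistable k X L (kernel f) d ∧
        ∀ pK : ℚ[X], ShStab.IsHilbPoly k X L (kernel f) pK → RedEq d pK pE)) ∧
    (IsZero (cokernel f) ∨ (ShStab.IsSemistable k X L (cokernel f) d ∧
        ∀ pQ : ℚ[X], ShStab.IsHilbPoly k X L (cokernel f) pQ → RedEq d pQ pE)) := by
  haveI : IsNoetherian X := CurveCohLib.isNoetherian_of_proper (k := k)
  have hdE := dim_le_of_isPure hE.2.2.1 hE.1
  have hdF := dim_le_of_isPure hF.2.2.1 hF.1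
  have hαE := alpha_pos_ss hL hE hpE
  have hαF := alpha_pos_ss hL hF hpF
  have hK := QCoh.isCoh_kernel hE.1 hF.1 f
  obtain ⟨pK, hpK, -, -⟩ := exists_hilb (k := k) hL.1 hK (dim_mono hK hE.1 (kernel.ι f) hdE)
  obtain ⟨hI, hdI, hpI⟩ := cokernel_data (k := k) hL hK hE.1 hdE (kernel.ι f) hpK hpE
  let m : cokernel (kernel.ι f) ⟶ F := cokernel.desc _ f (kernel.condition f)
  haveI : Mono m := inferInstanceAs (Mono (Abelian.factorThruCoimage f))
  have hIE : RedEq d (pE - pK) pE := by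
    refine redEq_of_le_le (redLE_trans (alpha_nonneg hL hI hdI hpI) hαF hαE.le (sub_redLE hL hF m hI hpI hpF)
      (redLE_of_redEq (redEq_symm hred))) (red_kernel_iff.1.1 ?_)
    rw [sub_sub_cancel]
    exact sub_redLE hL hE (kernel.ι f) hK hpK hpE
  have hKE : RedEq d pK pE := by
    have := redEq_sub hIE
    rwa [sub_sub_cancel] at this
  have hIF : RedEq d (pE - pK) pF := redEq_trans hαE.ne' hIE hred
  refine ⟨?_, ?_⟩
  · by_cases h : IsZero (kernel f)
    · exact Or.inl h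
    · exact Or.inr ⟨sub_isSemistable hL hE (kernel.ι f) hK h hpK hpE hKE,
        fun p hp => by rw [isHilbPoly_unique hp hpK]; exact hKE⟩
  · by_cases h : IsZero (cokernel f)
    · exact Or.inl h
    · obtain ⟨hC, -, hpC⟩ := cokernel_data (k := k) hL hI hF.1 hdF m hpI hpF
      have e : cokernel m ≅ cokernel f :=
        (cokernelEpiComp (cokernel.π (kernel.ι f)) m).symm ≪≫ cokernelIsoOfEq (cokernel.π_desc _ _ _)
      have hpC' := hilb_iso e hpC
      have hQF : RedEq d (pF - (pE - pK)) pF := redEq_sub hIF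
      have hQ := QCoh.isCoh_cokernel hE.1.1 hF.1 f
      exact Or.inr ⟨quot_isSemistable hL hF (cokernel.π f) hQ h hpC' hpF hQF,
        fun p hp => by rw [isHilbPoly_unique hp hpC']; exact redEq_trans hαF.ne' hQF (redEq_symm hred)⟩

end Groth.Agent.HilbPoly
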