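import Groth.Agent.AmpleVan.Vanish
import Groth.Agent.InjLocal.Basic
import Groth.Agent.QCoh.DevissageP
import Groth.Agent.QCoh.Qcqs
import Groth.Agent.QCoh.Pullback

/-!
# The basic step of Snapper's lemma

For an integral closed subscheme `Z` and an invertible module `N` the modules `O_Z` and `O_Z ⊗ N` contain
a common submodule with both quotients supported on proper closed subsets of `Z`.
-/

set_option linter.style.haveILetI false
set_option backward.isDefEq.respectTransparency false
set_option backward.isDefEq.respectTransparency.types false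

universe u

open CategoryTheory CategoryTheory.Limits AlgebraicGeometry TopologicalSpace Opposite

attribute [local instance] HasDerivedCategory.standard

noncomputable section

namespace Groth.Agent.HilbPoly

open Groth.Agent

variable {X : Scheme.{u}}

/-- The unit of restriction to `U`. -/
abbrev resUnit (U : X.Opens) (M : X.Modules) :
    M ⟶ (Scheme.Modules.pushforward U.ι).obj ((Scheme.Modules.restrictFunctor U.ι).obj M) :=
  (Scheme.Modules.restrictAdjunction U.ι).unit.app M

instance isIso_restrict_resUnit (U : X.Opens) (M : X.Modules) :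
    IsIso ((Scheme.Modules.restrictFunctor U.ι).map (resUnit U M)) :=
  IsIso.of_isIso_fac_right ((Scheme.Modules.restrictAdjunction U.ι).left_triangle_components M)

/-- Structure sheaves of integral closed subschemes are determined on opens containing the generic point. -/
lemma mono_resUnit_push {Z : Scheme.{u}} [IsIntegral Z] (i : Z ⟶ X) {U : X.Opens}
    (hU : i (genericPoint Z) ∈ U) : Mono (resUnit U ((Coh.push i).obj (Coh.structureModule Z))) := by
  refine QCoh.mono_of_app_injective _ fun W => (injective_iff_map_eq_zero _).2 fun s hs => ?_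
  change ((Scheme.Modules.restrictAdjunction U.ι).unit.app _).app W s = 0 at hs
  rw [Scheme.Modules.restrictAdjunction_unit_app_app] at hs
  by_cases hne : Nonempty (i ⁻¹ᵁ W : Z.Opens)
  · have hle : U.ι ''ᵁ (U.ι ⁻¹ᵁ W) ≤ W := U.ι.image_preimage_le W
    haveI : Nonempty (i ⁻¹ᵁ (U.ι ''ᵁ (U.ι ⁻¹ᵁ W)) : Z.Opens) := by
      obtain ⟨⟨z, hz⟩⟩ := hne
      refine ⟨⟨genericPoint Z, ?_⟩⟩
      show i (genericPoint Z) ∈ U.ι ''ᵁ (U.ι ⁻¹ᵁ W)
      rw [U.ι.image_preimage_eq_opensRange_inf, Scheme.Opens.opensRange_ι]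
      exact ⟨hU, (genericPoint_specializes z).mem_open (i ⁻¹ᵁ W).isOpen hz⟩
    exact map_injective_of_isIntegral Z ((Opens.map i.base).map (homOfLE hle))
      (hs.trans (map_zero _).symm)
  · haveI : IsEmpty (i ⁻¹ᵁ W : Z.Opens) := not_nonempty_iff.1 hne
    have hbot : i ⁻¹ᵁ W = ⊥ := eq_bot_iff.2 fun z hz => (hne ⟨⟨z, hz⟩⟩).elim
    haveI : Subsingleton Γ(Z, i ⁻¹ᵁ W) := by rw [hbot]; infer_instance
    exact @Subsingleton.elim Γ(Z, i ⁻¹ᵁ W) inferInstance _ _

/-- Kernels of units vanish on the open. -/
lemma isZero_restrict_kernel (U : X.Opens) (M : X.Modules) :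
    IsZero ((Scheme.Modules.restrictFunctor U.ι).obj (kernel (resUnit U M))) := by
  have h : (Scheme.Modules.restrictFunctor U.ι).map (kernel.ι (resUnit U M)) = 0 := by
    rw [← cancel_mono ((Scheme.Modules.restrictFunctor U.ι).map (resUnit U M)), ← Functor.map_comp,
      kernel.condition, Functor.map_zero, zero_comp]
  rw [IsZero.iff_id_eq_zero, ← cancel_mono ((Scheme.Modules.restrictFunctor U.ι).map (kernel.ι (resUnit U M))),
    h, comp_zero, comp_zero]

/-- The same for twists by invertible modules. -/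
lemma mono_resUnit_tensor {U : X.Opens} {M N : X.Modules} (hN : PicF.IsInvertible N) [Mono (resUnit U M)] :
    Mono (resUnit U (CohB1.tensorMod M N)) := by
  obtain ⟨D, hD, ⟨e⟩⟩ := H23.PicInv.exists_inverse hN
  haveI := AmpleVan.isEquivalence_tw hD
  let K := kernel (resUnit U (CohB1.tensorMod M N))
  let f : (AmpleVan.tw D).obj K ⟶ M :=
    (AmpleVan.tw D).map (kernel.ι _) ≫ (AmpleVan.twComp N D).hom.app M ≫
      ((DCoh.tensorBi (X := X)).obj M).map e.hom ≫ AmpleVan.twUnit.hom.app M
  haveI : Mono f := inferInstance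
  have hz : IsZero ((Scheme.Modules.restrictFunctor U.ι).obj ((AmpleVan.tw D).obj K)) :=
    IsZero.of_iso (((DCoh.tensorBi (X := (U : Scheme.{u}))).flip.obj _).map_isZero
      (isZero_restrict_kernel U (CohB1.tensorMod M N))) (((KFlatLib.restrictTensorBiIso U.ι).app K).app D)
  have hf : f = 0 := by
    rw [← cancel_mono (resUnit U M), zero_comp]
    exact ((Scheme.Modules.restrictAdjunction U.ι).unit.naturality f).trans
      (((Scheme.Modules.pushforward U.ι).map_isZero hz).eq_of_tgt ((Scheme.Modules.restrictAdjunction U.ι).unit.app _) 0 ▸ zero_comp)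
  have hK : IsZero ((AmpleVan.tw D).obj K) := by
    rw [IsZero.iff_id_eq_zero, ← cancel_mono f, hf, comp_zero, comp_zero]
  have hK' : IsZero K := by
    rw [IsZero.iff_id_eq_zero]
    apply (AmpleVan.tw D).map_injective
    exact hK.eq_of_src _ _
  exact Preadditive.mono_of_kernel_zero (hK'.eq_of_src _ _)

/-- Modules vanishing on an open are supported outside it. -/
lemma notMem_support_of_isZero_restrict {U : X.Opens} {M : X.Modules}
    (h : IsZero ((Scheme.Modules.restrictFunctor U.ι).obj M)) {x : X} (hx : x ∈ U) :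
    x ∉ CohB1.support M := by
  have h0 := InjLocal.stalk_zero_of_restrict U (𝟙 M) (h.eq_of_src _ _) x hx
  rw [CategoryTheory.Functor.map_id] at h0
  intro hS
  exact hS (subsingleton_of_forall_eq 0 fun m => ConcreteCategory.congr_hom h0 m)

lemma support_subsingleton {M : X.Modules} {x : X} (h : IsZero ((DerSch.stalkFunctor X x).obj M)) :
    x ∉ CohB1.support M := fun hS => hS (ModuleCat.subsingleton_of_isZero h)

lemma support_tensor_subset (M N : X.Modules) : CohB1.support (CohB1.tensorMod M N) ⊆ CohB1.support M := by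
  intro x hx
  by_contra h
  haveI : Subsingleton (M.presheaf.stalk x) := not_not.1 h
  exact support_subsingleton (KFlatLib.isZero_stalk_tensor_left x M N
    (@ModuleCat.isZero_of_subsingleton _ _ ((DerSch.stalkFunctor X x).obj M) ‹_›)) hx

lemma isQCoh_pullback {A B C : X.Modules} (hA : Coh.IsQCoh A) (hB : Coh.IsQCoh B) (hC : Coh.IsQCoh C)
    (f : A ⟶ C) [Mono f] (g : B ⟶ C) : Coh.IsQCoh (pullback f g) := by
  let e : pullback f g ≅ kernel (g ≫ cokernel.π f) :=
    { hom := kernel.lift _ (pullback.snd f g)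
        (by rw [← Category.assoc, ← pullback.condition, Category.assoc, cokernel.condition, comp_zero])
      inv := pullback.lift
        (Abelian.monoLift f (kernel.ι (g ≫ cokernel.π f) ≫ g)
          (by rw [Category.assoc, kernel.condition]))
        (kernel.ι (g ≫ cokernel.π f)) (Abelian.monoLift_comp _ _ _)
      hom_inv_id := by
        rw [← cancel_mono (pullback.snd f g), Category.assoc, pullback.lift_snd, kernel.lift_ι,
          Category.id_comp]
      inv_hom_id := by
        rw [← cancel_mono (kernel.ι (g ≫ cokernel.π f)), Category.assoc, kernel.lift_ι,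
          pullback.lift_snd, Category.id_comp] }
  exact (QCoh.isQCoh_iff_iso e).2 (QCoh.isQCoh_kernel hB (QCoh.isQCoh_cokernel hA hC f) _)

/-- Additive invariants of coherent modules. -/
structure Additive (φ : X.Modules → ℤ) : Prop where
  iso : ∀ M N : X.Modules, Nonempty (M ≅ N) → φ M = φ N
  add : ∀ S : ShortComplex X.Modules, S.ShortExact → Coh.IsCoh S.X₁ → Coh.IsCoh S.X₂ → Coh.IsCoh S.X₃ →
    φ S.X₂ = φ S.X₁ + φ S.X₃

lemma isIso_restrict_fst (U : X.Opens) {A B C : X.Modules} (f : A ⟶ C) (g : B ⟶ C)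
    [IsIso ((Scheme.Modules.restrictFunctor U.ι).map g)] :
    IsIso ((Scheme.Modules.restrictFunctor U.ι).map (pullback.fst f g)) := by
  rw [← PreservesPullback.iso_hom_fst (Scheme.Modules.restrictFunctor U.ι) f g]
  infer_instance

lemma isIso_restrict_snd (U : X.Opens) {A B C : X.Modules} (f : A ⟶ C) (g : B ⟶ C)
    [IsIso ((Scheme.Modules.restrictFunctor U.ι).map f)] :
    IsIso ((Scheme.Modules.restrictFunctor U.ι).map (pullback.snd f g)) := by
  rw [← PreservesPullback.iso_hom_snd (Scheme.Modules.restrictFunctor U.ι) f g]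
  infer_instance

lemma isZero_restrict_cokernel (U : X.Opens) {A B : X.Modules} (f : A ⟶ B)
    [IsIso ((Scheme.Modules.restrictFunctor U.ι).map f)] :
    IsZero ((Scheme.Modules.restrictFunctor U.ι).obj (cokernel f)) :=
  IsZero.of_iso (isZero_cokernel_of_epi ((Scheme.Modules.restrictFunctor U.ι).map f))
    (PreservesCokernel.iso (Scheme.Modules.restrictFunctor U.ι) f)

/-- The step. -/
theorem exists_step [IsNoetherian X] {Z : Scheme.{u}} (i : Z ⟶ X) [IsClosedImmersion i] [IsIntegral Z]
    {ξ : X} (hr : Set.range i = closure {ξ}) {N : X.Modules} (hN : PicF.IsInvertible N) :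
    ∃ C₁ C₂ : X.Modules, Coh.IsCoh C₁ ∧ Coh.IsCoh C₂ ∧
      CohB1.support C₁ ⊆ closure {ξ} ∧ ξ ∉ CohB1.support C₁ ∧
      CohB1.support C₂ ⊆ closure {ξ} ∧ ξ ∉ CohB1.support C₂ ∧
      ∀ φ : X.Modules → ℤ, Additive φ →
        φ (CohB1.tensorMod ((Coh.push i).obj (Coh.structureModule Z)) N) + φ C₁ =
          φ ((Coh.push i).obj (Coh.structureModule Z)) + φ C₂ := by
  have hξ : i (genericPoint Z) = ξ :=
    ((show Specializes (i (genericPoint Z)) ξ from specializes_iff_mem_closure.2
      ((QCoh.range_eq_closure i).le (hr.ge (subset_closure rfl)))).antisymm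
    (specializes_iff_mem_closure.2 (hr.le ⟨_, rfl⟩))).eq
  obtain ⟨U, hξU, ⟨τ⟩⟩ := hN ξ
  let M := (Coh.push i).obj (Coh.structureModule Z)
  let P := CohB1.tensorMod M N
  have hM : Coh.IsCoh M := QCoh.isCoh_push_structure i
  have hP : Coh.IsCoh P := AmpleVan.isCoh_tensor hM (AmpleVan.isCoh_invertible hN)
  haveI : Mono (resUnit U M) := mono_resUnit_push i (hξ ▸ hξU)
  haveI : Mono (resUnit U P) := mono_resUnit_tensor hN
  let R := Scheme.Modules.restrictFunctor U.ι
  let θ : R.obj P ≅ R.obj M :=
    ((KFlatLib.restrictTensorBiIso U.ι).app M).app N ≪≫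
      ((DCoh.tensorBi (X := (U : Scheme.{u}))).obj (R.obj M)).mapIso τ ≪≫ AmpleVan.twUnit.app (R.obj M)
  let g : P ⟶ (Scheme.Modules.pushforward U.ι).obj (R.obj M) :=
    resUnit U P ≫ (Scheme.Modules.pushforward U.ι).map θ.hom
  haveI : Mono g := mono_comp _ _
  haveI : IsIso (R.map ((Scheme.Modules.pushforward U.ι).map θ.hom)) := inferInstance
  haveI : IsIso (R.map g) := by rw [Functor.map_comp]; infer_instance
  haveI : QuasiCompact U.ι := inferInstance
  have hJq : Coh.IsQCoh (pullback (resUnit U M) g) :=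
    isQCoh_pullback hM.1 hP.1 (QCoh.isQCoh_pushforward U.ι (QCoh.isQCoh_restrict U.ι hM.1)) _ _
  let a := pullback.fst (resUnit U M) g
  let b := pullback.snd (resUnit U M) g
  have hJ : Coh.IsCoh (pullback (resUnit U M) g) := QCoh.isCoh_of_mono a hM hJq
  haveI : IsIso (R.map a) := isIso_restrict_fst U _ g
  haveI : IsIso (R.map b) := isIso_restrict_snd U _ g
  have hMs : CohB1.support M ⊆ closure {ξ} := hr ▸ QCoh.support_push_subset i QCoh.isQCoh_structureModule
  have h₁ := QCoh.isCoh_cokernel hJq hM a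
  have h₂ := QCoh.isCoh_cokernel hJq hP b
  refine ⟨cokernel a, cokernel b, h₁, h₂,
    (QCoh.support_of_epi hM.1 h₁.1 (cokernel.π a)).trans hMs,
    notMem_support_of_isZero_restrict (isZero_restrict_cokernel U a) hξU,
    ((QCoh.support_of_epi hP.1 h₂.1 (cokernel.π b)).trans (support_tensor_subset M N)).trans hMs,
    notMem_support_of_isZero_restrict (isZero_restrict_cokernel U b) hξU, fun φ hφ => ?_⟩
  have e₁ := hφ.add (ShortComplex.mk a (cokernel.π a) (cokernel.condition a))
    (.mk' (ShortComplex.exact_of_g_is_cokernel _ (cokernelIsCokernel a)) inferInstance inferInstance) hJ hM h₁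
  have e₂ := hφ.add (ShortComplex.mk b (cokernel.π b) (cokernel.condition b))
    (.mk' (ShortComplex.exact_of_g_is_cokernel _ (cokernelIsCokernel b)) inferInstance inferInstance) hJ hP h₂
  change φ M = φ (pullback (resUnit U M) g) + φ (cokernel a) at e₁
  change φ P = φ (pullback (resUnit U M) g) + φ (cokernel b) at e₂
  change φ P + φ (cokernel a) = φ M + φ (cokernel b)
  omega

end Groth.Agent.HilbPoly
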