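import Groth.Agent.HilbPoly.Sat

/-!
# The lattice of coherent submodules and Hilbert polynomials
-/

set_option linter.style.haveILetI false
set_option linter.unusedSectionVars false
set_option backward.isDefEq.respectTransparency false
set_option backward.isDefEq.respectTransparency.types false

universe u

open CategoryTheory CategoryTheory.Limits AlgebraicGeometry Polynomial StabCat TopologicalSpace

noncomputable section

namespace Groth.Agent.HilbPoly

open Groth.Agent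

section PolyOrder

variable {d : ℕ} {P Q R : ℚ[X]}

lemma eventually_sign (P : ℚ[X]) :
    (∃ N : ℕ, ∀ m : ℕ, N ≤ m → 0 < P.eval (m : ℚ)) ∨ P = 0 ∨ (∃ N : ℕ, ∀ m : ℕ, N ≤ m → P.eval (m : ℚ) < 0) := by
  rcases lt_trichotomy (P.coeff P.natDegree) 0 with h | h | h
  · obtain ⟨N, hN⟩ := eventually_pos (P := -P) (d := P.natDegree) (by rw [Polynomial.natDegree_neg])
      (by rw [Polynomial.coeff_neg]; linarith)
    exact Or.inr (Or.inr ⟨N, fun m hm => by simpa using hN m hm⟩)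
  · exact Or.inr (Or.inl (Polynomial.leadingCoeff_eq_zero.1 h))
  · exact Or.inl (eventually_pos le_rfl h)

lemma redLE_or_redLT (d : ℕ) (P Q : ℚ[X]) : RedLE d P Q ∨ RedLT d Q P := by
  rcases eventually_sign (alpha d P • Q - alpha d Q • P) with ⟨N, hN⟩ | h | ⟨N, hN⟩
  · exact Or.inl ⟨N, fun m hm => by have := hN m hm; rw [eval_sub] at this; linarith⟩
  · exact Or.inl ⟨0, fun m _ => by rw [sub_eq_zero.1 h]⟩
  · exact Or.inr ⟨N, fun m hm => by have := hN m hm; rw [eval_sub] at this; linarith⟩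

lemma redLE_of_redLT (h : RedLT d P Q) : RedLE d P Q :=
  let ⟨N, hN⟩ := h; ⟨N, fun m hm => (hN m hm).le⟩

lemma redEq_of_le_le (h₁ : RedLE d P Q) (h₂ : RedLE d Q P) : RedEq d P Q := by
  obtain ⟨N₁, h₁⟩ := h₁
  obtain ⟨N₂, h₂⟩ := h₂
  exact poly_ext (max N₁ N₂) fun m hm =>
    le_antisymm (h₁ m (le_trans (le_max_left _ _) hm)) (h₂ m (le_trans (le_max_right _ _) hm))

lemma redLE_trans (hP : 0 ≤ alpha d P) (hQ : 0 < alpha d Q) (hR : 0 ≤ alpha d R) (h₁ : RedLE d P Q)
    (h₂ : RedLE d Q R) : RedLE d P R := by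
  obtain ⟨N₁, h₁⟩ := h₁
  obtain ⟨N₂, h₂⟩ := h₂
  refine ⟨max N₁ N₂, fun m hm => ?_⟩
  have a := mul_le_mul_of_nonneg_left (h₁ m (le_trans (le_max_left _ _) hm)) hR
  have b := mul_le_mul_of_nonneg_left (h₂ m (le_trans (le_max_right _ _) hm)) hP
  simp only [eval_smul, smul_eq_mul] at a b ⊢
  refine le_of_mul_le_mul_left ?_ hQ
  linarith

lemma not_redLE_of_redLT (h : RedLT d P Q) : ¬ RedLE d Q P := fun h' => by
  obtain ⟨N, hN⟩ := h
  obtain ⟨N', hN'⟩ := h'
  linarith [hN _ (le_max_left N N'), hN' _ (le_max_right N N')]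

lemma redLT_trans_left (hP : 0 < alpha d P) (hQ : 0 < alpha d Q) (hR : 0 ≤ alpha d R) (h₁ : RedLE d P Q)
    (h₂ : RedLT d Q R) : RedLT d P R := by
  obtain ⟨N₁, h₁⟩ := h₁
  obtain ⟨N₂, h₂⟩ := h₂
  refine ⟨max N₁ N₂, fun m hm => ?_⟩
  have a := mul_le_mul_of_nonneg_left (h₁ m (le_trans (le_max_left _ _) hm)) hR
  have b := mul_lt_mul_of_pos_left (h₂ m (le_trans (le_max_right _ _) hm)) hP
  simp only [eval_smul, smul_eq_mul] at a b ⊢
  refine lt_of_mul_lt_mul_left ?_ hQ.le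
  linarith

end PolyOrder

variable {X : Scheme.{u}} {k : Type u} [Field k] [X.Over (Spec (CommRingCat.of k))]
  [IsProper (X ↘ Spec (CommRingCat.of k))] {L : X.Modules} {d : ℕ} {E : X.Modules}

variable (k L) in
/-- Some Hilbert polynomial, if there is one. -/
def hp (F : X.Modules) : ℚ[X] := Classical.epsilon (fun P => ShStab.IsHilbPoly k X L F P)

lemma isHilbPoly_hp (hL : CohB1.IsAmple L) {F : X.Modules} (hF : Coh.IsCoh F)
    (hd : topologicalKrullDim ↥(CohB1.support F) ≤ (d : WithBot ℕ∞)) : ShStab.IsHilbPoly k X L F (hp k L F) := by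
  obtain ⟨P, hP, -, -⟩ := exists_hilb (k := k) hL.1 hF hd
  exact Classical.epsilon_spec (p := fun P => ShStab.IsHilbPoly k X L F P) ⟨P, hP⟩

variable (hL : CohB1.IsAmple L) (hE : Coh.IsCoh E) (hd : topologicalKrullDim ↥(CohB1.support E) ≤ (d : WithBot ℕ∞))

include hL hE hd

lemma dim_sub {S : Subobject E} (hS : Coh.IsCoh (S : X.Modules)) :
    topologicalKrullDim ↥(CohB1.support (S : X.Modules)) ≤ (d : WithBot ℕ∞) := dim_mono hS hE S.arrow hd

lemma hp_sub {S : Subobject E} (hS : Coh.IsCoh (S : X.Modules)) :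
    ShStab.IsHilbPoly k X L (S : X.Modules) (hp k L (S : X.Modules)) := isHilbPoly_hp (k := k) hL hS (dim_sub hL hE hd hS)

lemma hp_mk {F : X.Modules} (ι : F ⟶ E) [Mono ι] (hF : Coh.IsCoh F) {p : ℚ[X]}
    (hp' : ShStab.IsHilbPoly k X L F p) :
    Coh.IsCoh (Subobject.mk ι : X.Modules) ∧ hp k L (Subobject.mk ι : X.Modules) = p := by
  have h := isCoh_of_iso (Subobject.underlyingIso ι).symm hF
  exact ⟨h, isHilbPoly_unique (hilb_iso (Subobject.underlyingIso ι) (hp_sub (k := k) hL hE hd h)) hp'⟩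

/-- Along an inclusion the multiplicity grows, and so does the polynomial if the multiplicity does not. -/
lemma mono_data {S T : Subobject E} (hS : Coh.IsCoh (S : X.Modules)) (hT : Coh.IsCoh (T : X.Modules))
    (h : S ≤ T) :
    alpha d (hp k L (S : X.Modules)) ≤ alpha d (hp k L (T : X.Modules)) ∧
      PolyLE (hp k L (S : X.Modules)) (hp k L (T : X.Modules)) := by
  obtain ⟨hQ, hdQ, hpQ⟩ := cokernel_data (k := k) hL hS hT (dim_sub hL hE hd hT) (Subobject.ofLE S T h)
    (hp_sub (k := k) hL hE hd hS) (hp_sub (k := k) hL hE hd hT)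
  refine ⟨?_, ?_⟩
  · have := alpha_nonneg hL hQ hdQ hpQ
    simp only [alpha, Polynomial.coeff_sub] at this ⊢
    linarith
  · obtain ⟨N, hN⟩ := hilb_nonneg hL hQ hdQ hpQ
    exact ⟨N, fun m hm => by have := hN m hm; simp only [eval_zero, eval_sub] at this; linarith⟩

/-- Sum and intersection of two coherent submodules. -/
lemma exists_sum_inter {S T : Subobject E} (hS : Coh.IsCoh (S : X.Modules)) (hT : Coh.IsCoh (T : X.Modules)) :
    ∃ U K : Subobject E, S ≤ U ∧ T ≤ U ∧ K ≤ S ∧ K ≤ T ∧ (∀ W, W ≤ S → W ≤ T → W ≤ K) ∧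
      Coh.IsCoh (U : X.Modules) ∧ Coh.IsCoh (K : X.Modules) ∧
      hp k L (U : X.Modules) + hp k L (K : X.Modules) = hp k L (S : X.Modules) + hp k L (T : X.Modules) := by
  haveI : IsNoetherian X := CurveCohLib.isNoetherian_of_proper (k := k)
  obtain ⟨hQ, hdQ, hpQ⟩ := cokernel_data (k := k) hL hT hE hd T.arrow (hp_sub (k := k) hL hE hd hT) (isHilbPoly_hp (k := k) hL hE hd)
  let f : (S : X.Modules) ⟶ cokernel T.arrow := S.arrow ≫ cokernel.π T.arrow
  obtain ⟨K, I, a, p, b, w, hfac, ha, hb, hpe, hSE, hKc, hIc⟩ := exists_factor (k := k) hS hQ f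
  haveI := ha; haveI := hb; haveI := hpe
  have hdI := dim_mono hIc hQ b hdQ
  obtain ⟨hR, hdR, hpR⟩ := cokernel_data (k := k) hL hIc hQ hdQ b (isHilbPoly_hp (k := k) hL hIc hdI) hpQ
  let π : E ⟶ cokernel b := cokernel.π T.arrow ≫ cokernel.π b
  haveI : Epi π := epi_comp _ _
  obtain ⟨hU, hdU, hpU⟩ := kernel_data (k := k) hL hE hR hd π (isHilbPoly_hp (k := k) hL hE hd) hpR
  have hdS := dim_sub hL hE hd hS
  have hdK := dim_mono hKc hS a hdS
  have hsum := isHilbPoly_unique (hp_sub (k := k) hL hE hd hS)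
    (hilb_add hL.1 hSE hKc hS hIc (isHilbPoly_hp (k := k) hL hKc hdK) (isHilbPoly_hp (k := k) hL hIc hdI))
  obtain ⟨hKc', hK'⟩ := hp_mk (k := k) hL hE hd (a ≫ S.arrow) hKc (isHilbPoly_hp (k := k) hL hKc hdK)
  obtain ⟨hUc', hU'⟩ := hp_mk (k := k) hL hE hd (kernel.ι π) hU hpU
  refine ⟨Subobject.mk (kernel.ι π), Subobject.mk (a ≫ S.arrow), ?_, ?_, Subobject.mk_le_of_comm a rfl, ?_, ?_,
    hUc', hKc', ?_⟩
  · refine Subobject.le_mk_of_comm (kernel.lift π S.arrow ?_) (kernel.lift_ι _ _ _)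
    show S.arrow ≫ cokernel.π T.arrow ≫ cokernel.π b = 0
    rw [← Category.assoc, show S.arrow ≫ cokernel.π T.arrow = f from rfl, ← hfac, Category.assoc,
      cokernel.condition, Limits.comp_zero]
  · exact Subobject.le_mk_of_comm (kernel.lift π T.arrow (by simp [π])) (kernel.lift_ι _ _ _)
  · refine Subobject.mk_le_of_comm (Abelian.monoLift T.arrow (a ≫ S.arrow) ?_) (Abelian.monoLift_comp _ _ _)
    show (a ≫ S.arrow) ≫ cokernel.π T.arrow = 0
    rw [Category.assoc, show S.arrow ≫ cokernel.π T.arrow = f from rfl, ← hfac, ← Category.assoc, w,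
      Limits.zero_comp]
  · intro W hWS hWT
    have h0 : Subobject.ofLE W S hWS ≫ f = 0 := by
      show Subobject.ofLE W S hWS ≫ S.arrow ≫ cokernel.π T.arrow = 0
      rw [← Category.assoc, Subobject.ofLE_arrow, ← Subobject.ofLE_arrow hWT, Category.assoc, cokernel.condition,
        Limits.comp_zero]
    rw [← hfac, ← Category.assoc] at h0
    have h1 : Subobject.ofLE W S hWS ≫ p = 0 := (cancel_mono b).1 (h0.trans Limits.zero_comp.symm)
    refine Subobject.le_mk_of_comm (hSE.exact.lift (Subobject.ofLE W S hWS) h1) ?_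
    rw [← Category.assoc]
    exact (congrArg (· ≫ S.arrow) (hSE.exact.lift_f _ h1)).trans (Subobject.ofLE_arrow hWS)
  · rw [hU', hK', hsum]
    abel

end Groth.Agent.HilbPoly
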